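import Cfsg.Agent.H63.PGVPair
import Mathlib.Algebra.CharP.Lemmas
import Mathlib.GroupTheory.Index

/-!
The replacement lemma for P(G,V) subgroups.
-/

set_option autoImplicit false

universe u

namespace Cfsg.Agent.H63

variable {G : Type*} [Group G] {V : Type u} [AddCommGroup V] [DistribMulAction G V]

/-- The fixed points of a subgroup. -/
def fixS (V : Type u) [AddCommGroup V] [DistribMulAction G V] (S : Subgroup G) : AddSubgroup V where
  carrier := {v | ∀ g ∈ S, g • v = v}
  zero_mem' := fun g _ => smul_zero g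
  add_mem' := fun {v w} hv hw g hg => by rw [smul_add, hv g hg, hw g hg]
  neg_mem' := fun {v} hv g hg => by rw [smul_neg, hv g hg]

/-- The measure `|S| |C_V(S)|`. -/
noncomputable def mS (V : Type u) [AddCommGroup V] [DistribMulAction G V] (S : Subgroup G) : ℕ :=
  Nat.card S * Nat.card (fixS V S)

theorem card_sup_inf_add [Finite V] (X Y : AddSubgroup V) :
    Nat.card X * Nat.card Y = Nat.card ↥(X ⊔ Y) * Nat.card ↥(X ⊓ Y) := by
  have h := AddSubgroup.relIndex_mul_relIndex (⊥ : AddSubgroup V) Y (X ⊔ Y) bot_le le_sup_right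
  rw [AddSubgroup.relIndex_bot_left, AddSubgroup.relIndex_bot_left, AddSubgroup.relIndex_sup_right] at h
  have h2 := AddSubgroup.relIndex_mul_relIndex (⊥ : AddSubgroup V) (X ⊓ Y) X bot_le inf_le_left
  rw [AddSubgroup.relIndex_bot_left, AddSubgroup.relIndex_bot_left, AddSubgroup.inf_relIndex_left] at h2
  rw [← h, ← h2]; ring

theorem card_mul_le_sup_inf [Finite G] (S T : Subgroup G) :
    Nat.card S * Nat.card T ≤ Nat.card ↥(S ⊔ T) * Nat.card ↥(S ⊓ T) := by
  have h2 := Subgroup.relIndex_mul_relIndex (⊥ : Subgroup G) (S ⊓ T) S bot_le inf_le_left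
  rw [Subgroup.relIndex_bot_left, Subgroup.relIndex_bot_left, Subgroup.inf_relIndex_left] at h2
  have h := Subgroup.relIndex_mul_relIndex (⊥ : Subgroup G) T (S ⊔ T) bot_le le_sup_right
  rw [Subgroup.relIndex_bot_left, Subgroup.relIndex_bot_left] at h
  have hne : T.relIndex (S ⊔ T) ≠ 0 := by
    intro h0
    rw [h0, mul_zero] at h
    exact (Nat.card_pos : 0 < Nat.card ↥(S ⊔ T)).ne h
  have hle : T.relIndex S ≤ T.relIndex (S ⊔ T) := Subgroup.relIndex_le_of_le_right le_sup_left hne
  rw [← h, ← h2]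
  calc Nat.card ↥(S ⊓ T) * T.relIndex S * Nat.card T ≤ Nat.card ↥(S ⊓ T) * T.relIndex (S ⊔ T) * Nat.card T :=
        Nat.mul_le_mul_right _ (Nat.mul_le_mul_left _ hle)
    _ = _ := by ring

theorem fixS_sup (S T : Subgroup G) : fixS V (S ⊔ T) = fixS V S ⊓ fixS V T := by
  refine le_antisymm (le_inf (fun v hv g hg => hv g (le_sup_left (a := S) hg))
    (fun v hv g hg => hv g (le_sup_right (a := S) hg))) ?_
  intro v hv
  have h : S ⊔ T ≤ MulAction.stabilizer G v := sup_le (fun g hg => hv.1 g hg) (fun g hg => hv.2 g hg)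
  exact fun g hg => h hg

/-- Members of the set of maximizers are closed under intersection. -/
theorem member_inf [Finite G] [Finite V] (A S T : Subgroup G) (hP : ∀ B ≤ A, mS V B ≤ mS V A)
    (hS : S ≤ A) (hT : T ≤ A) (mS' : mS V S = mS V A) (mT' : mS V T = mS V A) :
    mS V (S ⊓ T) = mS V A ∧ fixS V (S ⊓ T) = fixS V S ⊔ fixS V T := by
  have hM : 0 < mS V A := Nat.mul_pos Nat.card_pos Nat.card_pos
  have hle : fixS V S ⊔ fixS V T ≤ fixS V (S ⊓ T) :=
    sup_le (fun v hv g hg => hv g hg.1) (fun v hv g hg => hv g hg.2)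
  have hc := AddSubgroup.card_le_of_le hle
  have key : mS V A * mS V A ≤ mS V (S ⊔ T) * (Nat.card ↥(S ⊓ T) * Nat.card ↥(fixS V S ⊔ fixS V T)) := by
    calc mS V A * mS V A = mS V S * mS V T := by rw [mS', mT']
      _ = (Nat.card S * Nat.card T) * (Nat.card (fixS V S) * Nat.card (fixS V T)) := by unfold mS; ring
      _ ≤ (Nat.card ↥(S ⊔ T) * Nat.card ↥(S ⊓ T)) * (Nat.card (fixS V S) * Nat.card (fixS V T)) :=
          Nat.mul_le_mul_right _ (card_mul_le_sup_inf S T)
      _ = _ := by rw [card_sup_inf_add, ← fixS_sup]; unfold mS; ring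
  have h1 : mS V A ≤ Nat.card ↥(S ⊓ T) * Nat.card ↥(fixS V S ⊔ fixS V T) := by
    refine Nat.le_of_mul_le_mul_left (key.trans ?_) hM
    exact Nat.mul_le_mul_right _ (hP _ (sup_le hS hT))
  have h2 : Nat.card ↥(S ⊓ T) * Nat.card ↥(fixS V S ⊔ fixS V T) ≤ mS V (S ⊓ T) := Nat.mul_le_mul_left _ hc
  have h3 := hP (S ⊓ T) (inf_le_left.trans hS)
  refine ⟨le_antisymm h3 (h1.trans h2), (AddSubgroup.eq_of_le_of_card_ge hle ?_).symm⟩
  exact Nat.le_of_mul_le_mul_left (h3.trans h1) Nat.card_pos

theorem pow_sub_one_eq_zero {p : ℕ} [Fact p.Prime] (hV : ∀ v : V, p • v = 0) (g : G) (hg : g ^ p = 1) :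
    (DistribMulAction.toAddMonoidEnd G V g - 1) ^ p = 0 := by
  set x := DistribMulAction.toAddMonoidEnd G V g with hx
  have hp0 : (p : AddMonoid.End V) = 0 := by
    apply AddMonoidHom.ext
    intro v
    exact (AddMonoid.End.natCast_apply p v).trans (hV v)
  have hc : Commute x (-1) := (Commute.one_right _).neg_right
  obtain ⟨r, hr⟩ := hc.exists_add_pow_prime_eq (Fact.out : p.Prime)
  rw [sub_eq_add_neg, hr, hp0, zero_mul, zero_mul, zero_mul, add_zero, hx, ← map_pow, hg, map_one]
  rcases (Fact.out : p.Prime).eq_two_or_odd' with h | h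
  · subst h
    rw [neg_one_sq, one_add_one_eq_two]
    exact_mod_cast hp0
  · rw [h.neg_one_pow, add_neg_cancel]

/-- A subgroup contained in its own displacement is trivial. -/
theorem bot_of_le_displacement {ι : Type*} (N : ι → AddMonoid.End V) (hc : ∀ i j, Commute (N i) (N j))
    (p : ℕ) (hN : ∀ i, N i ^ p = 0) (U : AddSubgroup V) (hinv : ∀ i, U.map (N i) ≤ U) (s : Finset ι)
    (hU : U ≤ s.sup fun i => U.map (N i)) : U = ⊥ := by
  classical
  induction s using Finset.induction with
  | empty => simpa using hU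
  | insert i s his ih =>
    apply ih
    rw [Finset.sup_insert] at hU
    set R := s.sup fun i => U.map (N i) with hR
    have hRi : R.map (N i) ≤ R := by
      refine AddSubgroup.map_le_iff_le_comap.2 ?_
      refine Finset.sup_le fun j hj => ?_
      rintro _ ⟨x, hx, rfl⟩
      refine (Finset.le_sup (f := fun i => U.map (N i)) hj) ⟨N i x, hinv i ⟨x, hx, rfl⟩, ?_⟩
      exact congrArg (fun f : AddMonoid.End V => f x) (hc j i).eq
    have hpow : ∀ m, U ≤ U.map (N i ^ m) ⊔ R := by
      intro m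
      induction m with
      | zero =>
        exact le_sup_of_le_left (fun x hx => ⟨x, hx, congrArg (fun f : AddMonoid.End V => f x) (pow_zero (N i))⟩)
      | succ m ihm =>
        refine hU.trans (sup_le ?_ le_sup_right)
        refine (AddSubgroup.map_mono ihm).trans ?_
        refine (le_of_eq (AddSubgroup.map_sup _ _ _)).trans ?_
        refine sup_le_sup ?_ hRi
        rintro _ ⟨_, ⟨x, hx, rfl⟩, rfl⟩
        exact ⟨x, hx, congrArg (fun f : AddMonoid.End V => f x) (pow_succ' (N i) m)⟩
    refine (hpow p).trans (sup_le ?_ le_rfl)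
    rintro _ ⟨x, -, rfl⟩
    have h0 : (N i ^ p : AddMonoid.End V) x = 0 := congrArg (fun f : AddMonoid.End V => f x) (hN i)
    exact h0.symm ▸ zero_mem R

/-- Timmesfeld replacement. -/
theorem replacement [Finite G] [Finite V] {p : ℕ} [Fact p.Prime] (hV : ∀ v : V, p • v = 0) (A : Subgroup G)
    (hcomm : ∀ a ∈ A, ∀ b ∈ A, a * b = b * a) (hexp : ∀ a ∈ A, a ^ p = 1)
    (hfaith : ∀ a ∈ A, (∀ v : V, a • v = v) → a = 1) (hA : A ≠ ⊥)
    (hP : ∀ B ≤ A, mS V B ≤ mS V A) :
    ∃ B ≤ A, B ≠ ⊥ ∧ mS V B = mS V A ∧ ∀ b ∈ B, ∀ a ∈ A, ∀ v : V, b • (a • v - v) = a • v - v := by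
  classical
  haveI : Fintype V := Fintype.ofFinite V
  haveI : Fintype A := Fintype.ofFinite A
  set e := DistribMulAction.toAddMonoidEnd G V with he
  let N : A → AddMonoid.End V := fun a => e (a : G) - 1
  have hNapp : ∀ (a : A) v, N a v = (a : G) • v - v := fun _ _ => rfl
  let U : AddSubgroup V := Finset.univ.sup fun a => (⊤ : AddSubgroup V).map (N a)
  set C := fixS V A with hC
  let D : Finset V → Subgroup G := fun s =>
    { carrier := {d | d ∈ A ∧ ∀ v ∈ s, ∀ a ∈ A, d • (a • v - v) = a • v - v}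
      one_mem' := ⟨one_mem A, fun v _ a _ => one_smul G _⟩
      mul_mem' := fun {x y} hx hy => ⟨mul_mem hx.1 hy.1, fun v hv a ha => by
        rw [mul_smul, hy.2 v hv a ha, hx.2 v hv a ha]⟩
      inv_mem' := fun {x} hx => ⟨inv_mem hx.1, fun v hv a ha => by
        rw [inv_smul_eq_iff, hx.2 v hv a ha]⟩ }
  have hDA : ∀ s, D s ≤ A := fun s d hd => hd.1
  have hM : 0 < mS V A := Nat.mul_pos Nat.card_pos Nat.card_pos
  have hsing : ∀ v : V, mS V (D {v}) = mS V A ∧ fixS V (D {v}) ≤ C ⊔ U := by
    intro v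
    let D' := (D {v}).subgroupOf A
    let f : (A ⧸ D') × C → fixS V (D {v}) := fun q => ⟨((q.1.out : G) • v - v) + q.2, fun d hd => by
      rw [smul_add, hd.2 v (Finset.mem_singleton_self v) _ q.1.out.2, q.2.2 d hd.1]⟩
    have hf : Function.Injective f := by
      intro q q' h
      have h' : ((q.1.out : G) • v - v) + (q.2 : V) = ((q'.1.out : G) • v - v) + q'.2 := congrArg Subtype.val h
      have hmem : q.1.out⁻¹ * q'.1.out ∈ D' := by
        refine ⟨(q.1.out⁻¹ * q'.1.out).2, fun u hu a ha => ?_⟩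
        rw [Finset.mem_singleton] at hu
        subst hu
        have hd : ∀ a ∈ A, a • ((q'.1.out : G) • u - (q.1.out : G) • u) = (q'.1.out : G) • u - (q.1.out : G) • u := by
          intro a ha
          have e0 : (q'.1.out : G) • u - (q.1.out : G) • u = (q.2 : V) - q'.2 := by
            rw [sub_eq_sub_iff_add_eq_add]
            calc (q'.1.out : G) • u + (q'.2 : V) = (((q'.1.out : G) • u - u) + q'.2) + u := by abel
              _ = (((q.1.out : G) • u - u) + q.2) + u := by rw [h']
              _ = _ := by abel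
          rw [e0, smul_sub, q.2.2 a ha, q'.2.2 a ha]
        set x : G := (q.1.out : G) with hx
        set x' : G := (q'.1.out : G) with hx'
        show (x⁻¹ * x') • (a • u - u) = a • u - u
        have hd' : a • (x⁻¹ • (x' • u - x • u)) = x⁻¹ • (x' • u - x • u) := by
          rw [← mul_smul, hcomm a ha x⁻¹ (inv_mem q.1.out.2), mul_smul, hd a ha]
        rw [smul_sub x⁻¹, inv_smul_smul, ← mul_smul] at hd'
        rw [smul_sub, ← mul_smul, ← hcomm a ha _ (mul_mem (inv_mem q.1.out.2) q'.1.out.2), mul_smul]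
        rw [smul_sub] at hd'
        calc a • (x⁻¹ * x') • u - (x⁻¹ * x') • u
            = (a • (x⁻¹ * x') • u - a • u) - ((x⁻¹ * x') • u - u) + (a • u - u) := by abel
          _ = _ := by rw [hd', sub_self, zero_add]
      have h1 : q.1 = q'.1 := by
        rw [← Quotient.out_eq' q.1, ← Quotient.out_eq' q'.1]
        exact QuotientGroup.eq.2 hmem
      rw [h1] at h'
      exact Prod.ext h1 (Subtype.ext (add_left_cancel h'))
    have hcard : Nat.card A = Nat.card (A ⧸ D') * Nat.card (D {v}) := by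
      rw [Subgroup.card_eq_card_quotient_mul_card_subgroup D',
        Nat.card_congr (Subgroup.subgroupOfEquivOfLe (hDA _)).toEquiv]
    have hle := Nat.card_le_card_of_injective f hf
    rw [Nat.card_prod] at hle
    have h1 : mS V A ≤ mS V (D {v}) := by
      unfold mS
      rw [hcard]
      calc Nat.card (A ⧸ D') * Nat.card (D {v}) * Nat.card C
          = Nat.card (D {v}) * (Nat.card (A ⧸ D') * Nat.card C) := by ring
        _ ≤ _ := Nat.mul_le_mul_left _ hle
    have heq := le_antisymm (hP _ (hDA _)) h1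
    refine ⟨heq, fun x hx => ?_⟩
    have hsurj : Function.Surjective f := by
      have heq' : Nat.card ((A ⧸ D') × C) = Nat.card (fixS V (D {v})) := by
        rw [Nat.card_prod]
        refine le_antisymm hle (Nat.le_of_mul_le_mul_left (le_of_eq ?_) (Nat.card_pos : 0 < Nat.card (D {v})))
        calc Nat.card (D {v}) * Nat.card (fixS V (D {v})) = mS V (D {v}) := rfl
          _ = mS V A := heq
          _ = _ := by unfold mS; rw [hcard, ← hC]; ring
      exact ((Nat.bijective_iff_injective_and_card f).2 ⟨hf, heq'⟩).2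
    obtain ⟨q, hq⟩ := hsurj ⟨x, hx⟩
    rw [show x = (f q : V) by rw [hq]]
    refine add_mem ?_ (AddSubgroup.mem_sup_left q.2.2)
    refine AddSubgroup.mem_sup_right ((Finset.le_sup (f := fun a => (⊤ : AddSubgroup V).map (N a))
      (Finset.mem_univ q.1.out)) ⟨v, trivial, rfl⟩)
  have hall : ∀ s : Finset V, mS V (D s) = mS V A ∧ fixS V (D s) ≤ C ⊔ U := by
    intro s
    induction s using Finset.induction with
    | empty =>
      have h : D ∅ = A := le_antisymm (hDA _) (fun d hd => ⟨hd, fun v hv => absurd hv (by simp)⟩)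
      rw [h]
      exact ⟨rfl, le_sup_left⟩
    | insert v s hvs ih =>
      have h : D (insert v s) = D {v} ⊓ D s := by
        ext d
        constructor
        · intro hd
          exact ⟨⟨hd.1, fun u hu => hd.2 u (by simp at hu; simp [hu])⟩, ⟨hd.1, fun u hu => hd.2 u (Finset.mem_insert_of_mem hu)⟩⟩
        · intro hd
          refine ⟨hd.1.1, fun u hu => ?_⟩
          rcases Finset.mem_insert.1 hu with rfl | hu
          · exact hd.1.2 u (Finset.mem_singleton_self _)
          · exact hd.2.2 u hu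
      rw [h]
      obtain ⟨e1, e2⟩ := member_inf A (D {v}) (D s) hP (hDA _) (hDA _) (hsing v).1 ih.1
      exact ⟨e1, e2 ▸ sup_le (hsing v).2 ih.2⟩
  refine ⟨D Finset.univ, hDA _, ?_, (hall _).1, fun b hb a ha v => hb.2 v (Finset.mem_univ v) a ha⟩
  intro hbot
  apply hA
  have htop : ∀ x : V, x ∈ C ⊔ U := by
    intro x
    refine (hall Finset.univ).2 ?_
    intro g hg
    rw [hbot, Subgroup.mem_bot] at hg
    rw [hg, one_smul]
  have hNc : ∀ i j : A, Commute (N i) (N j) := by
    intro i j
    have : Commute (e (i : G)) (e (j : G)) := Commute.map (hcomm _ i.2 _ j.2) e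
    exact ((this.sub_left (Commute.one_left _)).sub_right (((Commute.one_right _).sub_left (Commute.one_right _))))
  have hzero : ∀ (a : A) (c : V), c ∈ C → N a c = 0 := fun a c hc => by rw [hNapp, hc _ a.2, sub_self]
  have hU0 : U = ⊥ := by
    refine bot_of_le_displacement N hNc p (fun a => pow_sub_one_eq_zero hV _ (hexp _ a.2)) U ?_ Finset.univ ?_
    · intro a
      exact (AddSubgroup.map_mono le_top).trans (Finset.le_sup (f := fun a => (⊤ : AddSubgroup V).map (N a)) (Finset.mem_univ a))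
    · refine Finset.sup_le fun a _ => ?_
      refine le_trans ?_ (Finset.le_sup (f := fun a => U.map (N a)) (Finset.mem_univ a))
      rintro _ ⟨x, -, rfl⟩
      obtain ⟨c, hc, w, hw, rfl⟩ := AddSubgroup.mem_sup.1 (htop x)
      exact ⟨w, hw, by show N a w = N a (c + w); rw [hNapp, hNapp, smul_add, hc _ a.2]; abel⟩
  rw [Subgroup.eq_bot_iff_forall]
  intro a ha
  refine hfaith a ha fun v => ?_
  have hmem : N ⟨a, ha⟩ v ∈ U := (Finset.le_sup (f := fun a => (⊤ : AddSubgroup V).map (N a)) (Finset.mem_univ _)) ⟨v, trivial, rfl⟩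
  rw [hU0, AddSubgroup.mem_bot, hNapp] at hmem
  exact sub_eq_zero.1 hmem

end Cfsg.Agent.H63
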