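import Mathlib

/-!
Non-abelian groups of order 64 with a fixed-point-free automorphism of order 3: basic structure
(centre four-group, central commutator, bilinear commutator pairing, coordinates).
-/

set_option autoImplicit false

namespace Cfsg.Agent.H63.SixtyFour

open Subgroup

variable {T : Type*} [Group T] [Finite T]

theorem norm_one (σ : T ≃* T) (h3 : ∀ y, σ (σ (σ y)) = y) (hfp : ∀ y, σ y = y → y = 1) (y : T) :
    y * σ y * σ (σ y) = 1 := by
  have hinj : Function.Injective (fun x : T => x⁻¹ * σ x) := by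
    intro a b h
    have h' : a⁻¹ * σ a = b⁻¹ * σ b := h
    have : σ (b * a⁻¹) = b * a⁻¹ := by
      rw [map_mul, map_inv]
      have e1 : σ a = a * (b⁻¹ * σ b) := by rw [← h', mul_inv_cancel_left]
      rw [e1]
      group
    exact (mul_inv_eq_one.1 (hfp _ this)).symm
  obtain ⟨x, hx⟩ := Finite.surjective_of_injective hinj y
  subst hx
  simp only [map_mul, map_inv, h3]
  group

theorem sq_fp (σ : T ≃* T) (h3 : ∀ y, σ (σ (σ y)) = y) (hfp : ∀ y, σ y = y → y = 1) :
    ∀ y, σ.trans σ y = y → y = 1 := by
  intro y hy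
  rw [MulEquiv.trans_apply] at hy
  have := h3 y
  rw [hy] at this
  exact hfp y this

theorem comm_self (σ : T ≃* T) (h3 : ∀ y, σ (σ (σ y)) = y) (hfp : ∀ y, σ y = y → y = 1) (y : T) :
    y * σ y = σ y * y := by
  have h1 := norm_one σ h3 hfp (σ (σ y))
  have h2 := norm_one (σ.trans σ) (by intro w; simp only [MulEquiv.trans_apply, h3])
    (sq_fp σ h3 hfp) (σ (σ y))
  simp only [MulEquiv.trans_apply, h3] at h1 h2
  rw [mul_assoc] at h1 h2
  exact mul_left_cancel (h1.trans h2.symm)

theorem card_mod_three (σ : T ≃* T) (h3 : ∀ y, σ (σ (σ y)) = y) (hfp : ∀ y, σ y = y → y = 1)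
    (H : Subgroup T) (hH : ∀ y ∈ H, σ y ∈ H) : Nat.card H % 3 = 1 := by
  classical
  haveI := Fintype.ofFinite H
  haveI : Fact (Nat.Prime 3) := ⟨by norm_num⟩
  let e : Equiv.Perm H :=
    { toFun := fun y => ⟨σ y, hH _ y.2⟩
      invFun := fun y => ⟨σ (σ y), hH _ (hH _ y.2)⟩
      left_inv := fun y => Subtype.ext (h3 y)
      right_inv := fun y => Subtype.ext (h3 y) }
  have he : e ^ 3 ^ 1 = 1 := by
    ext y
    show σ (σ (σ y)) = y
    exact h3 y
  have h := Equiv.Perm.card_compl_support_modEq he
  have hs : e.supportᶜ = {1} := by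
    ext y
    rw [Finset.mem_compl, Equiv.Perm.mem_support, not_not, Finset.mem_singleton]
    constructor
    · intro hy
      exact Subtype.ext (hfp _ (congrArg Subtype.val hy))
    · rintro rfl
      exact Subtype.ext (map_one σ)
  rw [hs, Finset.card_singleton, ← Nat.card_eq_fintype_card] at h
  simpa [Nat.ModEq] using h.symm

/-- the standing data -/
structure Dat (T : Type*) [Group T] [Finite T] where
  σ : T ≃* T
  h3 : ∀ y, σ (σ (σ y)) = y
  hfp : ∀ y, σ y = y → y = 1
  card : Nat.card T = 64
  hna : ¬ IsMulCommutative T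

namespace Dat

variable (d : Dat T)

omit [Finite T] in
theorem map_center (σ : T ≃* T) {w : T} (hw : w ∈ center T) : σ w ∈ center T := by
  rw [mem_center_iff] at hw ⊢
  intro g
  obtain ⟨g, rfl⟩ := σ.surjective g
  rw [← map_mul, ← map_mul, hw g]

include d in
theorem isPGroup : IsPGroup 2 T := IsPGroup.of_card (n := 6) d.card

include d in
theorem grow (H : Subgroup T) (hH : ∀ y ∈ H, d.σ y ∈ H) (h : 16 ≤ Nat.card H) :
    Nat.card H = 16 ∨ H = ⊤ := by
  have hdvd := Subgroup.card_subgroup_dvd_card H
  rw [d.card] at hdvd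
  have hm := card_mod_three d.σ d.h3 d.hfp H hH
  have hle := Nat.le_of_dvd (by norm_num) hdvd
  have h4 : Nat.card H = 16 ∨ Nat.card H = 64 := by
    have : Nat.card H ∈ Nat.divisors 64 := Nat.mem_divisors.2 ⟨hdvd, by norm_num⟩
    have e : Nat.divisors 64 = {1, 2, 4, 8, 16, 32, 64} := by decide
    rw [e] at this
    simp only [Finset.mem_insert, Finset.mem_singleton] at this
    omega
  rcases h4 with h4 | h4
  · exact Or.inl h4
  · exact Or.inr (Subgroup.eq_top_of_card_eq _ (by rw [h4, d.card]))

include d in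
theorem gen_with (W : Subgroup T) (hW : ∀ y ∈ W, d.σ y ∈ W) (hc : Nat.card W = 16) {y : T}
    (hy : y ∉ W) : Subgroup.closure ((W : Set T) ∪ {y, d.σ y}) = ⊤ := by
  set H := Subgroup.closure ((W : Set T) ∪ {y, d.σ y}) with hHdef
  have hWH : W ≤ H := fun w hw => Subgroup.subset_closure (Or.inl hw)
  have hyH : y ∈ H := Subgroup.subset_closure (Or.inr (by simp))
  have hsyH : d.σ y ∈ H := Subgroup.subset_closure (Or.inr (by simp))
  have hinv : ∀ g ∈ H, d.σ g ∈ H := by
    intro g hg
    have hle : H ≤ H.comap d.σ.toMonoidHom := by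
      rw [hHdef, Subgroup.closure_le]
      intro a ha
      show d.σ a ∈ H
      rcases ha with ha | ha | ha
      · exact hWH (hW a ha)
      · rw [ha]; exact hsyH
      · rw [ha]
        have h1 := norm_one d.σ d.h3 d.hfp y
        rw [← mul_eq_one_iff_inv_eq.1 h1]
        exact inv_mem (mul_mem hyH hsyH)
    exact hle hg
  have hlt : W < H := lt_of_le_of_ne hWH (fun h => hy (h ▸ hyH))
  rcases d.grow H hinv (hc ▸ Subgroup.card_le_of_le hWH) with h | h
  · exact absurd h (by
      intro h
      exact hlt.ne (Subgroup.eq_of_le_of_card_ge hWH (by omega)))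
  · exact h

include d in
theorem card_center : Nat.card (center T) = 4 := by
  haveI : Fact (Nat.Prime 2) := ⟨Nat.prime_two⟩
  haveI : Nontrivial T := Finite.one_lt_card_iff_nontrivial.1 (by rw [d.card]; norm_num)
  have hm := card_mod_three d.σ d.h3 d.hfp (center T) (fun y hy => map_center d.σ hy)
  have hnt := d.isPGroup.center_nontrivial
  have h1 : 1 < Nat.card (center T) := Finite.one_lt_card_iff_nontrivial.2 hnt
  have hd := Subgroup.card_subgroup_dvd_card (center T)
  rw [d.card] at hd
  have h2 : Nat.card (center T) ∈ Nat.divisors 64 := Nat.mem_divisors.2 ⟨hd, by norm_num⟩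
  have e : Nat.divisors 64 = {1, 2, 4, 8, 16, 32, 64} := by decide
  rw [e] at h2
  simp only [Finset.mem_insert, Finset.mem_singleton] at h2
  rcases h2 with h | h | h | h | h | h | h <;> first | omega | skip
  · exfalso
    obtain ⟨y, hy⟩ : ∃ y, y ∉ center T := by
      by_contra hh
      push Not at hh
      exact d.hna ⟨⟨fun a b => (mem_center_iff.1 (hh b)) a⟩⟩
    have hg := d.gen_with (center T) (fun y hy => map_center d.σ hy) h hy
    refine d.hna ⟨⟨fun a b => ?_⟩⟩
    have hcomm : ∀ p ∈ (center T : Set T) ∪ {y, d.σ y}, ∀ q ∈ (center T : Set T) ∪ {y, d.σ y},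
        p * q = q * p := by
      intro p hp q hq
      rcases hp with hp | hp
      · exact (mem_center_iff.1 hp q).symm
      rcases hq with hq | hq
      · exact mem_center_iff.1 hq p
      rcases hp with hp | hp <;> rcases hq with hq | hq <;> rw [hp, hq]
      · exact comm_self d.σ d.h3 d.hfp y
      · exact (comm_self d.σ d.h3 d.hfp y).symm
    haveI := Subgroup.isMulCommutative_closure hcomm
    have := this.is_comm.comm (⟨a, hg ▸ Subgroup.mem_top a⟩ : Subgroup.closure _)
      ⟨b, hg ▸ Subgroup.mem_top b⟩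
    exact congrArg Subtype.val this
  · exfalso
    exact d.hna ⟨⟨fun a b => by
      have := (Subgroup.eq_top_of_card_eq (center T) (by rw [h, d.card]))
      exact mem_center_iff.1 (this ▸ Subgroup.mem_top b) a⟩⟩

include d in
theorem quot_comm (a b : T ⧸ center T) : a * b = b * a := by
  haveI : Fact (Nat.Prime 2) := ⟨Nat.prime_two⟩
  have hq : Nat.card (T ⧸ center T) = 16 := by
    have := (center T).card_eq_card_quotient_mul_card_subgroup
    rw [d.card, d.card_center] at this
    omega
  haveI : Nontrivial (T ⧸ center T) := Finite.one_lt_card_iff_nontrivial.1 (by rw [hq]; norm_num)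
  have hnt := (IsPGroup.of_card (n := 4) hq : IsPGroup 2 (T ⧸ center T)).center_nontrivial
  set π := QuotientGroup.mk' (center T)
  set W := (center (T ⧸ center T)).comap π with hWdef
  have hmemW : ∀ w, w ∈ W ↔ ∀ t, (t * w)⁻¹ * (w * t) ∈ center T := by
    intro w
    rw [hWdef, mem_comap, mem_center_iff]
    constructor
    · intro h t
      exact QuotientGroup.eq.1 (h (π t))
    · intro h g
      obtain ⟨t, rfl⟩ := QuotientGroup.mk'_surjective _ g
      exact QuotientGroup.eq.2 (h t)
  have hinv : ∀ w ∈ W, d.σ w ∈ W := by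
    intro w hw
    rw [hmemW] at hw ⊢
    intro t
    obtain ⟨t, rfl⟩ := d.σ.surjective t
    rw [← map_mul, ← map_mul, ← map_inv, ← map_mul]
    exact map_center d.σ (hw t)
  have hcW : 8 ≤ Nat.card W := by
    have h1 : 1 < Nat.card (center (T ⧸ center T)) := Finite.one_lt_card_iff_nontrivial.2 hnt
    have h2 : Nat.card W = Nat.card (center T) * Nat.card (center (T ⧸ center T)) := by
      have hi : W.index = (center (T ⧸ center T)).index :=
        Subgroup.index_comap_of_surjective _ (QuotientGroup.mk'_surjective _)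
      have a1 := W.card_mul_index
      have a2 := (center (T ⧸ center T)).card_mul_index
      rw [d.card] at a1
      rw [hq] at a2
      rw [hi] at a1
      rw [d.card_center]
      have a3 : Nat.card W * (center (T ⧸ center T)).index
          = (4 * Nat.card (center (T ⧸ center T))) * (center (T ⧸ center T)).index := by
        rw [a1, mul_assoc, a2]; norm_num
      exact Nat.eq_of_mul_eq_mul_right (Nat.pos_of_ne_zero Subgroup.index_ne_zero_of_finite) a3
    rw [h2, d.card_center]
    omega
  have htop : W = ⊤ := by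
    have hm := card_mod_three d.σ d.h3 d.hfp W hinv
    have hd := Subgroup.card_subgroup_dvd_card W
    rw [d.card] at hd
    have h16 : 16 ≤ Nat.card W := by
      have h2 : Nat.card W ∈ Nat.divisors 64 := Nat.mem_divisors.2 ⟨hd, by norm_num⟩
      have e : Nat.divisors 64 = {1, 2, 4, 8, 16, 32, 64} := by decide
      rw [e] at h2
      simp only [Finset.mem_insert, Finset.mem_singleton] at h2
      omega
    rcases d.grow W hinv h16 with h | h
    · obtain ⟨y, hy⟩ : ∃ y, y ∉ W := by
        by_contra hh
        push Not at hh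
        rw [(eq_top_iff' W).2 hh, Subgroup.card_top, d.card] at h
        omega
      have hg := d.gen_with W hinv h hy
      rw [eq_top_iff' W]
      intro g
      rw [hWdef, mem_comap, mem_center_iff]
      intro q
      obtain ⟨t, rfl⟩ := QuotientGroup.mk'_surjective _ q
      have hcomm : ∀ p ∈ (W : Set T) ∪ {y, d.σ y}, ∀ q ∈ (W : Set T) ∪ {y, d.σ y},
          π p * π q = π q * π p := by
        intro p hp q hq
        rcases hp with hp | hp
        · exact ((mem_center_iff.1 hp) (π q)).symm
        rcases hq with hq | hq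
        · exact (mem_center_iff.1 hq) (π p)
        rcases hp with hp | hp <;> rcases hq with hq | hq <;> rw [hp, hq]
        · rw [← map_mul, comm_self d.σ d.h3 d.hfp y, map_mul]
        · rw [← map_mul, ← comm_self d.σ d.h3 d.hfp y, map_mul]
      have hc2 : ∀ p ∈ π '' ((W : Set T) ∪ {y, d.σ y}), ∀ q ∈ π '' ((W : Set T) ∪ {y, d.σ y}),
          p * q = q * p := by
        rintro _ ⟨p, hp, rfl⟩ _ ⟨q, hq, rfl⟩
        exact hcomm p hp q hq
      haveI := Subgroup.isMulCommutative_closure hc2
      have hall : ∀ t, π t ∈ Subgroup.closure (π '' ((W : Set T) ∪ {y, d.σ y})) := by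
        intro t
        rw [← MonoidHom.map_closure, hg]
        exact Subgroup.mem_map_of_mem _ (Subgroup.mem_top t)
      have := this.is_comm.comm (⟨π t, hall t⟩ : Subgroup.closure _) ⟨π g, hall g⟩
      exact congrArg Subtype.val this
    · exact h
  obtain ⟨a, rfl⟩ := QuotientGroup.mk'_surjective _ a
  have : a ∈ W := htop ▸ Subgroup.mem_top a
  rw [hWdef, mem_comap, mem_center_iff] at this
  exact (this b).symm

/-- the commutator -/
def c (a b : T) : T := a * b * a⁻¹ * b⁻¹

include d in
theorem c_mem (a b : T) : c a b ∈ center T := by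
  rw [← QuotientGroup.eq_one_iff]
  show QuotientGroup.mk' (center T) (a * b * a⁻¹ * b⁻¹) = 1
  rw [map_mul, map_mul, map_mul, map_inv, map_inv,
    d.quot_comm (QuotientGroup.mk' (center T) a) (QuotientGroup.mk' (center T) b)]
  group

include d in
theorem comm_c (a b g : T) : g * c a b = c a b * g := mem_center_iff.1 (d.c_mem a b) g

omit [Finite T] in
theorem c_self (a : T) : c a a = 1 := by unfold c; group

omit [Finite T] in
theorem mul_eq (a b : T) : a * b = c a b * (b * a) := by unfold c; group

include d in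
theorem c_mul_left (a b g : T) : c (a * b) g = c a g * c b g := by
  have h : c (a * b) g = a * c b g * a⁻¹ * c a g := by unfold c; group
  rw [h, d.comm_c b g a, mul_inv_cancel_right, ← d.comm_c a g]

include d in
theorem c_mul_right (a b g : T) : c a (b * g) = c a b * c a g := by
  have h : c a (b * g) = c a b * (b * c a g * b⁻¹) := by unfold c; group
  rw [h, d.comm_c a g b, mul_inv_cancel_right]

omit [Finite T] in
theorem c_swap (a b : T) : c b a = (c a b)⁻¹ := by unfold c; group

omit [Finite T] in
theorem c_map (σ : T ≃* T) (a b : T) : σ (c a b) = c (σ a) (σ b) := by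
  unfold c; simp only [map_mul, map_inv]

omit [Finite T] in
theorem c_central_left {w : T} (hw : w ∈ center T) (g : T) : c w g = 1 := by
  unfold c; rw [← mem_center_iff.1 hw g]; group

include d in
theorem center_sq {w : T} (hw : w ∈ center T) : w * w = 1 := by
  by_contra hs
  have h4 : w ^ 4 = 1 := by
    have := orderOf_dvd_natCard (⟨w, hw⟩ : center T)
    rw [d.card_center] at this
    have h := orderOf_dvd_iff_pow_eq_one.1 this
    exact congrArg Subtype.val h
  have h2 : orderOf w = 4 := orderOf_eq_prime_pow (p := 2) (n := 1) (by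
    rw [pow_one, pow_two]; exact hs) h4
  have hz : Subgroup.zpowers w = center T := by
    refine Subgroup.eq_of_le_of_card_ge (Subgroup.zpowers_le.2 hw) ?_
    rw [d.card_center, Nat.card_zpowers, h2]
  have hmem : d.σ w ∈ Subgroup.zpowers w := hz ▸ map_center d.σ hw
  obtain ⟨i, hi⟩ := Subgroup.mem_zpowers_iff.1 hmem
  have hfix : d.σ (w * w) = w * w ∨ d.σ (w * w) = 1 := by
    rw [map_mul, ← hi, ← zpow_add]
    obtain ⟨k, hk⟩ := Int.even_or_odd' i
    rcases hk with rfl | rfl
    · right
      rw [show 2 * k + 2 * k = (4 : ℕ) * k by push_cast; ring, zpow_mul, zpow_natCast, h4, one_zpow]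
    · left
      rw [show 2 * k + 1 + (2 * k + 1) = (4 : ℕ) * k + 2 by push_cast; ring, zpow_add, zpow_mul,
        zpow_natCast, h4, one_zpow, one_mul, zpow_two]
  rcases hfix with h | h
  · exact hs (d.hfp _ h)
  · exact hs ((MulEquiv.map_eq_one_iff _).1 h)

include d in
theorem c_sq (a b : T) : c a b * c a b = 1 := d.center_sq (d.c_mem a b)

include d in
theorem c_inv (a b : T) : (c a b)⁻¹ = c a b := inv_eq_of_mul_eq_one_right (d.c_sq a b)

include d in
theorem c_comm (a b : T) : c b a = c a b := by rw [c_swap, d.c_inv]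

include d in
theorem c_one_right (a : T) : c a 1 = 1 := by unfold c; group

include d in
theorem c_inv_right (a b : T) : c a b⁻¹ = c a b := by
  have h := d.c_mul_right a b b⁻¹
  rw [mul_inv_cancel, d.c_one_right] at h
  rw [← inv_eq_of_mul_eq_one_right h.symm, d.c_inv]

include d in
theorem sq_mem (a : T) : a * a ∈ center T := by
  rw [mem_center_iff]
  intro g
  have h : c (a * a) g = 1 := by rw [d.c_mul_left, d.c_sq]
  have := mul_eq (a * a) g
  rw [h, one_mul] at this
  exact this.symm

include d in
theorem sigma_two (y : T) : d.σ (d.σ y) = (y * d.σ y)⁻¹ :=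
  eq_inv_of_mul_eq_one_right (norm_one d.σ d.h3 d.hfp y)

include d in
theorem c_sigma (a : T) : c a (d.σ a) = 1 := by
  unfold c
  rw [comm_self d.σ d.h3 d.hfp a]
  group

include d in
theorem cross (u v : T) :
    c u (d.σ v) = c u v * d.σ (c u v) ∧ c (d.σ u) v = c u v * d.σ (c u v) := by
  set σ := d.σ
  have hc : ∀ {p q : T}, p ∈ center T → p * q = q * p := fun hp => (mem_center_iff.1 hp _).symm
  set z := c u v with hz
  set a := c u (σ v)
  set b := c (σ u) v
  have hZz := d.c_mem u v
  have hZa := d.c_mem u (σ v)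
  have hσz : σ z = c (σ u) (σ v) := c_map σ u v
  have hb : σ a = b * σ z := by
    rw [c_map, d.sigma_two v, d.c_inv_right, d.c_mul_right, hσz]
  have ha : σ b = a * σ z := by
    rw [c_map, d.sigma_two u, d.c_comm (σ v) (u * σ u)⁻¹, d.c_inv_right,
      d.c_mul_right, d.c_comm u (σ v), d.c_comm (σ u) (σ v), hσz]
  have hzsq : σ z * σ z = 1 := d.center_sq (map_center σ hZz)
  have hb' : b = σ a * σ z := by rw [hb, mul_assoc, hzsq, mul_one]
  rw [hb', map_mul] at ha
  have n1 : a * σ a * σ (σ a) = 1 := norm_one σ d.h3 d.hfp a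
  have n2 : z * σ z * σ (σ z) = 1 := norm_one σ d.h3 d.hfp z
  have hA1 := map_center σ hZa
  have hA2 := map_center σ hA1
  have hZ1 := map_center σ hZz
  have hZ2 := map_center σ hZ1
  have e1 : σ a = a * σ (σ a) := by
    have h1 : σ a * (a * σ (σ a)) = 1 := by rw [← mul_assoc, hc hA1, n1]
    have h2 : σ a * σ a = 1 := d.center_sq hA1
    exact mul_left_cancel (h2.trans h1.symm)
  have e2 : z = σ z * σ (σ z) := by
    have h2 : z * z = 1 := d.center_sq hZz
    rw [mul_assoc] at n2
    exact mul_left_cancel (h2.trans n2.symm)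
  have e3 : σ a = z := by
    rw [e1, e2]
    have h4 : σ (σ a) = a * σ z * σ (σ z) := by
      rw [← ha, mul_assoc (σ (σ a)), d.center_sq hZ2, mul_one]
    rw [h4, ← mul_assoc, ← mul_assoc, d.center_sq hZa, one_mul]
  have e4 : a = z * σ z := by
    have h5 : σ (σ z) = z * σ z := by
      rw [d.sigma_two z]
      exact inv_eq_of_mul_eq_one_right (d.center_sq (mul_mem hZz hZ1))
    rw [← h5, ← d.h3 a, e3]
  exact ⟨e4, by rw [hb', e3]⟩

end Dat

end Cfsg.Agent.H63.SixtyFour
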