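import Cfsg.Agent.H63.SixtyFourFPF
import Cfsg.Agent.H92.L34Cover

/-!
Coordinates on a group of order 64 with a fixed-point-free automorphism of order 3, two involutions
`u`, `v` with non-trivial commutator, and comparison with the unitriangular subgroup of the
3-dimensional projective special linear group over a field with four elements.
-/

set_option autoImplicit false

namespace Cfsg.Agent.H63.SixtyFour

open Subgroup

/-- pairs of bits -/
abbrev V2 := ZMod 2 × ZMod 2

/-- coordinates -/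
abbrev P6 := V2 × V2 × V2

/-- the bilinear pairing in coordinates -/
def κ (a b : V2) : V2 :=
  (a.1 * b.1 + a.1 * b.2 + a.2 * b.1, a.1 * b.2 + a.2 * b.1 + a.2 * b.2)

/-- multiplication in coordinates -/
def star (p q : P6) : P6 :=
  (p.1 + q.1, p.2.1 + q.2.1, p.2.2 + q.2.2 + κ p.1 q.2.1)

variable {T : Type*} [Group T]

/-- two bit exponent -/
def pw2 (g h : T) (i : V2) : T := g ^ i.1.val * h ^ i.2.val

theorem bit_cases (i : ZMod 2) : i = 0 ∨ i = 1 := by revert i; decide

theorem pw2_add {g h : T} (hg : g * g = 1) (hh : h * h = 1) (hgh : g * h = h * g) (i j : V2) :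
    pw2 g h (i + j) = pw2 g h i * pw2 g h j := by
  have v0 : (0 : ZMod 2).val = 0 := rfl
  have v1 : (1 : ZMod 2).val = 1 := rfl
  have e : (1 : ZMod 2) + 1 = 0 := rfl
  have k1 : ∀ x : T, g * (g * x) = x := fun x => by rw [← mul_assoc, hg, one_mul]
  have k2 : ∀ x : T, h * (h * x) = x := fun x => by rw [← mul_assoc, hh, one_mul]
  have k3 : ∀ x : T, h * (g * x) = g * (h * x) := fun x => by rw [← mul_assoc, ← hgh, mul_assoc]
  obtain ⟨i1, i2⟩ := i
  obtain ⟨j1, j2⟩ := j
  rcases bit_cases i1 with rfl | rfl <;> rcases bit_cases i2 with rfl | rfl <;>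
    rcases bit_cases j1 with rfl | rfl <;> rcases bit_cases j2 with rfl | rfl <;>
    simp [pw2, v0, v1, e, mul_assoc, hg, hh, k1, k2, k3, ← hgh]

theorem pw2_inj {g h : T} (hg : g ≠ 1) (hh : h ≠ 1) (hgh : g * h ≠ 1) (hne : g ≠ h)
    (hg2 : g * g = 1) (hh2 : h * h = 1) : Function.Injective (pw2 g h) := by
  have v0 : (0 : ZMod 2).val = 0 := rfl
  have v1 : (1 : ZMod 2).val = 1 := rfl
  have a1 : g ≠ g * h := fun e => hh (by simpa using e)
  have a2 : h ≠ g * h := fun e => hg (by simpa using e)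
  intro i j
  obtain ⟨i1, i2⟩ := i
  obtain ⟨j1, j2⟩ := j
  rcases bit_cases i1 with rfl | rfl <;> rcases bit_cases i2 with rfl | rfl <;>
    rcases bit_cases j1 with rfl | rfl <;> rcases bit_cases j2 with rfl | rfl <;>
    simp [pw2, v0, v1, hg, hh, hgh, hne, a1, a2, hg.symm, hh.symm, hgh.symm, hne.symm, a1.symm, a2.symm]

namespace Dat

variable [Finite T] (d : Dat T)

theorem center_elts {z : T} (hz : z ∈ center T) (hz1 : z ≠ 1) :
    d.σ z ≠ 1 ∧ d.σ z ≠ z ∧ z * d.σ z ≠ 1 ∧ d.σ (d.σ z) = z * d.σ z := by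
  have h1 : d.σ z ≠ 1 := fun h => hz1 ((MulEquiv.map_eq_one_iff _).1 h)
  have h2 : d.σ z ≠ z := fun h => hz1 (d.hfp _ h)
  refine ⟨h1, h2, ?_, ?_⟩
  · intro h
    exact h2 (mul_left_cancel (h.trans (d.center_sq hz).symm))
  · rw [d.sigma_two z]
    exact inv_eq_of_mul_eq_one_right (d.center_sq (mul_mem hz (map_center d.σ hz)))

section coord

variable {u v : T}

/-- coordinate map -/
def φ (u v : T) (p : P6) : T :=
  pw2 v (d.σ v) p.2.1 * pw2 u (d.σ u) p.1 * pw2 (c u v) (d.σ (c u v)) p.2.2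

theorem pw2_center (z : T) (hz : z ∈ center T) (i : V2) : pw2 z (d.σ z) i ∈ center T :=
  mul_mem (pow_mem hz _) (pow_mem (map_center d.σ hz) _)

theorem c_pw2 (a b : V2) :
    c (pw2 u (d.σ u) a) (pw2 v (d.σ v) b) = pw2 (c u v) (d.σ (c u v)) (κ a b) := by
  obtain ⟨x1, x2⟩ := d.cross u v
  have hz := d.c_mem u v
  have x3 : c (d.σ u) (d.σ v) = d.σ (c u v) := (c_map d.σ u v).symm
  set z := c u v with hzdef
  set w := d.σ z with hwdef
  have hw : w ∈ center T := map_center d.σ hz
  have hzz : z * z = 1 := d.center_sq hz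
  have hww : w * w = 1 := d.center_sq hw
  have hcm : z * w = w * z := (mem_center_iff.1 hz w).symm
  have k1 : ∀ x : T, z * (z * x) = x := fun x => by rw [← mul_assoc, hzz, one_mul]
  have k2 : ∀ x : T, w * (w * x) = x := fun x => by rw [← mul_assoc, hww, one_mul]
  have k3 : ∀ x : T, w * (z * x) = z * (w * x) := fun x => by rw [← mul_assoc, ← hcm, mul_assoc]
  have c0l : ∀ g : T, c 1 g = 1 := fun g => c_central_left (one_mem _) g
  have c0r : ∀ g : T, c g 1 = 1 := fun g => d.c_one_right g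
  have v0 : (0 : ZMod 2).val = 0 := rfl
  have v1 : (1 : ZMod 2).val = 1 := rfl
  have e : (1 : ZMod 2) + 1 = 0 := rfl
  obtain ⟨i1, i2⟩ := a
  obtain ⟨j1, j2⟩ := b
  rcases bit_cases i1 with rfl | rfl <;> rcases bit_cases i2 with rfl | rfl <;>
    rcases bit_cases j1 with rfl | rfl <;> rcases bit_cases j2 with rfl | rfl <;>
    simp [pw2, κ, v0, v1, e, d.c_mul_left, d.c_mul_right, c0l, c0r, x1, x2, x3, ← hzdef,
      mul_assoc, hzz, hww, k1, k2, k3, ← hcm]

variable (hu : u * u = 1) (hv : v * v = 1) (hc : c u v ≠ 1)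

include hu hv in
theorem φ_mul (p q : P6) : d.φ u v p * d.φ u v q = d.φ u v (star p q) := by
  obtain ⟨a, b, k⟩ := p
  obtain ⟨a', b', k'⟩ := q
  have hz := d.c_mem u v
  set z := c u v
  set A := pw2 u (d.σ u)
  set B := pw2 v (d.σ v)
  set C := pw2 z (d.σ z)
  have hA : ∀ i j, A (i + j) = A i * A j := pw2_add hu (by rw [← map_mul, hu, map_one])
    (comm_self d.σ d.h3 d.hfp u)
  have hB : ∀ i j, B (i + j) = B i * B j := pw2_add hv (by rw [← map_mul, hv, map_one])
    (comm_self d.σ d.h3 d.hfp v)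
  have hC : ∀ i j, C (i + j) = C i * C j := pw2_add (d.center_sq hz)
    (d.center_sq (map_center d.σ hz)) (mem_center_iff.1 hz _).symm
  have hcen : ∀ i g, g * C i = C i * g := fun i g => mem_center_iff.1 (d.pw2_center z hz i) g
  have hAB : A a * B b' = C (κ a b') * (B b' * A a) := by
    rw [mul_eq, d.c_pw2]
  show B b * A a * C k * (B b' * A a' * C k')
    = B (b + b') * A (a + a') * C (k + k' + κ a b')
  have e1 : B b * A a * C k * (B b' * A a' * C k') = B b * (A a * B b') * A a' * (C k * C k') := by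
    calc B b * A a * C k * (B b' * A a' * C k')
        = B b * A a * (C k * (B b' * A a')) * C k' := by simp only [mul_assoc]
      _ = B b * A a * ((B b' * A a') * C k) * C k' := by rw [hcen k (B b' * A a')]
      _ = _ := by simp only [mul_assoc]
  have e2 : B b * (A a * B b') * A a' * (C k * C k')
      = B b * B b' * (A a * A a') * (C k * C k' * C (κ a b')) := by
    calc B b * (A a * B b') * A a' * (C k * C k')
        = B b * (C (κ a b') * (B b' * A a)) * A a' * (C k * C k') := by rw [hAB]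
      _ = (B b * B b' * (A a * A a') * (C k * C k')) * C (κ a b') := by
        rw [hcen (κ a b') (B b * B b' * (A a * A a') * (C k * C k')), ← mul_assoc (B b),
          hcen (κ a b') (B b)]
        simp only [mul_assoc]
      _ = _ := by simp only [mul_assoc]
  rw [e1, e2, hA, hB, hC, hC]

include hc in
theorem φ_injective : Function.Injective (d.φ u v) := by
  have hz := d.c_mem u v
  obtain ⟨h1, h2, h3, -⟩ := d.center_elts hz hc
  set z := c u v with hzdef
  have hCinj : Function.Injective (pw2 z (d.σ z)) :=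
    pw2_inj hc h1 h3 h2.symm (d.center_sq hz) (d.center_sq (map_center d.σ hz))
  have key : ∀ (p : P6) (g : T), c (d.φ u v p) g
      = c (pw2 v (d.σ v) p.2.1) g * c (pw2 u (d.σ u) p.1) g := by
    intro p g
    rw [φ, d.c_mul_left, d.c_mul_left, ← hzdef, c_central_left (d.pw2_center z hz _), mul_one]
  have hu1 : pw2 u (d.σ u) (1, 0) = u := by simp [pw2, show (1 : ZMod 2).val = 1 from rfl]
  have hv1 : pw2 v (d.σ v) (1, 0) = v := by simp [pw2, show (1 : ZMod 2).val = 1 from rfl]
  have au : ∀ a : V2, c (pw2 u (d.σ u) a) u = 1 := by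
    intro a
    rw [pw2, d.c_mul_left]
    have e1 : c (u ^ a.1.val) u = 1 := by unfold c; group
    have e2 : c (d.σ u ^ a.2.val) u = 1 := by
      rcases bit_cases a.2 with h | h <;> rw [h]
      · rw [ZMod.val_zero, pow_zero]; exact c_central_left (one_mem _) u
      · rw [show (1 : ZMod 2).val = 1 from rfl, pow_one, d.c_comm, d.c_sigma]
    rw [e1, e2, mul_one]
  have bv : ∀ b : V2, c (pw2 v (d.σ v) b) v = 1 := by
    intro b
    rw [pw2, d.c_mul_left]
    have e1 : c (v ^ b.1.val) v = 1 := by unfold c; group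
    have e2 : c (d.σ v ^ b.2.val) v = 1 := by
      rcases bit_cases b.2 with h | h <;> rw [h]
      · rw [ZMod.val_zero, pow_zero]; exact c_central_left (one_mem _) v
      · rw [show (1 : ZMod 2).val = 1 from rfl, pow_one, d.c_comm, d.c_sigma]
    rw [e1, e2, mul_one]
  have cu : ∀ p : P6, c (d.φ u v p) u = pw2 z (d.σ z) (κ (1, 0) p.2.1) := by
    intro p
    have h := d.c_pw2 (u := u) (v := v) (1, 0) p.2.1
    rw [hu1, ← hzdef] at h
    rw [key, au, mul_one, d.c_comm u, h]
  have cv : ∀ p : P6, c (d.φ u v p) v = pw2 z (d.σ z) (κ p.1 (1, 0)) := by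
    intro p
    have h := d.c_pw2 (u := u) (v := v) p.1 (1, 0)
    rw [hv1, ← hzdef] at h
    rw [key, bv, one_mul, h]
  have kl : ∀ i j : V2, κ (1, 0) i = κ (1, 0) j → i = j := by decide
  have kr : ∀ i j : V2, κ i (1, 0) = κ j (1, 0) → i = j := by decide
  rintro ⟨a, b, k⟩ ⟨a', b', k'⟩ h
  have hb : b = b' := kl _ _ (hCinj (by rw [← cu (a, b, k), h, cu]))
  have ha : a = a' := kr _ _ (hCinj (by rw [← cv (a, b, k), h, cv]))
  subst ha hb
  have hk : k = k' := hCinj (mul_left_cancel (a := pw2 v (d.σ v) b * pw2 u (d.σ u) a) h)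
  rw [hk]

end coord

end Dat

/-- A field with four elements: the unitriangular subgroup of the projective group is a Sylow
subgroup isomorphic to any group as above with two non-commuting involutions. -/
theorem exists_sylow_equiv [Finite T] (d : Dat T) {u v : T} (hu : u * u = 1) (hv : v * v = 1)
    (hc : Dat.c u v ≠ 1) :
    ∃ (F : Type) (_ : Field F) (_ : Fintype F), Fintype.card F = 4 ∧
      ∃ S : Sylow 2 (Matrix.ProjectiveSpecialLinearGroup (Fin 3) F),
        Nonempty (T ≃* ↥(S : Subgroup (Matrix.ProjectiveSpecialLinearGroup (Fin 3) F))) := by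
  classical
  haveI : Fact (Nat.Prime 2) := ⟨Nat.prime_two⟩
  let F := GaloisField 2 2
  letI : Fintype F := Fintype.ofFinite F
  have hF : Fintype.card F = 4 := by
    rw [← Nat.card_eq_fintype_card, GaloisField.card 2 2 (by norm_num)]; norm_num
  refine ⟨F, inferInstance, inferInstance, hF, ?_⟩
  have := Cfsg.Agent.H92.L34.charP_two hF
  have h2 : ∀ x : F, x + x = 0 := CharTwo.add_self_eq_zero
  obtain ⟨ω, hω0, hω1, hall⟩ := Cfsg.Agent.H92.L34.exists_gen hF
  have hω2 : ω * ω = 1 + ω := by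
    rcases hall (ω * ω) with h | h | h | h
    · exact absurd (mul_self_eq_zero.1 h) hω0
    · exfalso
      have h' : (ω + 1) * (ω + 1) = 0 := by linear_combination h + h2 1 + h2 ω
      exact hω1 (by linear_combination mul_self_eq_zero.1 h' - h2 1)
    · exact absurd ((mul_eq_left₀ hω0).1 h) hω1
    · exact h
  let ι : ZMod 2 →+* F := ZMod.castHom (dvd_refl 2) F
  let ψ : P6 → Matrix.ProjectiveSpecialLinearGroup (Fin 3) F := fun p =>
    Cfsg.Agent.H92.L34.m (ι p.1.1 + ι p.1.2 * ω) (ι p.2.1.1 + ι p.2.1.2 * ω)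
      (ι p.2.2.1 + ι p.2.2.2 * (1 + ω))
  have hψ : ∀ p q, ψ p * ψ q = ψ (star p q) := by
    rintro ⟨⟨a1, a2⟩, ⟨b1, b2⟩, ⟨c1, c2⟩⟩ ⟨⟨a1', a2'⟩, ⟨b1', b2'⟩, ⟨c1', c2'⟩⟩
    simp only [ψ, star, κ, Prod.mk_add_mk, map_add, map_mul]
    rw [Cfsg.Agent.H92.L34.m_mul]
    congr 1
    · ring
    · ring
    · linear_combination (ι a2 * ι b2') * hω2 - h2 (ι a1 * ι b2') - h2 (ι a2 * ι b1')
  have hinj := d.φ_injective hc
  have hcard : Nat.card P6 = Nat.card T := by
    rw [d.card, Nat.card_eq_fintype_card]; rfl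
  have hbij : Function.Bijective (d.φ u v) :=
    (Nat.bijective_iff_injective_and_card _).2 ⟨hinj, hcard⟩
  let e := Equiv.ofBijective _ hbij
  let θ : T →* Matrix.ProjectiveSpecialLinearGroup (Fin 3) F := MonoidHom.mk' (fun t => ψ (e.symm t))
    (by
      intro s t
      rw [hψ]
      congr 1
      rw [Equiv.symm_apply_eq]
      show s * t = d.φ u v (star _ _)
      rw [← d.φ_mul hu hv]
      exact (congrArg₂ (· * ·) (e.apply_symm_apply s) (e.apply_symm_apply t)).symm)
  have hιinj : ∀ a1 a2 : ZMod 2, ι a1 + ι a2 * ω = 0 → a1 = 0 ∧ a2 = 0 := by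
    intro a1 a2 h
    rcases bit_cases a1 with rfl | rfl <;> rcases bit_cases a2 with rfl | rfl <;>
      simp only [map_one, map_zero, zero_add, add_zero, zero_mul, one_mul] at h
    · exact ⟨rfl, rfl⟩
    · exact absurd h hω0
    · exact absurd h one_ne_zero
    · exact absurd (by linear_combination h - h2 1) hω1
  have hθinj : Function.Injective θ := by
    rw [injective_iff_map_eq_one]
    intro t ht
    obtain ⟨p, rfl⟩ := e.surjective t
    change ψ (e.symm (e p)) = 1 at ht
    rw [Equiv.symm_apply_apply] at ht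
    obtain ⟨⟨a1, a2⟩, ⟨b1, b2⟩, ⟨c1, c2⟩⟩ := p
    obtain ⟨ha, hb, hk⟩ := Cfsg.Agent.H92.L34.m_eq_one ht
    obtain ⟨rfl, rfl⟩ := hιinj a1 a2 ha
    obtain ⟨rfl, rfl⟩ := hιinj b1 b2 hb
    obtain ⟨hk1, rfl⟩ := hιinj (c1 + c2) c2 (by rw [map_add]; linear_combination hk)
    obtain rfl : c1 = 0 := by rwa [add_zero] at hk1
    show d.φ u v _ = 1
    simp [Dat.φ, pw2]
  have hrange : θ.range = Cfsg.Agent.H92.L34.U := by
    have hsub : θ.range ≤ Cfsg.Agent.H92.L34.U := by
      rintro _ ⟨t, rfl⟩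
      exact ⟨_, _, _, rfl⟩
    refine Subgroup.eq_of_le_of_card_ge hsub ?_
    have hU : Nat.card (Cfsg.Agent.H92.L34.U (F := F)) ≤ Nat.card (F × F × F) := by
      refine Nat.card_le_card_of_surjective
        (fun p : F × F × F => (⟨Cfsg.Agent.H92.L34.m p.1 p.2.1 p.2.2, ⟨_, _, _, rfl⟩⟩ :
          ↥(Cfsg.Agent.H92.L34.U (F := F)))) ?_
      rintro ⟨x, a, b, k, rfl⟩
      exact ⟨(a, b, k), rfl⟩
    rw [Nat.card_congr (MonoidHom.ofInjective hθinj).toEquiv.symm, d.card]
    have hFc : Nat.card F = 4 := by rw [Nat.card_eq_fintype_card, hF]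
    rw [Nat.card_prod, Nat.card_prod, hFc] at hU
    exact hU
  let E : T ≃* ↥(Cfsg.Agent.H92.L34.U (F := F)) :=
    (MonoidHom.ofInjective hθinj).trans (MulEquiv.subgroupCongr hrange)
  have hp : IsPGroup 2 ↥(Cfsg.Agent.H92.L34.U (F := F)) := d.isPGroup.of_equiv E
  have hodd := Cfsg.Agent.H92.L34.odd_index_U hF
  exact ⟨hp.toSylow (fun h => by
    rw [← Nat.not_even_iff_odd] at hodd; exact hodd (even_iff_two_dvd.2 h)), ⟨E⟩⟩

end Cfsg.Agent.H63.SixtyFour
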