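import Mathlib
import Cfsg.Agent.H77.MaximalIndex
import Cfsg.Agent.Unitary.Order72

/-!
Small facts on perfect groups acting on small sets, and parity of zero counts of quadratic forms
over `F₂`.
-/

set_option autoImplicit false

namespace Cfsg.Agent.H63.PerfectAction

/-- A perfect group has no nontrivial homomorphism to a solvable group. -/
theorem hom_trivial {P H : Type*} [Group P] [Group H] [Group.IsPerfect P] (f : P →* H)
    [Group.IsSolvable H] (k : P) : f k = 1 := by
  haveI := Group.IsPerfect.range f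
  rcases subsingleton_or_nontrivial f.range with h | h
  · exact congrArg Subtype.val (Subsingleton.elim (⟨f k, k, rfl⟩ : f.range) 1)
  · exact absurd (inferInstance : Group.IsSolvable f.range) (Group.IsPerfect.not_isSolvable f.range)

theorem isSolvable_perm_le_four {α : Type*} [Finite α] (h : Nat.card α ≤ 4) :
    Group.IsSolvable (Equiv.Perm α) := by
  classical
  have := Fintype.ofFinite α
  haveI := Cfsg.Agent.H77.isSolvable_perm_four (α := Fin 4) (by simp)
  obtain ⟨e⟩ := Function.Embedding.nonempty_of_card_le (α := α) (β := Fin 4)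
    (by rw [Fintype.card_fin, ← Nat.card_eq_fintype_card]; exact h)
  exact Group.isSolvable_of_isSolvable_injective (Equiv.Perm.viaEmbeddingHom_injective e)

/-- A perfect group acting on at most four points acts trivially. -/
theorem fix_of_card_le_four {P α : Type*} [Group P] [Group.IsPerfect P] [Finite α]
    (h : Nat.card α ≤ 4) (f : P →* Equiv.Perm α) (k : P) (a : α) : f k a = a := by
  haveI := isSolvable_perm_le_four h
  rw [hom_trivial f k]; rfl

/-- A nontrivial perfect permutation group on five points has order divisible by 3. -/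
theorem three_dvd {α : Type*} [Finite α] (h5 : Nat.card α = 5) (H : Subgroup (Equiv.Perm α))
    [Group.IsPerfect H] [Nontrivial H] : 3 ∣ Nat.card H := by
  by_contra h3
  haveI : Fact (Nat.Prime 5) := ⟨by norm_num⟩
  haveI : Fact (Nat.Prime 2) := ⟨Nat.prime_two⟩
  have hd : Nat.card H ∣ 40 * 3 := by
    have := Subgroup.card_subgroup_dvd_card H
    rwa [Nat.card_perm, h5] at this
  have h40 : Nat.card H ∣ 40 :=
    ((Nat.prime_three.coprime_iff_not_dvd.mpr h3).symm).dvd_of_dvd_mul_right hd
  refine Group.IsPerfect.not_isSolvable H ?_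
  obtain ⟨Q⟩ : Nonempty (Sylow 5 H) := inferInstance
  have hn5 : Nat.card (Sylow 5 H) ∣ 40 := by
    rw [Sylow.card_eq_index_normalizer Q]
    exact (Subgroup.index_dvd_card _).trans h40
  have hmod := card_sylow_modEq_one 5 H
  have hnd : ¬ 5 ∣ Nat.card (Sylow 5 H) := fun hdd => by
    have := Nat.ModEq.trans hmod.symm (Nat.modEq_zero_iff_dvd.mpr hdd)
    exact absurd this (by decide)
  have h8 : Nat.card (Sylow 5 H) ∣ 8 :=
    (((Fact.out : Nat.Prime 5).coprime_iff_not_dvd.mpr hnd).symm).dvd_of_dvd_mul_right hn5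
  have h1 : Nat.card (Sylow 5 H) = 1 := by
    obtain ⟨i, hi, hi'⟩ := (Nat.dvd_prime_pow Nat.prime_two).mp (show _ ∣ 2 ^ 3 from h8)
    rw [hi'] at hmod ⊢
    interval_cases i
    · rfl
    all_goals exact absurd hmod (by decide)
  haveI : Subsingleton (Sylow 5 H) := (Nat.card_eq_one_iff_unique.1 h1).1
  haveI := Q.normal_of_subsingleton
  refine Cfsg.Agent.Unitary.isSolvable_of_normal (Q : Subgroup H) ?_ ?_
  · haveI := Q.isPGroup'.isNilpotent
    infer_instance
  · refine Cfsg.Agent.Unitary.isSolvable_of_card_prime_pow (p := 2) (k := 3)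
      (Subgroup.index_eq_card _).symm ?_
    exact ((((Fact.out : Nat.Prime 5).coprime_iff_not_dvd.mpr Q.not_dvd_index)).symm
      ).dvd_of_dvd_mul_right ((Subgroup.index_dvd_card _).trans h40)

/-- A function not depending on one coordinate sums to zero over `F₂ⁿ`. -/
theorem sum_eq_zero_of_invariant {n : ℕ} (m : Fin n) (f : (Fin n → ZMod 2) → ZMod 2)
    (hf : ∀ v, f (v + Pi.single m 1) = f v) : ∑ v, f v = 0 := by
  have hne : (Pi.single m 1 : Fin n → ZMod 2) ≠ 0 := by simp
  refine Finset.sum_involution (fun v _ => v + Pi.single m 1) ?_ ?_ (fun v _ => Finset.mem_univ _) ?_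
  · intro v _
    rw [hf]; exact CharTwo.add_self_eq_zero _
  · intro v _ _ h
    exact hne (add_eq_left.mp h)
  · intro v _
    rw [add_assoc, ← two_mul]
    funext i
    simp [show (2 : ZMod 2) = 0 from rfl]

/-- A monomial in fewer than `n` variables sums to zero. -/
theorem sum_monomial {n : ℕ} (s : Finset (Fin n)) (hs : s.card < n) (k : Fin n → ℕ) :
    ∑ v : Fin n → ZMod 2, ∏ i ∈ s, v i ^ k i = 0 := by
  obtain ⟨m, hm⟩ : ∃ m, m ∉ s := by
    by_contra! h
    have : s = Finset.univ := Finset.eq_univ_of_forall h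
    rw [this] at hs
    simp at hs
  refine sum_eq_zero_of_invariant m _ fun v => Finset.prod_congr rfl fun i hi => ?_
  have : i ≠ m := fun h => hm (h ▸ hi)
  simp [this]

/-- The parity of the common zeros of two quadratic functions in more than four variables is even. -/
theorem sum_two_quadratic {n : ℕ} (hn : 4 < n) (c d : Fin n → Fin n → ZMod 2) :
    ∑ v : Fin n → ZMod 2, (1 + ∑ i, ∑ j, c i j * v i * v j) * (1 + ∑ i, ∑ j, d i j * v i * v j) = 0 := by
  have hinv : ∀ (m : Fin n) (i : Fin n), i ≠ m → ∀ v : Fin n → ZMod 2,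
      (v + Pi.single m (1 : ZMod 2) : Fin n → ZMod 2) i = v i := fun m i h v => by simp [h]
  have avoid : ∀ s : Finset (Fin n), s.card < n → ∃ m, ∀ i ∈ s, i ≠ m := by
    intro s hs
    by_contra! h
    have : s = Finset.univ := Finset.eq_univ_of_forall fun m => by
      obtain ⟨i, hi, rfl⟩ := h m; exact hi
    rw [this] at hs
    simp at hs
  have h0 : ∑ _v : Fin n → ZMod 2, (1 : ZMod 2) = 0 :=
    sum_eq_zero_of_invariant ⟨0, by omega⟩ _ fun _ => rfl
  have h2 : ∀ (e : Fin n → Fin n → ZMod 2),
      ∑ v : Fin n → ZMod 2, ∑ i, ∑ j, e i j * v i * v j = 0 := by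
    intro e
    rw [Finset.sum_comm]
    refine Finset.sum_eq_zero fun i _ => ?_
    rw [Finset.sum_comm]
    refine Finset.sum_eq_zero fun j _ => ?_
    obtain ⟨m, hm⟩ := avoid {i, j} (lt_of_le_of_lt Finset.card_le_two (by omega))
    exact sum_eq_zero_of_invariant m _ fun v => by
      simp [hinv m i (hm i (by simp)), hinv m j (hm j (by simp))]
  simp only [add_mul, mul_add, one_mul, mul_one, Finset.sum_add_distrib, h0, h2, zero_add]
  simp only [Finset.sum_mul, Finset.mul_sum]
  rw [Finset.sum_comm]
  refine Finset.sum_eq_zero fun a _ => ?_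
  rw [Finset.sum_comm]
  refine Finset.sum_eq_zero fun b _ => ?_
  rw [Finset.sum_comm]
  refine Finset.sum_eq_zero fun a' _ => ?_
  rw [Finset.sum_comm]
  refine Finset.sum_eq_zero fun b' _ => ?_
  obtain ⟨m, hm⟩ := avoid {a, b, a', b'} (lt_of_le_of_lt Finset.card_le_four hn)
  exact sum_eq_zero_of_invariant m _ fun v => by
    simp [hinv m a (hm a (by simp)), hinv m b (hm b (by simp)), hinv m a' (hm a' (by simp)),
      hinv m b' (hm b' (by simp))]

/-- The parity of the zeros of one quadratic function in more than two variables is even. -/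
theorem sum_one_quadratic {n : ℕ} (hn : 2 < n) (c : Fin n → Fin n → ZMod 2) :
    ∑ v : Fin n → ZMod 2, (1 + ∑ i, ∑ j, c i j * v i * v j) = 0 := by
  rw [Finset.sum_add_distrib, sum_eq_zero_of_invariant ⟨0, by omega⟩ (fun _ => 1) fun _ => rfl,
    zero_add, Finset.sum_comm]
  refine Finset.sum_eq_zero fun i _ => ?_
  rw [Finset.sum_comm]
  refine Finset.sum_eq_zero fun j _ => ?_
  obtain ⟨m, hm⟩ : ∃ m, i ≠ m ∧ j ≠ m := by
    by_contra! h
    have : ({i, j} : Finset (Fin n)) = Finset.univ := Finset.eq_univ_of_forall fun m => by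
      by_cases him : i = m
      · simp [him]
      · simp [h m him]
    have := congrArg Finset.card this
    simp only [Finset.card_univ, Fintype.card_fin] at this
    have h2 : ({i, j} : Finset (Fin n)).card ≤ 2 := Finset.card_le_two
    omega
  exact sum_eq_zero_of_invariant m _ fun v => by simp [hm.1, hm.2]

end Cfsg.Agent.H63.PerfectAction
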