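import Mathlib.GroupTheory.Index
import Mathlib.Data.Nat.Prime.Basic
import Mathlib.Tactic.Group

/-!
The diagonal of commuting conjugates.
-/

set_option autoImplicit false

namespace Cfsg.Agent.H63

variable {G : Type*} [Group G]

/-- Conjugation by `a ^ i`, restricted to `K`. -/
def cj (K : Subgroup G) (a : G) (i : ℕ) : K →* G :=
  (MulAut.conj (a ^ i)).toMonoidHom.comp K.subtype

theorem cj_apply (K : Subgroup G) (a : G) (i : ℕ) (k : K) : cj K a i k = a ^ i * k * (a ^ i)⁻¹ := rfl

theorem cj_zero (K : Subgroup G) (a : G) (k : K) : cj K a 0 k = k := by simp [cj_apply]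

theorem cj_succ (K : Subgroup G) (a : G) (i : ℕ) (k : K) : a * cj K a i k * a⁻¹ = cj K a (i + 1) k := by
  rw [cj_apply, cj_apply, pow_succ']; group

/-- The product of the first `m` conjugates. -/
def diag (K : Subgroup G) (a : G) : ℕ → K → G
  | 0, _ => 1
  | m + 1, k => diag K a m k * cj K a m k

variable {K : Subgroup G} {a : G} {p : ℕ}
  (hc : ∀ i j, i < p → j < p → i ≠ j → ∀ g h : K, Commute (cj K a i g) (cj K a j h))

include hc

theorem diag_commute {m j : ℕ} (hm : m ≤ j) (hj : j < p) (g h : K) : Commute (diag K a m g) (cj K a j h) := by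
  induction m with
  | zero => exact Commute.one_left _
  | succ m ih => exact (ih (by omega)).mul_left (hc m j (by omega) hj (by omega) g h)

theorem diag_mul {m : ℕ} (hm : m ≤ p) (g h : K) : diag K a m (g * h) = diag K a m g * diag K a m h := by
  induction m with
  | zero => exact (one_mul 1).symm
  | succ m ih =>
    show diag K a m (g * h) * cj K a m (g * h) = _
    rw [ih (by omega), map_mul]
    show _ = diag K a m g * cj K a m g * (diag K a m h * cj K a m h)
    simp only [mul_assoc]
    rw [← mul_assoc (diag K a m h), (diag_commute hc le_rfl (by omega) h g).eq, mul_assoc]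

theorem diag_shift {m : ℕ} (hm : m + 1 ≤ p) (k : K) :
    cj K a 0 k * (a * diag K a m k * a⁻¹) = diag K a (m + 1) k := by
  induction m with
  | zero => show cj K a 0 k * (a * 1 * a⁻¹) = 1 * cj K a 0 k; group
  | succ m ih =>
    show cj K a 0 k * (a * (diag K a m k * cj K a m k) * a⁻¹) = diag K a (m + 1) k * cj K a (m + 1) k
    rw [← ih (by omega), ← cj_succ K a m k]; group

theorem diag_conj {m i : ℕ} (hi : i < p) (hm : m ≤ p) (g x : K) :
    diag K a m g * cj K a i x = (if i < m then cj K a i (g * x * g⁻¹) else cj K a i x) * diag K a m g := by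
  induction m with
  | zero => show (1 : G) * _ = (if i < 0 then _ else _) * 1; simp
  | succ m ih =>
    show diag K a m g * cj K a m g * cj K a i x = _ * (diag K a m g * cj K a m g)
    rcases lt_trichotomy i m with h | h | h
    · rw [if_pos (by omega), mul_assoc, (hc m i (by omega) hi (by omega) g x).eq, ← mul_assoc, ih (by omega),
        if_pos h, mul_assoc]
    · subst h
      rw [if_pos (by omega), mul_assoc, ← map_mul, (diag_commute hc le_rfl hi g (g * x)).eq]
      calc cj K a i (g * x) * diag K a i g
          = cj K a i (g * x * g⁻¹) * cj K a i g * diag K a i g := by rw [← map_mul, inv_mul_cancel_right]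
        _ = _ := by rw [mul_assoc, (diag_commute hc le_rfl hi g g).eq]
    · rw [if_neg (by omega), mul_assoc, (hc m i (by omega) hi (by omega) g x).eq, ← mul_assoc, ih (by omega),
        if_neg (by omega), mul_assoc]

theorem diag_comm (hp : 0 < p) (hpe : a ^ p = 1) (k : K) : Commute (diag K a p k) a := by
  obtain ⟨q, rfl⟩ : ∃ q, p = q + 1 := ⟨p - 1, by omega⟩
  have hq : a * cj K a q k * a⁻¹ = cj K a 0 k := by
    rw [cj_succ, cj_apply, cj_apply, hpe, pow_zero]
  have hcomm : Commute (cj K a 0 k) (a * diag K a q k * a⁻¹) := by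
    suffices h : ∀ m, m ≤ q → Commute (cj K a 0 k) (a * diag K a m k * a⁻¹) from h q le_rfl
    intro m hm
    induction m with
    | zero => show Commute _ (a * 1 * a⁻¹); rw [mul_one, mul_inv_cancel]; exact Commute.one_right _
    | succ m ih =>
      show Commute _ (a * (diag K a m k * cj K a m k) * a⁻¹)
      rw [show a * (diag K a m k * cj K a m k) * a⁻¹ = (a * diag K a m k * a⁻¹) * (a * cj K a m k * a⁻¹) by group, cj_succ]
      exact (ih (by omega)).mul_right (hc 0 (m + 1) (by omega) (by omega) (by omega) k k)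
  have h : a * diag K a (q + 1) k * a⁻¹ = diag K a (q + 1) k := by
    rw [← diag_shift hc le_rfl k, show a * (cj K a 0 k * (a * diag K a q k * a⁻¹)) * a⁻¹ = a * cj K a 0 k * (a * diag K a q k * a⁻¹) * a⁻¹ by group]
    have := diag_shift hc (m := q) le_rfl k
    calc a * cj K a 0 k * (a * diag K a q k * a⁻¹) * a⁻¹ = a * diag K a (q + 1) k * a⁻¹ := by rw [← this]; group
      _ = a * diag K a q k * a⁻¹ * (a * cj K a q k * a⁻¹) := by show a * (diag K a q k * cj K a q k) * a⁻¹ = _; group
      _ = cj K a 0 k * (a * diag K a q k * a⁻¹) := by rw [hq, hcomm.eq]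
  exact (mul_inv_eq_iff_eq_mul.1 h).symm

end Cfsg.Agent.H63
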