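import Cfsg.Agent.H63.PGVReplace
import Cfsg.Agent.H63.PGVDiag

/-!
The P(G,V) theorem: a subgroup `A` with `|A||C_V(A)|` maximal normalises every member of an orbit
of commuting perfect groups.
-/

set_option autoImplicit false

universe u

namespace Cfsg.Agent.H63

/-- The automorphism group of an additive group. -/
abbrev Gam (V : Type u) [AddCommGroup V] : Type u := (AddMonoid.End V)ˣ

section act

variable {G : Type*} [Group G] {V : Type u} [AddCommGroup V] [DistribMulAction G V]

/-- The stabilizer of an additive subgroup. -/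
def stabA (G : Type*) [Group G] [DistribMulAction G V] (W : AddSubgroup V) : Subgroup G where
  carrier := {g | ∀ v, g • v ∈ W ↔ v ∈ W}
  one_mem' := fun v => by rw [one_smul]
  mul_mem' := fun {g h} hg hh v => by rw [mul_smul, hg, hh]
  inv_mem' := fun {g} hg v => by rw [← hg, smul_inv_smul]

/-- The restricted action. -/
@[reducible] def subAct (W : AddSubgroup V) : DistribMulAction (stabA G W) W where
  smul g w := ⟨(g : G) • (w : V), (g.2 w).2 w.2⟩
  one_smul w := Subtype.ext (one_smul G (w : V))
  mul_smul g h w := Subtype.ext (mul_smul (g : G) h (w : V))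
  smul_zero g := Subtype.ext (smul_zero (g : G))
  smul_add g v w := Subtype.ext (smul_add (g : G) (v : V) w)

/-- The action on the quotient. -/
@[reducible] def quotAct (W : AddSubgroup V) : DistribMulAction (stabA G W) (V ⧸ W) where
  smul g := QuotientAddGroup.map W W (DistribMulAction.toAddMonoidEnd G V (g : G)) (fun _ hv => (g.2 _).2 hv)
  one_smul x := by
    obtain ⟨v, rfl⟩ := QuotientAddGroup.mk_surjective x
    exact congrArg QuotientAddGroup.mk (one_smul G v)
  mul_smul g h x := by
    obtain ⟨v, rfl⟩ := QuotientAddGroup.mk_surjective x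
    exact congrArg QuotientAddGroup.mk (mul_smul (g : G) h v)
  smul_zero g := congrArg QuotientAddGroup.mk (smul_zero (g : G))
  smul_add g x y := by
    obtain ⟨v, rfl⟩ := QuotientAddGroup.mk_surjective x
    obtain ⟨w, rfl⟩ := QuotientAddGroup.mk_surjective y
    exact congrArg QuotientAddGroup.mk (smul_add (g : G) v w)

/-- The image in the automorphism group. -/
def toGam (G : Type*) [Group G] (V : Type u) [AddCommGroup V] [DistribMulAction G V] : G →* Gam V :=
  (DistribMulAction.toAddMonoidEnd G V).toHomUnits

theorem toGam_smul (g : G) (v : V) : toGam G V g • v = g • v := rfl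

end act

theorem commutator_subgroup_top {G : Type*} [Group G] {K : Subgroup G} (h : ⁅K, K⁆ = K) : commutator K = ⊤ := by
  apply Subgroup.map_injective K.subtype_injective
  rw [Subgroup.map_subtype_commutator, h, ← MonoidHom.range_eq_map, Subgroup.range_subtype]

theorem gam_ext {V : Type u} [AddCommGroup V] {g h : Gam V} (e : ∀ v : V, g • v = h • v) : g = h :=
  Units.ext (AddMonoidHom.ext e)

variable {V : Type u} [AddCommGroup V]

/-- The hypotheses of the theorem. -/
structure Hyp (p : ℕ) (A K : Subgroup (Gam V)) : Prop where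
  exponent : ∀ v : V, p • v = 0
  comm : ∀ a ∈ A, ∀ b ∈ A, a * b = b * a
  expA : ∀ a ∈ A, a ^ p = 1
  maxA : ∀ B ≤ A, mS V B ≤ mS V A
  perfect : ⁅K, K⁆ = K
  qs : ∀ N ≤ K, K ≤ Subgroup.normalizer (N : Set (Gam V)) → (∀ n ∈ N, ∀ k ∈ K, Commute n k) ∨ N = K
  orbit : ∀ a ∈ A, a ∈ Subgroup.normalizer (K : Set (Gam V)) ∨ ∀ k ∈ K, ∀ l ∈ K, Commute (a * k * a⁻¹) l

theorem eq_bot_of_trivial {K : Subgroup (Gam V)} (h : ∀ k : K, ∀ v : V, (k : Gam V) • v = v) : K = ⊥ := by
  rw [Subgroup.eq_bot_iff_forall]
  intro g hg
  exact gam_ext fun v => by rw [h ⟨g, hg⟩ v, one_smul]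

theorem mem_normalizer_bot {K : Subgroup (Gam V)} (h : K = ⊥) (a : Gam V) : a ∈ Subgroup.normalizer (K : Set (Gam V)) := by
  rw [h, Subgroup.mem_normalizer_iff]
  intro g
  simp [Subgroup.mem_bot, conj_eq_one_iff]

theorem mem_normalizer_of_forall [Finite V] {K : Subgroup (Gam V)} {a : Gam V}
    (h : ∀ k ∈ K, a * k * a⁻¹ ∈ K) : a ∈ Subgroup.normalizer (K : Set (Gam V)) := by
  haveI : Finite (AddMonoid.End V) := Finite.of_injective (fun f => (f : V → V)) DFunLike.coe_injective
  haveI : Finite (Gam V) := Finite.of_injective (fun u : Gam V => (u : AddMonoid.End V)) (fun _ _ => Units.ext)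
  exact Subgroup.mem_normalizer_iff.2 fun g => ⟨h g, fun hg => by
    have hsurj : Function.Surjective (fun k : K => (⟨a * k * a⁻¹, h _ k.2⟩ : K)) :=
      Finite.injective_iff_surjective.1 fun x y e => by
        simpa using congrArg Subtype.val e
    obtain ⟨k, hk⟩ := hsurj ⟨_, hg⟩
    have : a * (k : Gam V) * a⁻¹ = a * g * a⁻¹ := congrArg Subtype.val hk
    rw [mul_left_inj, mul_right_inj] at this
    exact this ▸ k.2⟩

theorem pgv_bound (p : ℕ) [Fact p.Prime] : ∀ (n : ℕ) (V : Type u) [AddCommGroup V] [Finite V]
    (A K : Subgroup (Gam V)), Hyp p A K → Nat.card V + Nat.card A ≤ n →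
    A ≤ Subgroup.normalizer (K : Set (Gam V)) := by
  intro n
  induction n using Nat.strong_induction_on with
  | _ n IH =>
  intro V _ _ A K H hn
  classical
  have hprime : p.Prime := Fact.out
  haveI : Finite (AddMonoid.End V) := Finite.of_injective (fun f => (f : V → V)) DFunLike.coe_injective
  haveI : Finite (Gam V) := Finite.of_injective (fun u : Gam V => (u : AddMonoid.End V)) (fun _ _ => Units.ext)
  intro a₀ ha₀
  by_contra hmove
  have hK : commutator K = ⊤ := commutator_subgroup_top H.perfect
  have hKbot : K ≠ ⊥ := fun h => hmove (mem_normalizer_bot h a₀)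
  have hqs : ∀ N : Subgroup K, N.Normal → N ≠ ⊤ → N ≤ Subgroup.center K := by
    intro N hN hne
    rcases H.qs (N.map K.subtype) (Subgroup.map_subtype_le N) (by
      intro k hk
      refine mem_normalizer_of_forall ?_
      rintro _ ⟨x, hx, rfl⟩
      exact ⟨⟨k, hk⟩ * x * ⟨k, hk⟩⁻¹, hN.conj_mem x hx _, rfl⟩) with h | h
    · intro x hx
      rw [Subgroup.mem_center_iff]
      intro y
      exact Subtype.ext ((h _ ⟨x, hx, rfl⟩ _ y.2).eq).symm
    · exact absurd (Subgroup.map_injective K.subtype_injective (h.trans (by rw [← MonoidHom.range_eq_map, Subgroup.range_subtype]))) hne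
  -- no nontrivial element of `A` centralises `K`
  have hcent : ∀ b ∈ A, b ≠ 1 → ∃ k : K, b * k ≠ (k : Gam V) * b := by
    intro b hb hb1
    by_contra hall
    push Not at hall
    let W : AddSubgroup V := fixA V b
    have hAS : A ≤ stabA (Gam V) W := by
      intro x hx v
      show b • x • v = x • v ↔ b • v = v
      rw [← mul_smul, H.comm b hb x hx, mul_smul]
      exact (MulAction.injective x).eq_iff
    have hKS : K ≤ stabA (Gam V) W := by
      intro x hx v
      show b • x • v = x • v ↔ b • v = v
      rw [← mul_smul, hall ⟨x, hx⟩, mul_smul]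
      exact (MulAction.injective x).eq_iff
    letI : DistribMulAction (stabA (Gam V) W) W := subAct W
    let r : stabA (Gam V) W →* Gam W := toGam (stabA (Gam V) W) W
    let A' : Subgroup (Gam W) := (A.subgroupOf (stabA (Gam V) W)).map r
    let K' : Subgroup (Gam W) := (K.subgroupOf (stabA (Gam V) W)).map r
    have rapp : ∀ (g : stabA (Gam V) W) (w : W), ((r g • w : W) : V) = (g : Gam V) • (w : V) := fun _ _ => rfl
    have Hmax : ∀ B' ≤ A', mS W B' ≤ mS W A' := by
      intro B' hB'
      -- preimages
      let Bs : Subgroup (stabA (Gam V) W) := A.subgroupOf (stabA (Gam V) W) ⊓ B'.comap r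
      let As : Subgroup (stabA (Gam V) W) := A.subgroupOf (stabA (Gam V) W)
      let B : Subgroup (Gam V) := Bs.map (stabA (Gam V) W).subtype
      have hBA : B ≤ A := by
        rintro _ ⟨x, hx, rfl⟩
        exact hx.1
      have hBmap : Bs.map r = B' := by
        refine le_antisymm ?_ ?_
        · rintro _ ⟨x, hx, rfl⟩; exact hx.2
        · intro y hy
          obtain ⟨x, hx, rfl⟩ := hB' hy
          exact ⟨x, ⟨hx, hy⟩, rfl⟩
      have hcard : ∀ T : Subgroup (stabA (Gam V) W), T ≤ As → (As ⊓ r.ker) ≤ T →
          Nat.card T = Nat.card (T.map r) * Nat.card ↥(As ⊓ r.ker) := by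
        intro T hT hkT
        have h := (r.comp T.subtype).ker.card_mul_index
        rw [Subgroup.index_ker, mul_comm] at h
        have hr : (r.comp T.subtype).range = T.map r := by rw [MonoidHom.range_comp, Subgroup.range_subtype]
        have hk : Nat.card (r.comp T.subtype).ker = Nat.card ↥(As ⊓ r.ker) := by
          refine Nat.card_congr
            { toFun := fun x => ⟨x.1.1, hT x.1.2, x.2⟩
              invFun := fun x => ⟨⟨x.1, hkT x.2⟩, x.2.2⟩
              left_inv := fun _ => rfl
              right_inv := fun _ => rfl }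
        rw [← hr, ← hk, h]
      have c1 := hcard Bs inf_le_left (inf_le_inf_left As (fun x hx => by
        show r x ∈ B'
        rw [MonoidHom.mem_ker.1 hx]; exact one_mem B'))
      have c2 := hcard As le_rfl inf_le_left
      rw [hBmap] at c1
      have hBcard : Nat.card B = Nat.card Bs := (Nat.card_congr (Bs.equivMapOfInjective _ Subtype.val_injective).toEquiv).symm
      have hAcard : Nat.card A = Nat.card As := (Nat.card_congr (Subgroup.subgroupOfEquivOfLe hAS).toEquiv).symm
      have hfix : ∀ T : Subgroup (stabA (Gam V) W),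
          Nat.card (fixS W (T.map r)) = Nat.card ↥(W ⊓ fixS V (T.map (stabA (Gam V) W).subtype)) := by
        intro T
        refine Nat.card_congr
          { toFun := fun w => ⟨(w.1 : V), w.1.2, ?_⟩
            invFun := fun v => ⟨⟨v.1, v.2.1⟩, ?_⟩
            left_inv := fun _ => rfl
            right_inv := fun _ => rfl }
        · rintro _ ⟨x, hx, rfl⟩
          exact congrArg Subtype.val (w.2 _ ⟨x, hx, rfl⟩)
        · rintro _ ⟨x, hx, rfl⟩
          exact Subtype.ext (v.2.2 _ ⟨x, hx, rfl⟩)
      have hAmap : As.map (stabA (Gam V) W).subtype = A := by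
        rw [Subgroup.subgroupOf_map_subtype, inf_of_le_left hAS]
      have hmono : fixS V A ≤ fixS V B := fun v hv g hg => hv g (hBA hg)
      have key := card_sup_inf_add (W ⊓ fixS V B) (fixS V A)
      rw [inf_assoc, inf_of_le_right hmono] at key
      have hsup : Nat.card ↥((W ⊓ fixS V B) ⊔ fixS V A) ≤ Nat.card (fixS V B) :=
        AddSubgroup.card_le_of_le (sup_le inf_le_right hmono)
      have hm := H.maxA B hBA
      unfold mS at hm ⊢
      show Nat.card B' * Nat.card (fixS W B') ≤ Nat.card ↥(As.map r) * Nat.card (fixS W (As.map r))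
      rw [← hBmap, hfix, hfix, hAmap]
      have hk0 : 0 < Nat.card ↥(As ⊓ r.ker) * Nat.card (fixS V A) := Nat.mul_pos Nat.card_pos Nat.card_pos
      refine Nat.le_of_mul_le_mul_right ?_ hk0
      rw [hBmap]
      calc Nat.card B' * Nat.card ↥(W ⊓ fixS V B) * (Nat.card ↥(As ⊓ r.ker) * Nat.card (fixS V A))
          = (Nat.card B' * Nat.card ↥(As ⊓ r.ker)) * (Nat.card ↥(W ⊓ fixS V B) * Nat.card (fixS V A)) := by ring
        _ = Nat.card B * (Nat.card ↥((W ⊓ fixS V B) ⊔ fixS V A) * Nat.card ↥(W ⊓ fixS V A)) := by rw [← c1, hBcard, key]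
        _ ≤ Nat.card B * (Nat.card (fixS V B) * Nat.card ↥(W ⊓ fixS V A)) :=
            Nat.mul_le_mul_left _ (Nat.mul_le_mul_right _ hsup)
        _ = Nat.card B * Nat.card (fixS V B) * Nat.card ↥(W ⊓ fixS V A) := (mul_assoc _ _ _).symm
        _ ≤ Nat.card A * Nat.card (fixS V A) * Nat.card ↥(W ⊓ fixS V A) := Nat.mul_le_mul_right _ hm
        _ = _ := by rw [hAcard, c2]; ring
    have Hperf : ⁅K', K'⁆ = K' := by
      show ⁅(K.subgroupOf _).map r, (K.subgroupOf _).map r⁆ = _
      rw [← Subgroup.map_commutator]
      congr 1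
      apply Subgroup.map_injective (stabA (Gam V) W).subtype_injective
      rw [Subgroup.map_commutator, Subgroup.subgroupOf_map_subtype, inf_of_le_left hKS, H.perfect]
    have H' : Hyp p A' K' := by
      refine ⟨fun w => Subtype.ext (by rw [AddSubgroup.coe_nsmul]; exact H.exponent w.1), ?_, ?_, Hmax, Hperf, ?_, ?_⟩
      · rintro _ ⟨x, hx, rfl⟩ _ ⟨y, hy, rfl⟩
        rw [← map_mul, ← map_mul]
        exact congrArg r (Subtype.ext (H.comm _ hx _ hy))
      · rintro _ ⟨x, hx, rfl⟩
        rw [← map_pow, show x ^ p = 1 from Subtype.ext (H.expA _ hx), map_one]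
      · intro N hNK hN
        let M : Subgroup (stabA (Gam V) W) := K.subgroupOf (stabA (Gam V) W) ⊓ N.comap r
        have hM : M.map r = N := by
          refine le_antisymm (by rintro _ ⟨x, hx, rfl⟩; exact hx.2) fun y hy => ?_
          obtain ⟨x, hx, rfl⟩ := hNK hy
          exact ⟨x, ⟨hx, hy⟩, rfl⟩
        rcases H.qs (M.map (stabA (Gam V) W).subtype) (by rintro _ ⟨x, hx, rfl⟩; exact hx.1) (by
          intro k hk
          refine mem_normalizer_of_forall ?_
          rintro _ ⟨x, hx, rfl⟩
          refine ⟨⟨k, hKS hk⟩ * x * ⟨k, hKS hk⟩⁻¹, ⟨?_, ?_⟩, rfl⟩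
          · exact (K.subgroupOf _).mul_mem ((K.subgroupOf _).mul_mem hk hx.1) ((K.subgroupOf _).inv_mem hk)
          · show r _ ∈ N
            rw [map_mul, map_mul, map_inv]
            have hk' : r ⟨k, hKS hk⟩ ∈ Subgroup.normalizer (N : Set (Gam W)) := hN ⟨⟨k, hKS hk⟩, hk, rfl⟩
            exact (Subgroup.mem_normalizer_iff.1 hk' _).1 hx.2) with h | h
        · left
          rintro n hn _ ⟨y, hy, rfl⟩
          rw [← hM] at hn
          obtain ⟨x, hx, rfl⟩ := hn
          have : Commute x y := Subtype.ext (h _ ⟨x, hx, rfl⟩ _ hy).eq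
          exact this.map r
        · right
          rw [← hM]
          congr 1
          apply Subgroup.map_injective (stabA (Gam V) W).subtype_injective
          rw [h, Subgroup.subgroupOf_map_subtype, inf_of_le_left hKS]
      · rintro _ ⟨x, hx, rfl⟩
        rcases H.orbit _ hx with h | h
        · left
          refine mem_normalizer_of_forall ?_
          rintro _ ⟨y, hy, rfl⟩
          exact ⟨x * y * x⁻¹, (Subgroup.mem_normalizer_iff.1 h _).1 hy, by simp⟩
        · right
          rintro _ ⟨k, hk, rfl⟩ _ ⟨l, hl, rfl⟩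
          rw [← map_inv, ← map_mul, ← map_mul]
          have : Commute (x * k * x⁻¹) l := Subtype.ext (h _ hk _ hl).eq
          exact this.map r
    have hWlt : Nat.card W < Nat.card V := by
      refine lt_of_le_of_ne (AddSubgroup.card_le_card_addGroup W) fun h => hb1 ?_
      have htop := AddSubgroup.eq_top_of_card_eq W h
      exact gam_ext fun v => by
        rw [one_smul]; exact (show v ∈ W from htop ▸ AddSubgroup.mem_top v)
    have hA'le : Nat.card A' ≤ Nat.card A := by
      refine le_trans (Nat.card_le_card_of_surjective _ (r.subgroupMap_surjective (A.subgroupOf _))) ?_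
      exact (Nat.card_congr (Subgroup.subgroupOfEquivOfLe hAS).toEquiv).le
    have hres := IH (Nat.card W + Nat.card A') (by omega) W A' K' H' le_rfl
    rcases H.orbit a₀ ha₀ with h | h
    · exact hmove h
    -- the image of `K` is abelian
    let φS : K →* stabA (Gam V) W := Subgroup.inclusion hKS
    have himg : ∀ k : K, r (φS k) = 1 := perfect_hom_comm hK (r.comp φS) (by
      intro g k
      show r (φS g) * r (φS k) = r (φS k) * r (φS g)
      have hx : r ⟨a₀, hAS ha₀⟩ ∈ A' := ⟨_, ha₀, rfl⟩
      have hgmem : r (φS g) ∈ K' := ⟨_, g.2, rfl⟩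
      -- write `g` as a conjugate
      have hnorm := Subgroup.mem_normalizer_iff.1 (inv_mem (hres hx)) (r (φS g))
      obtain ⟨y, hy, e⟩ := hnorm.1 hgmem
      have hg : r (φS g) = r (⟨a₀, hAS ha₀⟩ * y * ⟨a₀, hAS ha₀⟩⁻¹) := by
        rw [map_mul, map_mul, map_inv, e]; group
      rw [hg, ← map_mul, ← map_mul]
      exact congrArg r (Subtype.ext (h _ hy _ k.2).eq))
    refine hKbot (eq_bot_of_trivial fun k v => ?_)
    have hWfix : ∀ g : K, ∀ w, w ∈ W → (g : Gam V) • w = w := by
      intro g w hw
      have := congrArg (fun u : Gam W => ((u • (⟨w, hw⟩ : W) : W) : V)) (himg g)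
      simpa [rapp, φS] using this
    -- ascend the series of `b - 1`
    let N : AddMonoid.End V := DistribMulAction.toAddMonoidEnd (Gam V) V b - 1
    have hNp : N ^ p = 0 := pow_sub_one_eq_zero H.exponent b (H.expA b hb)
    have hseries : ∀ m, ∀ v : V, (N ^ m) v = 0 → ∀ g : K, (g : Gam V) • v = v := by
      intro m
      induction m with
      | zero =>
        intro v hv g
        have : v = 0 := hv
        rw [this, smul_zero]
      | succ m ihm =>
        intro v hv g
        have hNv : (N ^ m) (N v) = 0 := by rw [pow_succ] at hv; exact hv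
        have hdisp : ∀ g : K, (g : Gam V) • v - v ∈ W := by
          intro g
          show b • ((g : Gam V) • v - v) = (g : Gam V) • v - v
          have e := ihm (N v) hNv g
          have eN : N v = b • v - v := rfl
          rw [eN, smul_sub, ← mul_smul, ← hall g, mul_smul, sub_eq_sub_iff_sub_eq_sub] at e
          rw [smul_sub]; exact e
        have hcomm : ∀ g h : K, (g : Gam V) • (h : Gam V) • v = (h : Gam V) • (g : Gam V) • v := by
          intro g h
          have k1 := hWfix g _ (hdisp h)
          have k2 := hWfix h _ (hdisp g)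
          rw [smul_sub, sub_eq_iff_eq_add] at k1 k2
          rw [k1, k2]; abel
        let S : Subgroup K :=
          { carrier := {g | (g : Gam V) • v = v}
            one_mem' := by simp
            mul_mem' := fun {x y} hx hy => by
              show ((x : Gam V) * y) • v = v
              rw [mul_smul, hy, hx]
            inv_mem' := fun {x} hx => by
              show (x : Gam V)⁻¹ • v = v
              rw [inv_smul_eq_iff]; exact hx.symm }
        have hS : S = ⊤ := eq_top_of_commutators hK S fun x y => by
          show (((y * x)⁻¹ * (x * y) : K) : Gam V) • v = v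
          rw [Subgroup.coe_mul, Subgroup.coe_inv, mul_smul, inv_smul_eq_iff, Subgroup.coe_mul, Subgroup.coe_mul, mul_smul, mul_smul]
          exact hcomm x y
        exact (show g ∈ S from hS ▸ Subgroup.mem_top g)
    exact hseries p v (by rw [hNp]; rfl) k
  -- replacement
  have hA : A ≠ ⊥ := fun h => hmove (by
    rw [h, Subgroup.mem_bot] at ha₀
    rw [ha₀]; exact one_mem _)
  obtain ⟨Bs, hBsA, hBsne, hBsm, hBsfix⟩ :=
    replacement H.exponent A H.comm H.expA
      (fun a _ h => gam_ext fun v => by rw [h v, one_smul]) hA H.maxA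
  set A0 := A ⊓ Subgroup.normalizer (K : Set (Gam V)) with hA0
  have hBcase : Bs = A ∨ Bs ≤ A0 := by
    by_cases h : Bs = A
    · exact Or.inl h
    · right
      have hlt : Nat.card Bs < Nat.card A :=
        lt_of_le_of_ne (Subgroup.card_le_of_le hBsA) fun e => h (Subgroup.eq_of_le_of_card_ge hBsA e.ge)
      have H' : Hyp p Bs K :=
        ⟨H.exponent, fun a ha b hb => H.comm a (hBsA ha) b (hBsA hb), fun a ha => H.expA a (hBsA ha),
          fun B hB => hBsm ▸ H.maxA B (hB.trans hBsA), H.perfect, H.qs, fun a ha => H.orbit a (hBsA ha)⟩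
      exact le_inf hBsA (IH (Nat.card V + Nat.card Bs) (by omega) V Bs K H' le_rfl)
  -- distinct conjugates commute
  have hdist : ∀ x ∈ A, ∀ y ∈ A, y⁻¹ * x ∉ Subgroup.normalizer (K : Set (Gam V)) → ∀ k l : K,
      Commute (x * k * x⁻¹) (y * l * y⁻¹) := by
    intro x hx y hy hne k l
    rcases H.orbit _ (mul_mem (inv_mem hy) hx) with h | h
    · exact absurd h hne
    have := (h _ k.2 _ l.2).map (MulAut.conj y).toMonoidHom
    simpa [mul_assoc] using this
  have hpow : ∀ a ∈ A, a ∉ Subgroup.normalizer (K : Set (Gam V)) → ∀ i j, i < p → j < p → i ≠ j →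
      ∀ g h : K, Commute (cj K a i g) (cj K a j h) := by
    intro a ha hna
    have key : ∀ i j, i < j → j < p → ∀ g h : K, Commute (cj K a i g) (cj K a j h) := by
      intro i j hij hj g h
      refine (hdist _ (pow_mem ha j) _ (pow_mem ha i) ?_ h g).symm
      intro hmem
      apply hna
      have e : (a ^ i)⁻¹ * a ^ j = a ^ (j - i) := by
        rw [inv_mul_eq_iff_eq_mul, ← pow_add]; congr 1; omega
      rw [e] at hmem
      have hord : orderOf a = p := orderOf_eq_prime (H.expA a ha) (fun h1 => hna (h1 ▸ one_mem _))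
      have hco : (j - i).Coprime (orderOf a) := by
        rw [hord]
        exact (Nat.Prime.coprime_iff_not_dvd hprime).2 (Nat.not_dvd_of_pos_of_lt (by omega) (by omega)) |>.symm
      obtain ⟨m, hm⟩ := exists_pow_eq_self_of_coprime hco
      rw [← hm]
      exact pow_mem hmem m
    intro i j hi hj hne g h
    rcases Nat.lt_or_gt_of_ne hne with hlt | hlt
    · exact key i j hlt hj g h
    · exact (key j i hlt hi h g).symm
  -- the diagonal fixes `[V,a]`
  have hY : ∀ a ∈ A, a ∉ Subgroup.normalizer (K : Set (Gam V)) → ∀ k : K, ∀ v : V,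
      diag K a p k • (a • v - v) = a • v - v := by
    intro a ha hna
    have hc := hpow a ha hna
    have hDa : ∀ k, Commute (diag K a p k) a := fun k => diag_comm hc hprime.pos (H.expA a ha) k
    let Dh : K →* Gam V := MonoidHom.mk' (diag K a p) (diag_mul hc le_rfl)
    have hpres : ∀ (k : K) (v : V), diag K a p k • (a • v - v) = a • (diag K a p k • v) - diag K a p k • v := by
      intro k v
      rw [smul_sub, ← mul_smul, (hDa k).eq, mul_smul]
    let N : Subgroup K :=
      { carrier := {k | ∀ v : V, diag K a p k • (a • v - v) = a • v - v}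
        one_mem' := fun v => by
          show Dh 1 • _ = _
          rw [map_one, one_smul]
        mul_mem' := fun {x y} hx hy v => by
          show Dh (x * y) • _ = _
          rw [map_mul, mul_smul]
          show Dh x • diag K a p y • _ = _
          rw [hy]; exact hx v
        inv_mem' := fun {x} hx v => by
          show Dh x⁻¹ • _ = _
          rw [map_inv, inv_smul_eq_iff]
          exact (hx v).symm }
    have hNn : N.Normal := by
      constructor
      intro x hx g v
      show Dh (g * x * g⁻¹) • _ = _
      rw [map_mul, map_mul, map_inv, mul_smul, mul_smul]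
      have hinv : (Dh g)⁻¹ • (a • v - v) = a • ((Dh g)⁻¹ • v) - (Dh g)⁻¹ • v := by
        rw [← map_inv]; exact hpres g⁻¹ v
      rw [hinv, show Dh x • (a • ((Dh g)⁻¹ • v) - (Dh g)⁻¹ • v) = a • ((Dh g)⁻¹ • v) - (Dh g)⁻¹ • v from hx _,
        ← hinv, smul_inv_smul]
    suffices hN : N = ⊤ by
      intro k
      exact (show k ∈ N from hN ▸ Subgroup.mem_top k)
    -- (i) an element of `A` normalising `K` and fixing `[V,a]`
    by_cases hB : ∃ b ∈ A0, b ≠ 1 ∧ ∀ v : V, b • (a • v - v) = a • v - v
    · obtain ⟨b, hb0, hb1, hbY⟩ := hB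
      by_contra hN
      have hNc := hqs N hNn hN
      let f : K → K := fun k => k⁻¹ * ⟨b * k * b⁻¹, (Subgroup.mem_normalizer_iff.1 hb0.2 _).1 k.2⟩
      have hfN : ∀ k, f k ∈ N := by
        intro k v
        show Dh (k⁻¹ * _) • _ = _
        rw [map_mul, map_inv, mul_smul, inv_smul_eq_iff]
        show diag K a p _ • _ = diag K a p k • _
        have hd : ∀ m, m ≤ p → diag K a m ⟨b * k * b⁻¹, (Subgroup.mem_normalizer_iff.1 hb0.2 _).1 k.2⟩ = b * diag K a m k * b⁻¹ := by
          intro m hm
          induction m with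
          | zero => show (1 : Gam V) = b * 1 * b⁻¹; group
          | succ m ih =>
            show diag K a m _ * cj K a m _ = b * (diag K a m k * cj K a m k) * b⁻¹
            rw [ih (by omega), cj_apply, cj_apply]
            have hbm : a ^ m * b = b * a ^ m := H.comm _ (pow_mem ha m) _ hb0.1
            have e : a ^ m * (b * (k : Gam V) * b⁻¹) * (a ^ m)⁻¹ = b * (a ^ m * k * (a ^ m)⁻¹) * b⁻¹ := by
              calc a ^ m * (b * (k : Gam V) * b⁻¹) * (a ^ m)⁻¹ = (a ^ m * b) * k * (a ^ m * b)⁻¹ := by group
                _ = (b * a ^ m) * k * (b * a ^ m)⁻¹ := by rw [hbm]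
                _ = _ := by group
            show _ * (a ^ m * (b * (k : Gam V) * b⁻¹) * (a ^ m)⁻¹) = _
            rw [e]; group
        rw [hd p le_rfl, mul_smul, mul_smul, inv_smul_eq_iff.2 (hbY v).symm, hpres k v, hbY]
      have hfc : ∀ k, f k ∈ Subgroup.center K := fun k => hNc (hfN k)
      let fh : K →* K := MonoidHom.mk' f (fun x y => by
        have hxy := Subgroup.mem_center_iff.1 (hfc x) y⁻¹
        calc f (x * y) = y⁻¹ * f x * (y * f y) := by
              apply Subtype.ext
              simp only [f, Subgroup.coe_mul, Subgroup.coe_inv]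
              group
          _ = _ := by rw [hxy]; group)
      have hfall : ∀ k, f k = 1 := perfect_hom_comm hK fh (fun x y => (Subgroup.mem_center_iff.1 (hfc x) _).symm)
      obtain ⟨k, hk⟩ := hcent b hb0.1 hb1
      have e := congrArg Subtype.val (inv_mul_eq_one.1 (hfall k))
      exact hk (eq_mul_inv_iff_mul_eq.1 e).symm
    -- (ii) no such element: then `A` is regular on the orbit
    push Not at hB
    have hquad : ∀ c ∈ A, ∀ v : V, c • (a • v - v) = a • v - v := by
      intro c hc' v
      rcases hBcase with h | h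
      · exact hBsfix c (h ▸ hc') a ha v
      · obtain ⟨⟨b, hb⟩, hb1⟩ := (Subgroup.bot_or_exists_ne_one Bs).resolve_left hBsne |> fun ⟨x, hx, hx1⟩ => (⟨⟨x, hx⟩, hx1⟩ : ∃ b : Bs, (b : Gam V) ≠ 1)
        obtain ⟨v', hv'⟩ := hB b (h hb) hb1
        exact absurd (hBsfix b hb a ha v') hv'
    have hA0bot : ∀ c ∈ A0, c = 1 := by
      intro c hc'
      by_contra h1
      obtain ⟨v, hv⟩ := hB c hc' h1
      exact hv (hquad c hc'.1 v)
    by_cases hcyc : A ≤ Subgroup.zpowers a
    · -- `A` cyclic of order `p`
      have hcardA : Nat.card A ≤ p := by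
        refine le_trans (Subgroup.card_le_of_le hcyc) ?_
        rw [Nat.card_zpowers, orderOf_eq_prime (H.expA a ha) (fun h => hna (h ▸ one_mem _))]
      have hfixA : fixS V A = fixA V a := by
        refine le_antisymm (fun v hv => hv a ha) fun v hv g hg => ?_
        have hle : Subgroup.zpowers a ≤ MulAction.stabilizer (Gam V) v := by
          rw [Subgroup.zpowers_le]; exact hv
        exact hle (hcyc hg)
      let n : V →+ V := AddMonoidHom.mk' (fun v => a • v - v) (fun x y => by rw [smul_add]; abel)
      have hker : n.ker = fixA V a := by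
        ext v
        show a • v - v = 0 ↔ a • v = v
        exact sub_eq_zero
      have hrange : Nat.card n.range ≤ p := by
        have h1 : Nat.card n.range * Nat.card n.ker = Nat.card V := by
          rw [← AddSubgroup.index_ker, mul_comm, AddSubgroup.card_mul_index]
        have h2 := H.maxA ⊥ bot_le
        have hfb : fixS V (⊥ : Subgroup (Gam V)) = ⊤ := by
          ext v
          exact ⟨fun _ => trivial, fun _ g hg => by rw [Subgroup.mem_bot.1 hg, one_smul]⟩
        unfold mS at h2
        rw [hfb, AddSubgroup.card_top, Subgroup.card_bot, one_mul, hfixA, ← h1, hker] at h2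
        refine Nat.le_of_mul_le_mul_right (h2.trans ?_) (Nat.card_pos : 0 < Nat.card (fixA V a))
        exact Nat.mul_le_mul_right _ hcardA
      by_contra hN
      refine hN (eq_top_of_commutators hK N fun g k v => ?_)
      show Dh ((k * g)⁻¹ * (g * k)) • _ = _
      rw [map_mul, map_inv, mul_smul, inv_smul_eq_iff, map_mul, map_mul, mul_smul, mul_smul]
      set y := a • v - v with hy_def
      by_cases hy0 : y = 0
      · rw [hy0]; simp
      have hyr : AddSubgroup.zmultiples y = n.range := by
        refine AddSubgroup.eq_of_le_of_card_ge (AddSubgroup.zmultiples_le.2 ⟨v, hy_def.symm⟩) ?_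
        rw [Nat.card_zmultiples, addOrderOf_eq_prime (H.exponent y) hy0]
        exact hrange
      have hmult : ∀ g : K, ∃ i : ℤ, i • y = Dh g • y := by
        intro g
        refine AddSubgroup.mem_zmultiples_iff.1 ?_
        rw [hyr]
        exact ⟨diag K a p g • v, show a • (diag K a p g • v) - diag K a p g • v = Dh g • y from (hpres g v).symm.trans (by rw [hy_def]; rfl)⟩
      obtain ⟨i, hi⟩ := hmult g
      obtain ⟨j, hj⟩ := hmult k
      calc Dh g • Dh k • y = Dh g • (j • y) := by rw [hj]
        _ = j • (i • y) := by rw [smul_comm, hi]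
        _ = i • (j • y) := smul_comm j i y
        _ = Dh k • (i • y) := by rw [smul_comm (Dh k) i, hj]
        _ = Dh k • Dh g • y := by rw [hi]
    · obtain ⟨c, hcA, hc'⟩ := SetLike.not_le_iff_exists.1 hcyc
      have hne : ∀ i j : ℕ, (a ^ j)⁻¹ * (c * a ^ i) ∉ Subgroup.normalizer (K : Set (Gam V)) := by
        intro i j h
        have := hA0bot _ ⟨A.mul_mem (A.inv_mem (A.pow_mem ha j)) (A.mul_mem hcA (A.pow_mem ha i)), h⟩
        rw [inv_mul_eq_one] at this
        exact hc' ((eq_mul_inv_iff_mul_eq.2 this.symm) ▸ (Subgroup.zpowers a).mul_mem ((Subgroup.zpowers a).pow_mem (Subgroup.mem_zpowers a) j) ((Subgroup.zpowers a).inv_mem ((Subgroup.zpowers a).pow_mem (Subgroup.mem_zpowers a) i)))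
      have hcd : ∀ g k : K, Commute (c * diag K a p g * c⁻¹) (diag K a p k) := by
        intro g k
        have h1 : ∀ i j, Commute (c * cj K a i g * c⁻¹) (cj K a j k) := by
          intro i j
          have := hdist _ (mul_mem hcA (pow_mem ha i)) _ (pow_mem ha j) (hne i j) g k
          rw [cj_apply, cj_apply, show c * (a ^ i * (g : Gam V) * (a ^ i)⁻¹) * c⁻¹ = (c * a ^ i) * g * (c * a ^ i)⁻¹ by group]
          exact this
        have h2 : ∀ m j, Commute (c * diag K a m g * c⁻¹) (cj K a j k) := by
          intro m j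
          induction m with
          | zero => show Commute (c * 1 * c⁻¹) _; rw [mul_one, mul_inv_cancel]; exact Commute.one_left _
          | succ m ih =>
            show Commute (c * (diag K a m g * cj K a m g) * c⁻¹) _
            rw [show c * (diag K a m g * cj K a m g) * c⁻¹ = (c * diag K a m g * c⁻¹) * (c * cj K a m g * c⁻¹) by group]
            exact ih.mul_left (h1 m j)
        suffices h3 : ∀ m, Commute (c * diag K a p g * c⁻¹) (diag K a m k) from h3 p
        intro m
        induction m with
        | zero => exact Commute.one_right _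
        | succ m ih => exact ih.mul_right (h2 p m)
      refine eq_top_of_commutators hK N fun g k v => ?_
      show Dh ((k * g)⁻¹ * (g * k)) • _ = _
      rw [map_mul, map_inv, mul_smul, inv_smul_eq_iff, map_mul, map_mul, mul_smul, mul_smul]
      show diag K a p g • diag K a p k • _ = diag K a p k • diag K a p g • _
      have hcy : ∀ v : V, (c * diag K a p g * c⁻¹) • (a • v - v) = diag K a p g • (a • v - v) := by
        intro v
        rw [mul_smul, mul_smul, inv_smul_eq_iff.2 (hquad c hcA v).symm, hpres g v, hquad c hcA]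
      rw [hpres k v, ← hcy, ← hpres k v, ← mul_smul, (hcd g k).eq, mul_smul, hcy]
  -- displacement argument
  have hfin : ∀ a ∈ A, a ∉ Subgroup.normalizer (K : Set (Gam V)) →
      ¬ ∀ (k : K) (v : V), (k : Gam V) • (a • v - v) = a • v - v := by
    intro a ha hna hfix
    refine hKbot (eq_bot_of_trivial fun k v => ?_)
    refine finish hK K.subtype a (fun g h => ?_) hfix k v
    have := hpow a ha hna 0 1 hprime.pos hprime.one_lt zero_ne_one g h
    rwa [cj_zero, cj_apply, pow_one] at this
  rcases hprime.eq_two_or_odd' with hp2 | hodd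
  swap
  · -- odd `p`
    apply hfin a₀ ha₀ hmove
    set a := a₀
    have hc := hpow a ha₀ hmove
    have hp3 : 2 < p := by
      rcases hodd with ⟨m, hm⟩
      have := hprime.two_le
      omega
    set N : AddMonoid.End V := DistribMulAction.toAddMonoidEnd (Gam V) V a - 1 with hN
    have hNp : N ^ p = 0 := pow_sub_one_eq_zero H.exponent a (H.expA a ha₀)
    have hNa : ∀ (j : ℕ) (v : V), a • (N ^ j) v = (N ^ j) (a • v) := by
      intro j v
      have : Commute (DistribMulAction.toAddMonoidEnd (Gam V) V a) (N ^ j) :=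
        ((Commute.refl _).sub_right (Commute.one_right _)).pow_right j
      exact congrArg (fun f : AddMonoid.End V => f v) this.eq
    have hNa' : ∀ (j : ℕ) (v : V), a⁻¹ • (N ^ j) v = (N ^ j) (a⁻¹ • v) := by
      intro j v
      rw [inv_smul_eq_iff, hNa, smul_inv_smul]
    have step : ∀ j, 1 ≤ j → (∀ (k : K) (v : V), (k : Gam V) • (N ^ (j + 1)) v = (N ^ (j + 1)) v) →
        ∀ (k : K) (v : V), (k : Gam V) • (N ^ j) v = (N ^ j) v := by
      intro j hj hfix k v
      obtain ⟨j', rfl⟩ : ∃ j', j = j' + 1 := ⟨j - 1, by omega⟩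
      -- the relation at any point of the range
      have rel : ∀ u : V, ∀ g x : K,
          cj K a 0 (g * x * g⁻¹) • (N ^ (j' + 1)) u - cj K a 0 x • (N ^ (j' + 1)) u =
            cj K a 1 (g * x * g⁻¹) • (N ^ (j' + 1)) u - cj K a 1 x • (N ^ (j' + 1)) u := by
        intro u g x
        set y := (N ^ (j' + 1)) u with hy
        have hyY : y = a • (N ^ j') u - (N ^ j') u := by rw [hy, pow_succ']; rfl
        have hay : a • y = a • (N ^ j') (a • u) - (N ^ j') (a • u) := by
          rw [hyY, smul_sub, ← hNa]
        have hny : a • y - y = (N ^ (j' + 1 + 1)) u := by rw [pow_succ' N (j' + 1)]; rfl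
        have h1ny : ∀ z, cj K a 1 z • (a • y - y) = a • y - y := by
          intro z
          rw [cj_apply, pow_one, mul_smul, mul_smul, hny, hNa', hfix, ← hNa', smul_inv_smul]
        have hshift : ∀ z : K, cj K a 1 z • a • y = cj K a 1 z • y + (a • y - y) := fun z => by
          have := h1ny z
          rw [smul_sub, sub_eq_iff_eq_add] at this
          rw [this]; abel
        have hz := hY a ha₀ hmove g (cj K a 0 x • y)
        have hcjs : ∀ z : K, a • cj K a 0 z • y = cj K a 1 z • a • y := by
          intro z
          rw [← mul_smul, ← mul_smul]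
          congr 1
          rw [← cj_succ]; group
        rw [hcjs, smul_sub, ← mul_smul _ (cj K a 1 x), ← mul_smul _ (cj K a 0 x),
          diag_conj hc hprime.one_lt le_rfl, diag_conj hc hprime.pos le_rfl, if_pos hprime.one_lt, if_pos hprime.pos,
          mul_smul, mul_smul (cj K a 0 _)] at hz
        have hfy : diag K a p g • y = y := by rw [hyY]; exact hY a ha₀ hmove g _
        have hfay : diag K a p g • a • y = a • y := by rw [hay]; exact hY a ha₀ hmove g _
        rw [hfy, hfay, hshift, hshift] at hz
        rw [sub_eq_sub_iff_sub_eq_sub] at hz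
        rw [add_sub_add_right_eq_sub] at hz
        exact hz.symm
      have hy' : (N ^ (j' + 1)) v = a • (N ^ j') v - (N ^ j') v := by rw [pow_succ']; rfl
      have := odd_step (G := Gam V) hK K.subtype a (p := p) (by simp [hprime.ne_zero]) hodd ((N ^ (j' + 1)) v) (H.exponent _)
        (fun g h => by
          have := hc 0 1 hprime.pos hprime.one_lt zero_ne_one g h
          rwa [cj_zero, cj_apply, pow_one] at this)
        (fun g h => by
          have := hc 0 2 hprime.pos hp3 (by norm_num) g h
          rw [cj_zero, ← cj_succ, ← cj_succ, cj_zero] at this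
          exact this)
        (fun m => ⟨(m : Gam V) * diag K a p m⁻¹, fun x => by
            have h := diag_conj hc hprime.pos (m := p) le_rfl m⁻¹ x
            rw [if_pos hprime.pos, cj_zero, cj_zero] at h
            show Commute _ (x : Gam V)
            calc (m : Gam V) * diag K a p m⁻¹ * (x : Gam V) = (m : Gam V) * (((m⁻¹ * x * m⁻¹⁻¹ : K) : Gam V) * diag K a p m⁻¹) := by rw [mul_assoc, h]
              _ = _ := by simp only [Subgroup.coe_mul, Subgroup.coe_inv]; group,
          by
            show (m : Gam V) • _ = _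
            rw [mul_smul, hy', hY a ha₀ hmove m⁻¹]⟩)
        (fun g x => by
          have := rel v g x
          rw [cj_zero, cj_zero, cj_apply, cj_apply, pow_one] at this
          exact this)
        (fun g x => by
          have := congrArg (fun w => a • w) (rel (a⁻¹ • v) g x)
          simp only [smul_sub, ← hNa', ← mul_smul] at this
          rw [cj_zero, cj_zero, cj_apply, cj_apply, pow_one] at this
          show (a * _ * a⁻¹) • _ - (a * _ * a⁻¹) • _ = (a * (a * _ * a⁻¹) * a⁻¹) • _ - (a * (a * _ * a⁻¹) * a⁻¹) • _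
          simp only [mul_assoc] at this ⊢
          exact this) k
      exact this
    have hall : ∀ d j, j + d = p → 1 ≤ j → ∀ (k : K) (v : V), (k : Gam V) • (N ^ j) v = (N ^ j) v := by
      intro d
      induction d with
      | zero =>
        intro j hj _ k v
        rw [show j = p by omega, hNp]
        exact smul_zero _
      | succ d ih => intro j hj hj1; exact step j hj1 (ih (j + 1) (by omega) (by omega))
    intro k v
    have := hall (p - 1) 1 (by omega) le_rfl k v
    rwa [pow_one] at this
  -- `p = 2`
  subst hp2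
  have hVV : ∀ v : V, v + v = 0 := fun v => by rw [← two_nsmul]; exact H.exponent v
  have hinvo : ∀ a ∈ A, a * a = 1 := fun a ha => by rw [← pow_two]; exact H.expA a ha
  have hinv : ∀ a ∈ A, a⁻¹ = a := fun a ha => inv_eq_of_mul_eq_one_right (hinvo a ha)
  have hD2 : ∀ a ∈ A, a ∉ Subgroup.normalizer (K : Set (Gam V)) → ∀ (g : K) (v : V),
      (K.subtype g * (a * K.subtype g * a⁻¹)) • (a • v - v) = a • v - v := by
    intro a ha hna g v
    have := hY a ha hna g v
    rw [show diag K a 2 g = (1 * cj K a 0 g) * cj K a 1 g from rfl, one_mul, cj_zero, cj_apply, pow_one] at this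
    exact this
  by_cases hfour : ∃ c ∈ A, c ∉ Subgroup.normalizer (K : Set (Gam V)) ∧ a₀ * c ∉ Subgroup.normalizer (K : Set (Gam V))
  · obtain ⟨c, hcA, hc, hac⟩ := hfour
    set a := a₀
    have hcom : a * c = c * a := H.comm a ha₀ c hcA
    let four : Gam V → Prop := fun e => e = 1 ∨ e = a ∨ e = c ∨ e = a * c
    let F : AddSubgroup V :=
      { carrier := {v | ∀ e, four e → ∀ k : K, (e * k * e⁻¹) • v = v}
        zero_mem' := fun e _ k => smul_zero _
        add_mem' := fun {x y} hx hy e he k => by rw [smul_add, hx e he k, hy e he k]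
        neg_mem' := fun {x} hx e he k => by rw [smul_neg, hx e he k] }
    have hfourA : ∀ e, four e → e ∈ A := by
      rintro e (rfl | rfl | rfl | rfl)
      exacts [one_mem A, ha₀, hcA, mul_mem ha₀ hcA]
    have hmul : ∀ x, four x → ∀ e, four e → four (x * e) := by
      have haa := hinvo a ha₀
      have hcc := hinvo c hcA
      have hca : c * a = a * c := hcom.symm
      have e1 : a * (a * c) = c := by rw [← mul_assoc, haa, one_mul]
      have e2 : c * (a * c) = a := by rw [← mul_assoc, hca, mul_assoc, hcc, mul_one]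
      have e3 : a * c * a = c := by rw [mul_assoc, hca, ← mul_assoc, haa, one_mul]
      have e4 : a * c * c = a := by rw [mul_assoc, hcc, mul_one]
      have e5 : a * c * (a * c) = 1 := by rw [mul_assoc, e2, haa]
      intro x hx e he
      rcases hx with h | h | h | h <;> rcases he with h' | h' | h' | h' <;> rw [h, h'] <;>
        simp only [four, one_mul, mul_one, haa, hcc, hca, e1, e2, e3, e4, e5, eq_self_iff_true, true_or, or_true]
    have hpermS : ∀ x, four x → x ∈ stabA (Gam V) F := by
      have hdir : ∀ x, four x → ∀ v ∈ F, x • v ∈ F := by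
        intro x hx v hv e he k
        have h := hv (x⁻¹ * e) (by rw [hinv x (hfourA x hx)]; exact hmul x hx e he) k
        rw [← mul_smul, show e * (k : Gam V) * e⁻¹ * x = x * ((x⁻¹ * e) * k * (x⁻¹ * e)⁻¹) by group, mul_smul, h]
      intro x hx v
      refine ⟨fun h => ?_, hdir x hx v⟩
      have := hdir x hx _ h
      rwa [← mul_smul, hinvo x (hfourA x hx), one_smul] at this
    have hKS : ∀ k : K, (k : Gam V) ∈ stabA (Gam V) F := by
      intro k v
      have hfix : ∀ w ∈ F, (k : Gam V) • w = w := fun w hw => by simpa using hw 1 (Or.inl rfl) k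
      refine ⟨fun h => ?_, fun h => by rw [hfix v h]; exact h⟩
      have := hfix _ h
      rw [MulAction.injective (k : Gam V) |>.eq_iff] at this
      rw [← this]; exact h
    letI : DistribMulAction (stabA (Gam V) F) (V ⧸ F) := quotAct F
    have hqmk : ∀ (g : stabA (Gam V) F) (v : V), g • (QuotientAddGroup.mk v : V ⧸ F) = QuotientAddGroup.mk ((g : Gam V) • v) :=
      fun _ _ => rfl
    let φ : K →* stabA (Gam V) F := K.subtype.codRestrict _ hKS
    let aS : stabA (Gam V) F := ⟨a, hpermS a (Or.inr (Or.inl rfl))⟩
    let cS : stabA (Gam V) F := ⟨c, hpermS c (Or.inr (Or.inr (Or.inl rfl)))⟩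
    have c1 : ∀ g h : K, Commute (g : Gam V) (a * h * a⁻¹) := fun g h => by
      have := hdist 1 (one_mem A) a ha₀ (by rw [mul_one]; exact fun h => hmove (inv_mem_iff.1 h)) g h
      simpa using this
    have c2 : ∀ g h : K, Commute (g : Gam V) (c * h * c⁻¹) := fun g h => by
      have := hdist 1 (one_mem A) c hcA (by rw [mul_one]; exact fun h => hc (inv_mem_iff.1 h)) g h
      simpa using this
    have c3 : ∀ g h : K, Commute (g : Gam V) (a * c * h * (a * c)⁻¹) := fun g h => by
      have := hdist 1 (one_mem A) (a * c) (mul_mem ha₀ hcA) (by rw [mul_one]; exact fun h => hac (inv_mem_iff.1 h)) g h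
      simpa using this
    have aY : ∀ v : V, a • (a • v - v) = a • v - v := by
      intro v
      rw [smul_sub, ← mul_smul, hinvo a ha₀, one_smul]
      have : ∀ x y : V, x - y = y - x := fun x y => by
        rw [sub_eq_add_neg, sub_eq_add_neg, neg_eq_of_add_eq_zero_left (hVV y), neg_eq_of_add_eq_zero_left (hVV x), add_comm]
      exact this _ _
    have cY : ∀ v : V, c • (c • v - v) = c • v - v := by
      intro v
      rw [smul_sub, ← mul_smul, hinvo c hcA, one_smul]
      have : ∀ x y : V, x - y = y - x := fun x y => by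
        rw [sub_eq_add_neg, sub_eq_add_neg, neg_eq_of_add_eq_zero_left (hVV y), neg_eq_of_add_eq_zero_left (hVV x), add_comm]
      exact this _ _
    -- the double displacements lie in `F`
    have hF : ∀ v : V, c • (a • v - v) - (a • v - v) ∈ F := by
      intro v
      set z := c • (a • v - v) - (a • v - v) with hz
      have hza : z = a • (c • v - v) - (c • v - v) := by
        simp only [hz, smul_sub, ← mul_smul, hcom]; abel
      have d1 : ∀ g : K, ((g : Gam V) * (a * g * a⁻¹)) • z = z := fun g => by rw [hza]; exact hD2 a ha₀ hmove g _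
      have d2 : ∀ g : K, ((g : Gam V) * (c * g * c⁻¹)) • z = z := fun g => hD2 c hcA hc g _
      have az : a • z = z := by rw [hza]; exact aY _
      have cz : c • z = z := by rw [hz]; exact cY _
      have hEq : ∀ g : K, (a * g * a⁻¹) • z = (c * g * c⁻¹) • z := fun g => by
        have h1 := d1 g
        have h2 := d2 g
        rw [mul_smul, ← eq_inv_smul_iff] at h1 h2
        rw [h1, h2]
      let φa : K →* Gam V := (MulAut.conj a).toMonoidHom.comp K.subtype
      let φc : K →* Gam V := (MulAut.conj c).toMonoidHom.comp K.subtype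
      have cac : ∀ g h, Commute (φa g) (φc h) := fun g h =>
        hdist a ha₀ c hcA (by rw [hinv c hcA, ← hcom]; exact hac) g h
      let S : Subgroup K :=
        { carrier := {g | φa g • z = z}
          one_mem' := by simp
          mul_mem' := fun {x y} hx hy => by
            show φa (x * y) • z = z
            rw [map_mul, mul_smul, hy, hx]
          inv_mem' := fun {x} hx => by
            show φa x⁻¹ • z = z
            rw [map_inv, inv_smul_eq_iff]; exact hx.symm }
      have hEq' : ∀ g, φa g • z = φc g • z := hEq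
      have hS : S = ⊤ := eq_top_of_commutators hK S fun g h => by
        show φa ((h * g)⁻¹ * (g * h)) • z = z
        rw [map_mul, map_inv, mul_smul, inv_smul_eq_iff]
        calc φa (g * h) • z = φa g • φc h • z := by rw [map_mul, mul_smul, hEq' h]
          _ = φc h • φc g • z := by rw [← mul_smul, (cac g h).eq, mul_smul, hEq' g]
          _ = φa (h * g) • z := by rw [← mul_smul, ← map_mul, hEq']
      intro e he k
      have hk : (a * (k : Gam V) * a⁻¹) • z = z := (show k ∈ S from hS ▸ Subgroup.mem_top k)
      rcases he with rfl | rfl | rfl | rfl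
      · have := hk
        rw [mul_smul, mul_smul, inv_smul_eq_iff.2 az.symm, ← eq_inv_smul_iff, inv_smul_eq_iff.2 az.symm] at this
        simpa using this
      · exact hk
      · exact (hEq k).symm.trans hk
      · have hk' : (c * (k : Gam V) * c⁻¹) • z = z := (hEq k).symm.trans hk
        calc (a * c * (k : Gam V) * (a * c)⁻¹) • z = a • (c * (k : Gam V) * c⁻¹) • a⁻¹ • z := by
              rw [← mul_smul, ← mul_smul]; simp only [mul_inv_rev, mul_assoc]
          _ = z := by rw [inv_smul_eq_iff.2 az.symm, hk', az]
    haveI : Finite (V ⧸ F) := inferInstance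
    have h4 := four_step (G := stabA (Gam V) F) (V := V ⧸ F) hK φ aS cS
      (fun x => by
        obtain ⟨v, rfl⟩ := QuotientAddGroup.mk_surjective x
        exact congrArg QuotientAddGroup.mk (hVV v))
      (Subtype.ext (hinvo a ha₀)) (Subtype.ext (hinvo c hcA)) (Subtype.ext hcom)
      (fun g h => Subtype.ext (c1 g h).eq) (fun g h => Subtype.ext (c2 g h).eq) (fun g h => Subtype.ext (c3 g h).eq)
      (fun g x => by
        obtain ⟨v, rfl⟩ := QuotientAddGroup.mk_surjective x
        exact congrArg QuotientAddGroup.mk (hD2 a ha₀ hmove g v))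
      (fun x => by
        obtain ⟨v, rfl⟩ := QuotientAddGroup.mk_surjective x
        exact QuotientAddGroup.eq_iff_sub_mem.2 (hF v))
    have h5 := finish (G := stabA (Gam V) F) (V := V ⧸ F) hK φ aS (fun g h => Subtype.ext (c1 g h).eq)
      (fun k x => h4 k x)
    refine hKbot (eq_bot_of_trivial fun k v => perfect_stab hK K.subtype (fun g k v => ?_) k v)
    have : (k : Gam V) • v - v ∈ F := QuotientAddGroup.eq_iff_sub_mem.1 (h5 k (QuotientAddGroup.mk v))
    simpa using this 1 (Or.inl rfl) g
  -- index two
  push Not at hfour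
  set a := a₀
  have hcardA : Nat.card A ≤ 2 * Nat.card A0 := by
    rw [mul_comm, ← Fintype.card_bool, ← Nat.card_eq_fintype_card, ← Nat.card_prod]
    refine Nat.card_le_card_of_injective
      (fun x : A => if h : (x : Gam V) ∈ Subgroup.normalizer (K : Set (Gam V)) then ((⟨x, x.2, h⟩ : A0), true)
        else ((⟨a * x, mul_mem ha₀ x.2, hfour x x.2 h⟩ : A0), false)) ?_
    intro x y hxy
    by_cases hx : (x : Gam V) ∈ Subgroup.normalizer (K : Set (Gam V)) <;>
      by_cases hy : (y : Gam V) ∈ Subgroup.normalizer (K : Set (Gam V)) <;> simp [hx, hy] at hxy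
    · have e : (x : Gam V) = y := congrArg (fun z : A0 => (z : Gam V)) hxy
      exact Subtype.ext e
    · have e : a * (x : Gam V) = a * y := congrArg (fun z : A0 => (z : Gam V)) hxy
      exact Subtype.ext (mul_left_cancel e)
  have hVle : ∀ S : Subgroup (Gam V), mS V S = mS V A → Nat.card V ≤ Nat.card S * Nat.card (fixS V S) := by
    intro S hS
    have h2 := H.maxA ⊥ bot_le
    have hfb : fixS V (⊥ : Subgroup (Gam V)) = ⊤ := by
      ext v
      exact ⟨fun _ => trivial, fun _ g hg => by rw [Subgroup.mem_bot.1 hg, one_smul]⟩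
    rw [← hS] at h2
    unfold mS at h2
    rwa [hfb, AddSubgroup.card_top, Subgroup.card_bot, one_mul] at h2
  -- choose the subgroup fixing `[V,a]`
  obtain ⟨B, hBA0, hBY, hBmain⟩ : ∃ B ≤ A0, (∀ b ∈ B, ∀ v : V, b • (a • v - v) = a • v - v) ∧
      ∀ (h4a : 4 * Nat.card (fixA V a) ≤ Nat.card V)
        (h4b : ∀ b ∈ B, b ≠ 1 → 4 * Nat.card B * Nat.card (fixA V b) ≤ Nat.card V), False := by
    rcases hBcase with h | h
    · refine ⟨A0, le_rfl, fun b hb v => hBsfix b (h ▸ hb.1) a ha₀ v, fun h4a h4b => ?_⟩
      have hV' := hVle A rfl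
      have hCpos : 0 < Nat.card (fixS V A) := Nat.card_pos
      rcases Subgroup.bot_or_exists_ne_one A0 with hbot | ⟨b, hb, hb1⟩
      · have h1 : Nat.card A0 = 1 := by rw [hbot, Subgroup.card_bot]
        have hle : Nat.card (fixS V A) ≤ Nat.card (fixA V a) := AddSubgroup.card_le_of_le fun v hv => hv a ha₀
        have h' : Nat.card A * Nat.card (fixS V A) ≤ 2 * Nat.card (fixS V A) :=
          Nat.mul_le_mul_right _ (by rw [h1] at hcardA; simpa using hcardA)
        omega
      · have hle : Nat.card (fixS V A) ≤ Nat.card (fixA V b) := AddSubgroup.card_le_of_le fun v hv => hv b hb.1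
        have h' := Nat.mul_le_mul hcardA (le_refl (Nat.card (fixS V A)))
        have h4 := h4b b hb hb1
        have h'' : 4 * Nat.card A0 * Nat.card (fixS V A) ≤ 4 * Nat.card A0 * Nat.card (fixA V b) := Nat.mul_le_mul_left _ hle
        have hp' : 0 < Nat.card A0 * Nat.card (fixS V A) := Nat.mul_pos Nat.card_pos hCpos
        nlinarith
    · refine ⟨Bs, h, fun b hb v => hBsfix b hb a ha₀ v, fun _ h4b => ?_⟩
      obtain ⟨b, hb, hb1⟩ := (Subgroup.bot_or_exists_ne_one Bs).resolve_left hBsne
      have hV' := hVle Bs hBsm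
      have hle : Nat.card (fixS V Bs) ≤ Nat.card (fixA V b) := AddSubgroup.card_le_of_le fun v hv => hv b hb
      have h4 := h4b b hb hb1
      have h'' : 4 * Nat.card Bs * Nat.card (fixS V Bs) ≤ 4 * Nat.card Bs * Nat.card (fixA V b) := Nat.mul_le_mul_left _ hle
      have hp' : 0 < Nat.card Bs * Nat.card (fixS V Bs) := Nat.mul_pos Nat.card_pos Nat.card_pos
      nlinarith
  refine hfin a ha₀ hmove fun k v => ?_
  by_contra hne
  obtain ⟨h4a, h4b⟩ := pair_factor (G := Gam V) hK K.subtype a hVV (hinvo a ha₀)
    (fun g h => by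
      have := hpow a ha₀ hmove 0 1 (by norm_num) (by norm_num) zero_ne_one g h
      rwa [cj_zero, cj_apply, pow_one] at this)
    (hD2 a ha₀ hmove) hqs B (fun b hb => hinvo b (hBA0 hb).1) (fun b hb => H.comm b (hBA0 hb).1 a ha₀) hBY
    (fun b hb k => ⟨⟨_, (Subgroup.mem_normalizer_iff.1 (hBA0 hb).2 _).1 k.2⟩, rfl⟩)
    (fun b hb hb1 => hcent b (hBA0 hb).1 hb1) v ⟨k, hne⟩
  exact hBmain h4a h4b

end Cfsg.Agent.H63
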