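import Mathlib

/-!
A criterion for a group of order 512 to have a unique abelian subgroup of order 64 and small
centres in its maximal subgroups.
-/

set_option autoImplicit false

namespace Cfsg.Agent.H63.IndexEight

open Subgroup

variable {S : Type*} [Group S] [Finite S] (A : Subgroup S)

/-- outside elements fix at most 16, two independent ones at most 8, the centre meets `A` in < 8 -/
structure Hyp : Prop where
  card : Nat.card S = 512
  normal : A.Normal
  cardA : Nat.card A = 64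
  comm : IsMulCommutative A
  one' : ∀ s : S, s ∉ A → Nat.card ↥(A ⊓ centralizer {s}) ≤ 16
  two' : ∀ s t : S, s ∉ A → t ∉ A → s⁻¹ * t ∉ A →
    Nat.card ↥(A ⊓ (centralizer {s} ⊓ centralizer {t})) ≤ 8
  three' : Nat.card ↥(A ⊓ center S) < 8

variable {A}

omit [Finite S] in
theorem inf_le_cent {B : Subgroup S} [IsMulCommutative B] {s : S} (hs : s ∈ B) :
    A ⊓ B ≤ A ⊓ centralizer {s} := fun _ hx =>
  ⟨hx.1, mem_centralizer_singleton_iff.2 (setLike_mul_comm hx.2 hs)⟩

theorem card_mul_le (h : Hyp A) (M : Subgroup S) :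
    Nat.card M ≤ Nat.card ↥(A ⊓ M) * 8 := by
  haveI := h.normal
  have h1 := Subgroup.card_mul_index (A.subgroupOf M)
  have hi : (A.subgroupOf M).index ≤ 8 := by
    have hd := Subgroup.relIndex_dvd_index_of_normal A M
    have := A.card_mul_index
    rw [h.card, h.cardA] at this
    have h8 : A.index = 8 := by omega
    rw [h8] at hd
    exact Nat.le_of_dvd (by norm_num) hd
  have h2 : Nat.card (A.subgroupOf M) = Nat.card ↥(A ⊓ M) := by
    rw [← Nat.card_congr (Subgroup.subgroupOfEquivOfLe (inf_le_right (a := A) (b := M))).toEquiv,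
      Subgroup.inf_subgroupOf_right]
  rw [← h1, h2]
  exact Nat.mul_le_mul_left _ hi

theorem exists_pair (M : Subgroup S) {s : S} (hsM : s ∈ M) (h : 2 * Nat.card ↥(A ⊓ M) < Nat.card M) :
    ∃ t ∈ M, t ∉ A ∧ s⁻¹ * t ∉ A := by
  by_contra hh
  push Not at hh
  have hle : Nat.card M ≤ Nat.card (↥(A ⊓ M) ⊕ ↥(A ⊓ M)) := by
    refine Nat.card_le_card_of_surjective
      (fun w : ↥(A ⊓ M) ⊕ ↥(A ⊓ M) => Sum.elim (fun a : ↥(A ⊓ M) => (⟨(a : S), a.2.2⟩ : ↥M))
        (fun a : ↥(A ⊓ M) => ⟨s * (a : S), mul_mem hsM a.2.2⟩) w) ?_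
    rintro ⟨t, ht⟩
    by_cases hA : t ∈ A
    · exact ⟨Sum.inl ⟨t, hA, ht⟩, rfl⟩
    · exact ⟨Sum.inr ⟨s⁻¹ * t, hh t ht hA, M.mul_mem (M.inv_mem hsM) ht⟩,
        Subtype.ext (mul_inv_cancel_left s t)⟩
  rw [Nat.card_sum] at hle
  omega

theorem unique (h : Hyp A) (B : Subgroup S) [IsMulCommutative B] (hB : Nat.card B = 64) : B = A := by
  by_contra hne
  haveI := h.normal
  haveI := h.comm
  obtain ⟨s, hsB, hsA⟩ : ∃ s ∈ B, s ∉ A := by
    by_contra hh
    push Not at hh
    exact hne (Subgroup.eq_of_le_of_card_ge hh (by rw [hB, h.cardA]))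
  have h16 : Nat.card ↥(A ⊓ B) ≤ 16 :=
    (Subgroup.card_le_of_le (inf_le_cent hsB)).trans (h.one' s hsA)
  obtain ⟨t, htB, htA, hst⟩ := exists_pair (A := A) B hsB (by omega)
  have h8 : Nat.card ↥(A ⊓ B) ≤ 8 := by
    refine (Subgroup.card_le_of_le ?_).trans (h.two' s t hsA htA hst)
    exact fun x hx => ⟨hx.1, (inf_le_cent hsB hx).2, (inf_le_cent htB hx).2⟩
  have hge := card_mul_le h B
  have heq : Nat.card ↥(A ⊓ B) = 8 := by omega
  have hrel : (A.subgroupOf B).index = 8 := by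
    have h1 := Subgroup.card_mul_index (A.subgroupOf B)
    have h2 : Nat.card (A.subgroupOf B) = Nat.card ↥(A ⊓ B) := by
      rw [← Nat.card_congr (Subgroup.subgroupOfEquivOfLe (inf_le_right (a := A) (b := B))).toEquiv,
        Subgroup.inf_subgroupOf_right]
    rw [h2, heq, hB] at h1
    omega
  have hsup : A ⊔ B = ⊤ := by
    have h1 : A.relIndex (A ⊔ B) = 8 := by
      rw [Subgroup.relIndex_sup_left]; exact hrel
    apply Subgroup.eq_top_of_card_eq
    have h2 := Subgroup.card_mul_index (A.subgroupOf (A ⊔ B))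
    rw [Nat.card_congr (Subgroup.subgroupOfEquivOfLe le_sup_left).toEquiv, h.cardA,
      show (A.subgroupOf (A ⊔ B)).index = 8 from h1] at h2
    rw [h.card]; omega
  have hle : A ⊓ B ≤ A ⊓ center S := by
    rintro x ⟨hxA, hxB⟩
    refine ⟨hxA, mem_center_iff.2 fun g => ?_⟩
    obtain ⟨a, ha, b, hb, rfl⟩ := Subgroup.mem_sup_of_normal_left.1 (hsup ▸ Subgroup.mem_top g)
    rw [mul_assoc, setLike_mul_comm (s := B) hb hxB, ← mul_assoc,
      setLike_mul_comm (s := A) ha hxA, mul_assoc]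
  have := Subgroup.card_le_of_le hle
  have := h.three'
  omega

theorem card_center_le (h : Hyp A) (M : Subgroup S) (hM : IsCoatom M) :
    Nat.card ↥(center ↥M) ≤ 8 := by
  haveI := h.normal
  haveI : Fact (Nat.Prime 2) := ⟨Nat.prime_two⟩
  have hMc : 256 ≤ Nat.card M := by
    by_contra hlt
    push Not at hlt
    have hP : IsPGroup 2 M := (IsPGroup.of_card (n := 9) (by rw [h.card]; norm_num)).to_subgroup M
    obtain ⟨k, hk⟩ := IsPGroup.iff_card.1 hP
    have hk8 : k ≤ 8 := by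
      by_contra hh
      have := Nat.pow_le_pow_right (show 0 < 2 by norm_num) (show 9 ≤ k by omega)
      omega
    obtain ⟨K, hK, hMK⟩ := Sylow.exists_subgroup_card_pow_prime_le 2
      (show 2 ^ 8 ∣ Nat.card S by rw [h.card]; norm_num) M hk hk8
    rcases hM.le_iff.1 hMK with h1 | h1
    · rw [h1, Subgroup.card_top, h.card] at hK; norm_num at hK
    · rw [h1] at hK; omega
  have hAM := card_mul_le h M
  have hZA : ∀ x ∈ (center ↥M).map M.subtype, x ∈ A := by
    rintro _ ⟨z, hz, rfl⟩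
    by_contra hzA
    have hle : A ⊓ M ≤ A ⊓ centralizer {(z : S)} := fun a ha => ⟨ha.1,
      mem_centralizer_singleton_iff.2 (congrArg Subtype.val (mem_center_iff.1 hz ⟨a, ha.2⟩))⟩
    have := (Subgroup.card_le_of_le hle).trans (h.one' _ hzA)
    omega
  have hA64 : Nat.card ↥(A ⊓ M) ≤ 64 := (Subgroup.card_le_of_le inf_le_left).trans h.cardA.le
  obtain ⟨s, hsM, hsA⟩ : ∃ s ∈ M, s ∉ A := by
    by_contra hh
    push Not at hh
    have : Nat.card M ≤ Nat.card A := Subgroup.card_le_of_le hh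
    rw [h.cardA] at this
    omega
  obtain ⟨t, htM, htA, hst⟩ := exists_pair (A := A) M hsM (by omega)
  rw [← Nat.card_congr ((center ↥M).equivMapOfInjective M.subtype Subtype.val_injective).toEquiv.symm]
  refine (Subgroup.card_le_of_le ?_).trans (h.two' s t hsA htA hst)
  intro x hx
  refine ⟨hZA x hx, ?_⟩
  obtain ⟨z, hz, rfl⟩ := hx
  exact ⟨mem_centralizer_singleton_iff.2 (congrArg Subtype.val (mem_center_iff.1 hz ⟨s, hsM⟩)).symm,
    mem_centralizer_singleton_iff.2 (congrArg Subtype.val (mem_center_iff.1 hz ⟨t, htM⟩)).symm⟩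

end Cfsg.Agent.H63.IndexEight
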