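import Cfsg.Agent.H63.M24SylowGroup
import Cfsg.Agent.H63.UniqueAbelianIndexEight
import Cfsg.Prelude.Def_Transfer

/-!
The quotient of the subgroup of order 1024 by its centre satisfies the criterion of
`UniqueAbelianIndexEight`.
-/

set_option autoImplicit false

namespace Cfsg.Agent.H63.M24Sylow

open Cfsg.Agent.Golay Cfsg

/-- the central involution -/
noncomputable def zP : G := mkPerm zT

/-- commuting up to the central involution -/
def Cz (a b : G) : Prop := a * b = b * a ∨ a * b = b * a * zP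

lemma zT_mem : zT ∈ aGens := by decide +kernel

lemma zP_mem : zP ∈ At := Subgroup.subset_closure ⟨zT, zT_mem, rfl⟩

lemma zP_sq : zP * zP = 1 := by
  obtain ⟨vo, vz, va, vs, vr, vl⟩ := valid_facts
  have h : tblEq (tblMul zT zT) one = true := by decide +kernel
  have h1 := tblMul_spec vz vz
  rw [zP, ← h1.2, mkPerm_eq_of_tblEq h1.1 vo h, one_spec.2]

lemma zP_comm {x : G} (hx : x ∈ P0) : zP * x = x * zP := by
  obtain ⟨vo, vz, va, vs, vr, vl⟩ := valid_facts
  have h := check_central
  simp only [Bool.and_eq_true, List.all_eq_true, List.mem_append, beq_iff_eq] at h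
  unfold P0 at hx
  induction hx using Subgroup.closure_induction with
  | mem x hx =>
    rcases hx with ⟨g, hg, rfl⟩ | ⟨g, hg, rfl⟩
    · rw [zP, ← (tblMul_spec vz (va g hg)).2, ← (tblMul_spec (va g hg) vz).2,
        h.1.1.1.1.1 g (Or.inl hg)]
    · rw [zP, ← (tblMul_spec vz (vs g hg)).2, ← (tblMul_spec (vs g hg) vz).2,
        h.1.1.1.1.1 g (Or.inr hg)]
  | one => simp
  | mul x y _ _ hx hy => rw [← mul_assoc, hx, mul_assoc, hy, mul_assoc]
  | inv x _ hx => exact (Commute.inv_right hx).eq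

lemma cz_symm {a b : G} (h : Cz a b) : Cz b a := by
  rcases h with h | h
  · exact Or.inl h.symm
  · exact Or.inr (by rw [h, mul_assoc, zP_sq, mul_one])

lemma cz_mul {a a' b : G} (ha' : a' ∈ P0) (hb : b ∈ P0) (h : Cz a b) (h' : Cz a' b) :
    Cz (a * a') b := by
  have hc := zP_comm ha'
  have hcb := zP_comm hb
  rcases h with h | h <;> rcases h' with h' | h'
  · left; rw [mul_assoc, h', ← mul_assoc, h, mul_assoc]
  · right
    calc a * a' * b = a * (b * a' * zP) := by rw [mul_assoc, h']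
      _ = a * b * (a' * zP) := by group
      _ = _ := by rw [h]; group
  · right
    calc a * a' * b = a * (b * a') := by rw [mul_assoc, h']
      _ = a * b * a' := by group
      _ = b * a * (zP * a') := by rw [h]; group
      _ = _ := by rw [hc]; group
  · left
    calc a * a' * b = a * (b * a' * zP) := by rw [mul_assoc, h']
      _ = a * b * a' * zP := by group
      _ = b * a * (zP * a') * zP := by rw [h]; group
      _ = b * (a * a') * (zP * zP) := by rw [hc]; group
      _ = _ := by rw [zP_sq, mul_one]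

lemma cz_at {a b : G} (ha : a ∈ At) (hb : b ∈ At) : Cz a b := by
  obtain ⟨vo, vz, va, vs, vr, vl⟩ := valid_facts
  have h := check_central
  simp only [Bool.and_eq_true, List.all_eq_true, commZ, Bool.or_eq_true, beq_iff_eq] at h
  have key : ∀ g ∈ aGens, ∀ x, x ∈ Submonoid.closure aSet → Cz x (mkPerm g) := by
    intro g hg x hx
    induction hx using Submonoid.closure_induction_left with
    | one => left; simp
    | mul_left y hy w hw ih =>
      obtain ⟨k, hk, rfl⟩ := hy
      have hkm : mkPerm g ∈ P0 := At_le (Subgroup.subset_closure ⟨g, hg, rfl⟩)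
      have hwm : w ∈ P0 := At_le (by
        rw [At, ← Subgroup.mem_toSubmonoid, Subgroup.closure_toSubmonoid_of_finite]; exact hw)
      refine cz_mul hwm hkm ?_ ih
      rcases h.1.1.1.1.2 k hk g hg with h1 | h1
      · left; rw [← (tblMul_spec (va k hk) (va g hg)).2, ← (tblMul_spec (va g hg) (va k hk)).2, h1]
      · right
        have h2 := tblMul_spec (va g hg) (va k hk)
        rw [← (tblMul_spec (va k hk) (va g hg)).2, zP, ← h2.2, ← (tblMul_spec h2.1 vz).2, h1]
  have key2 : ∀ x, x ∈ Submonoid.closure aSet → ∀ y ∈ At, Cz x y := by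
    intro x hx y hy
    induction hx using Submonoid.closure_induction_left with
    | one => left; simp
    | mul_left k hk w hw ih =>
      obtain ⟨g, hg, rfl⟩ := hk
      have hwm : w ∈ P0 := At_le (by
        rw [At, ← Subgroup.mem_toSubmonoid, Subgroup.closure_toSubmonoid_of_finite]; exact hw)
      refine cz_mul hwm (At_le hy) (cz_symm (key g hg y ?_)) ih
      rw [← Subgroup.closure_toSubmonoid_of_finite]; exact hy
  refine key2 a ?_ b hb
  rw [← Subgroup.closure_toSubmonoid_of_finite]; exact ha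

lemma commZ_of_cz {a b : ℕ} (ha : validT a = true) (hb : validT b = true)
    (h : Cz (mkPerm a) (mkPerm b)) : commZ a b = true := by
  obtain ⟨vo, vz, va, vs, vr, vl⟩ := valid_facts
  rw [commZ, Bool.or_eq_true, beq_iff_eq, beq_iff_eq]
  rcases h with h | h
  · exact Or.inl (mul_unique ha hb hb ha h)
  · refine Or.inr (mul_unique ha hb (tblMul_spec hb ha).1 vz ?_)
    rw [(tblMul_spec hb ha).2]; exact h

/-- dropping a factor from the abelian part -/
lemma cz_rep {b a r : G} (hb : b ∈ At) (ha : a ∈ At) (hr : r ∈ P0) (h : Cz b (r * a)) :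
    Cz b r := by
  have h1 : Cz a⁻¹ b := cz_at (inv_mem ha) hb
  have h2 := cz_mul (At_le (inv_mem ha)) (At_le hb) (cz_symm h) h1
  rw [mul_inv_cancel_right] at h2
  exact cz_symm h2

lemma sq_at {a : G} (ha : a ∈ At) : a * a = 1 ∨ a * a = zP := by
  obtain ⟨vo, vz, va, vs, vr, vl⟩ := valid_facts
  have h : (aList.all fun a => tblEq (tblMul a a) one || tblEq (tblMul a a) zT) = true := by
    decide +kernel
  obtain ⟨t, ht, rfl⟩ := mem_At_iff.1 ha
  have h1 := List.all_eq_true.1 h t ht
  rw [Bool.or_eq_true] at h1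
  rcases h1 with h1 | h1
  · left; rw [← (tblMul_spec (vl t ht) (vl t ht)).2,
      mkPerm_eq_of_tblEq (tblMul_spec (vl t ht) (vl t ht)).1 vo h1, one_spec.2]
  · right; rw [zP, ← (tblMul_spec (vl t ht) (vl t ht)).2,
      mkPerm_eq_of_tblEq (tblMul_spec (vl t ht) (vl t ht)).1 vz h1]

lemma centre_cases {x : G} (hx : x ∈ P0) (hc : ∀ y ∈ P0, x * y = y * x) : x = 1 ∨ x = zP := by
  obtain ⟨vo, vz, va, vs, vr, vl⟩ := valid_facts
  have h := check_central
  simp only [Bool.and_eq_true, List.all_eq_true, List.mem_range, List.any_eq_true, Bool.or_eq_true,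
    Bool.not_eq_true', bne_iff_ne, beq_iff_eq, List.mem_append] at h
  obtain ⟨i, hi, a, ha, rfl⟩ := mem_P0_iff.1 hx
  rcases h.1.1.1.2 i hi with h1 | ⟨g, hg, h1⟩
  · subst h1
    have hr : (reps.getD 0 (0, 0)).1 = one := rfl
    rw [rp, hr, one_spec.2, one_mul] at hc ⊢
    obtain ⟨t, ht, rfl⟩ := mem_At_iff.1 ha
    rcases h.1.1.2 t ht with (h2 | h2) | ⟨g, hg, h2⟩
    · left; rw [h2, one_spec.2]
    · right; rw [h2, (tblMul_spec vz vo).2, one_spec.2, mul_one, zP]
    · exfalso
      apply h2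
      have hgv : validT g = true := hg.elim (va g) (vs g)
      refine mul_unique (vl t ht) hgv hgv (vl t ht) (hc _ (Subgroup.subset_closure ?_))
      rcases hg with hg | hg
      exacts [Or.inl ⟨g, hg, rfl⟩, Or.inr ⟨g, hg, rfl⟩]
  · exfalso
    have hgA : mkPerm g ∈ At := Subgroup.subset_closure ⟨g, hg, rfl⟩
    have h2 : Cz (mkPerm g) (rp i) :=
      cz_rep hgA ha (rep_P0 (rep_mem hi)) (Or.inl (hc _ (At_le hgA)).symm)
    rw [commZ_of_cz (va g hg) (vr _ (rep_mem hi)).1 h2] at h1
    exact absurd h1 (by simp)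

section quot

variable {X : Type*} [Group X] [Finite X] (φ : X →* G)
variable (hφ : Function.Injective φ) (hr : φ.range = P0)

/-- the elementary subgroup of order 64 of the quotient -/
def Aq : Subgroup (X ⧸ Subgroup.center X) :=
  (At.comap φ).map (QuotientGroup.mk' (Subgroup.center X))

include hr in
omit [Finite X] in
lemma im_mem (x : X) : φ x ∈ P0 := hr ▸ ⟨x, rfl⟩

include hφ hr in
omit [Finite X] in
lemma mem_centre_iff {x : X} : x ∈ Subgroup.center X ↔ φ x = 1 ∨ φ x = zP := by
  constructor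
  · intro hx
    refine centre_cases (im_mem φ hr x) fun y hy => ?_
    obtain ⟨y, rfl⟩ : y ∈ φ.range := hr ▸ hy
    rw [← map_mul, ← map_mul, Subgroup.mem_center_iff.1 hx y]
  · intro hx
    rw [Subgroup.mem_center_iff]
    intro y
    apply hφ
    rw [map_mul, map_mul]
    rcases hx with hx | hx <;> rw [hx]
    · simp
    · exact (zP_comm (im_mem φ hr y)).symm

include hφ hr in
omit [Finite X] in
lemma comm_iff {x y : X} :
    (QuotientGroup.mk' (Subgroup.center X) x) * QuotientGroup.mk' _ y =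
      QuotientGroup.mk' _ y * QuotientGroup.mk' _ x ↔ Cz (φ x) (φ y) := by
  rw [← map_mul, ← map_mul, eq_comm, QuotientGroup.mk'_eq_mk']
  constructor
  · rintro ⟨c, hc, he⟩
    rw [Cz, ← map_mul, ← map_mul, ← he, map_mul]
    rcases (mem_centre_iff φ hφ hr).1 hc with h | h <;> rw [h]
    · left; rw [mul_one]
    · right; rfl
  · intro h
    rcases h with h | h
    · exact ⟨1, one_mem _, hφ (by rw [mul_one, map_mul, map_mul, h])⟩
    · obtain ⟨c, hc⟩ : zP ∈ φ.range := hr ▸ At_le zP_mem
      exact ⟨c, (mem_centre_iff φ hφ hr).2 (Or.inr hc), hφ (by rw [map_mul, map_mul, map_mul, hc, h])⟩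

include hφ hr in
omit [Finite X] in
lemma mem_Aq {x : X} : QuotientGroup.mk' (Subgroup.center X) x ∈ Aq φ ↔ φ x ∈ At := by
  constructor
  · rintro ⟨a, ha, he⟩
    obtain ⟨c, hc, rfl⟩ := (QuotientGroup.mk'_eq_mk' _).1 he
    rw [map_mul]
    refine mul_mem ha ?_
    rcases (mem_centre_iff φ hφ hr).1 hc with h | h <;> rw [h]
    exacts [one_mem _, zP_mem]
  · intro h; exact ⟨x, h, rfl⟩

include hφ hr in
omit [Finite X] in
lemma card_centre : Nat.card (Subgroup.center X) = 2 := by
  obtain ⟨c, hc⟩ : zP ∈ φ.range := hr ▸ At_le zP_mem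
  have hs : (Subgroup.center X : Set X) = {1, c} := by
    ext x
    rw [SetLike.mem_coe, mem_centre_iff φ hφ hr, Set.mem_insert_iff, Set.mem_singleton_iff,
      ← map_one φ, hφ.eq_iff, ← hc, hφ.eq_iff]
  have hne : (1 : X) ≠ c := by
    intro h
    rw [← h, map_one] at hc
    have := mkPerm_inj_aList (a := one) (b := zT) (by decide +kernel) (by decide +kernel)
      (by rw [one_spec.2]; exact hc)
    exact absurd this (by decide +kernel)
  show Nat.card (Subgroup.center X : Set X) = 2
  rw [hs, Nat.card_coe_set_eq, Set.ncard_pair hne]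

include hφ hr in
lemma bound (K : Subgroup (X ⧸ Subgroup.center X)) (L : List ℕ)
    (h : ∀ x : X, QuotientGroup.mk' (Subgroup.center X) x ∈ K → ∃ a ∈ L, mkPerm a = φ x) :
    2 * Nat.card K ≤ L.length := by
  classical
  set π := QuotientGroup.mk' (Subgroup.center X)
  have hc : Nat.card (K.comap π) = 2 * Nat.card K := by
    have hi : (K.comap π).index = K.index :=
      Subgroup.index_comap_of_surjective _ (QuotientGroup.mk'_surjective _)
    have a1 := (K.comap π).card_mul_index
    have a2 := K.card_mul_index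
    have a3 := (Subgroup.center X).card_eq_card_quotient_mul_card_subgroup
    rw [card_centre φ hφ hr, ← a2] at a3
    rw [hi, a3] at a1
    refine Nat.eq_of_mul_eq_mul_right (Nat.pos_of_ne_zero (Subgroup.index_ne_zero_of_finite (H := K))) ?_
    rw [a1]; ring
  rw [← hc]
  choose f hf hfe using h
  refine le_trans ?_ (List.toFinset_card_le L)
  rw [← Nat.card_eq_finsetCard]
  exact Nat.card_le_card_of_injective
    (fun x : K.comap π => (⟨f x x.2, List.mem_toFinset.2 (hf x x.2)⟩ : L.toFinset))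
    fun x y hxy => Subtype.ext (hφ (by
      rw [← hfe x x.2, ← hfe y y.2, Subtype.mk.inj hxy]))

include hφ hr in
lemma outside {x : X} (hx : QuotientGroup.mk' (Subgroup.center X) x ∉ Aq φ) :
    ∃ i < 8, i ≠ 0 ∧ ∃ a ∈ At, φ x = rp i * a := by
  obtain ⟨i, hi, a, ha, he⟩ := mem_P0_iff.1 (im_mem φ hr x)
  refine ⟨i, hi, ?_, a, ha, he⟩
  rintro rfl
  apply hx
  rw [mem_Aq φ hφ hr, he]
  have hr0 : (reps.getD 0 (0, 0)).1 = one := rfl
  rw [rp, hr0, one_spec.2, one_mul]
  exact ha

include hφ hr in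
lemma hyp : IndexEight.Hyp (Aq φ) where
  card := by
    have h := (Subgroup.center X).card_eq_card_quotient_mul_card_subgroup
    rw [card_centre φ hφ hr, Nat.card_congr (MonoidHom.ofInjective hφ).toEquiv, hr, card_P0] at h
    omega
  normal := by
    refine ⟨fun b hb g => ?_⟩
    obtain ⟨b, rfl⟩ := QuotientGroup.mk'_surjective _ b
    obtain ⟨g, rfl⟩ := QuotientGroup.mk'_surjective _ g
    rw [← map_inv, ← map_mul, ← map_mul, mem_Aq φ hφ hr]
    rw [mem_Aq φ hφ hr] at hb
    rw [map_mul, map_mul, map_inv]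
    obtain ⟨i, hi, a, ha, he⟩ := mem_P0_iff.1 (inv_mem (im_mem φ hr g))
    have : φ g * φ b * (φ g)⁻¹ = a⁻¹ * ((rp i)⁻¹ * φ b * rp i) * a := by
      rw [he, ← inv_inv (φ g), he]; group
    rw [this]
    exact mul_mem (mul_mem (inv_mem ha) (rep_normalizes (rep_mem hi) hb)) ha
  cardA := by
    classical
    have hi : Nat.card (Aq φ) * 2 = Nat.card (At.comap φ) := by
      set π := QuotientGroup.mk' (Subgroup.center X)
      have hcm : (Aq φ).comap π = At.comap φ := by
        ext x; rw [Subgroup.mem_comap, Subgroup.mem_comap]; exact mem_Aq φ hφ hr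
      have hi : (At.comap φ).index = (Aq φ).index := by
        rw [← hcm]; exact Subgroup.index_comap_of_surjective _ (QuotientGroup.mk'_surjective _)
      have a1 := (At.comap φ).card_mul_index
      have a2 := (Aq φ).card_mul_index
      have a3 := (Subgroup.center X).card_eq_card_quotient_mul_card_subgroup
      rw [card_centre φ hφ hr, ← a2] at a3
      rw [hi, a3] at a1
      refine Nat.eq_of_mul_eq_mul_right (Nat.pos_of_ne_zero (Subgroup.index_ne_zero_of_finite (H := Aq φ))) ?_
      rw [a1]; ring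
    have e : Nat.card (At.comap φ) = Nat.card At := by
      refine Nat.card_congr (Equiv.ofBijective (fun x => (⟨φ x.1, x.2⟩ : At)) ⟨?_, ?_⟩)
      · intro x y h; exact Subtype.ext (hφ (congrArg Subtype.val h))
      · rintro ⟨a, ha⟩
        obtain ⟨x, hx⟩ : a ∈ φ.range := hr ▸ At_le ha
        exact ⟨⟨x, by rw [Subgroup.mem_comap, hx]; exact ha⟩, Subtype.ext hx⟩
    rw [e, card_At] at hi
    omega
  comm := by
    refine ⟨⟨fun a b => Subtype.ext ?_⟩⟩
    obtain ⟨⟨a, ha⟩, b, hb⟩ := a, b
    obtain ⟨a, rfl⟩ := QuotientGroup.mk'_surjective _ a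
    obtain ⟨b, rfl⟩ := QuotientGroup.mk'_surjective _ b
    exact (comm_iff φ hφ hr).2 (cz_at ((mem_Aq φ hφ hr).1 ha) ((mem_Aq φ hφ hr).1 hb))
  one' := by
    intro s hs
    obtain ⟨s, rfl⟩ := QuotientGroup.mk'_surjective _ s
    obtain ⟨i, hi, hi0, a, ha, he⟩ := outside φ hφ hr hs
    have := bound φ hφ hr (Aq φ ⊓ Subgroup.centralizer {QuotientGroup.mk' _ s}) (fixL i) (by
      rintro x ⟨hxA, hxC⟩
      obtain ⟨vo, vz, va, vs, vr, vl⟩ := valid_facts
      have hxA' := (mem_Aq φ hφ hr).1 hxA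
      obtain ⟨t, ht, hte⟩ := mem_At_iff.1 hxA'
      refine ⟨t, List.mem_filter.2 ⟨ht, commZ_of_cz (vl t ht) (vr _ (rep_mem hi)).1 ?_⟩, hte⟩
      rw [hte]
      refine cz_rep hxA' ha (rep_P0 (rep_mem hi)) ?_
      rw [← rp, ← he]
      exact (comm_iff φ hφ hr).1 (Subgroup.mem_centralizer_singleton_iff.1 hxC))
    have hb := check_fix
    simp only [List.all_eq_true, List.mem_range, Bool.or_eq_true, beq_iff_eq, decide_eq_true_eq] at hb
    rcases hb i hi with h | h
    · exact absurd h hi0
    · omega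
  two' := by
    intro s t hs ht hst
    obtain ⟨s, rfl⟩ := QuotientGroup.mk'_surjective _ s
    obtain ⟨t, rfl⟩ := QuotientGroup.mk'_surjective _ t
    obtain ⟨i, hi, hi0, a, ha, he⟩ := outside φ hφ hr hs
    obtain ⟨j, hj, hj0, b, hb', hje⟩ := outside φ hφ hr ht
    have hij : i ≠ j := by
      rintro rfl
      apply hst
      rw [← map_inv, ← map_mul, mem_Aq φ hφ hr, map_mul, map_inv, he, hje]
      have : (rp i * a)⁻¹ * (rp i * b) = a⁻¹ * b := by group
      rw [this]; exact mul_mem (inv_mem ha) hb'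
    have := bound φ hφ hr (Aq φ ⊓ (Subgroup.centralizer {QuotientGroup.mk' _ s} ⊓
        Subgroup.centralizer {QuotientGroup.mk' _ t}))
      ((fixL i).filter fun a => commZ a (reps.getD j (0, 0)).1) (by
      rintro x ⟨hxA, hxC, hxD⟩
      obtain ⟨vo, vz, va, vs, vr, vl⟩ := valid_facts
      have hxA' := (mem_Aq φ hφ hr).1 hxA
      obtain ⟨u, hu, hue⟩ := mem_At_iff.1 hxA'
      refine ⟨u, List.mem_filter.2 ⟨List.mem_filter.2 ⟨hu,
        commZ_of_cz (vl u hu) (vr _ (rep_mem hi)).1 ?_⟩,
        commZ_of_cz (vl u hu) (vr _ (rep_mem hj)).1 ?_⟩, hue⟩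
      · rw [hue]
        refine cz_rep hxA' ha (rep_P0 (rep_mem hi)) ?_
        rw [← rp, ← he]
        exact (comm_iff φ hφ hr).1 (Subgroup.mem_centralizer_singleton_iff.1 hxC)
      · rw [hue]
        refine cz_rep hxA' hb' (rep_P0 (rep_mem hj)) ?_
        rw [← rp, ← hje]
        exact (comm_iff φ hφ hr).1 (Subgroup.mem_centralizer_singleton_iff.1 hxD))
    have hb := check_pairs
    simp only [List.all_eq_true, List.mem_range, Bool.or_eq_true, beq_iff_eq, decide_eq_true_eq] at hb
    rcases hb i hi j hj with ((h | h) | h) | h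
    exacts [absurd h hi0, absurd h hj0, absurd h hij, by omega]
  three' := by
    have := bound φ hφ hr (Aq φ ⊓ Subgroup.center _)
      (aList.filter fun a => sGens.all fun s => commZ a s) (by
      rintro x ⟨hxA, hxC⟩
      obtain ⟨vo, vz, va, vs, vr, vl⟩ := valid_facts
      obtain ⟨u, hu, hue⟩ := mem_At_iff.1 ((mem_Aq φ hφ hr).1 hxA)
      refine ⟨u, List.mem_filter.2 ⟨hu, List.all_eq_true.2 fun g hg => ?_⟩, hue⟩
      refine commZ_of_cz (vl u hu) (vs g hg) ?_
      rw [hue]
      obtain ⟨y, hy⟩ : mkPerm g ∈ φ.range :=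
        hr ▸ Subgroup.subset_closure (Or.inr ⟨g, hg, rfl⟩)
      rw [← hy]
      exact (comm_iff φ hφ hr).1 (Subgroup.mem_center_iff.1 hxC _).symm)
    have hb := check_all
    simp only [decide_eq_true_eq] at hb
    omega

include hφ hr in
omit [Finite X] in
lemma elementary : Cfsg.IsElementaryAbelian 2 (Aq φ) := by
  constructor
  · refine ⟨⟨fun a b => Subtype.ext ?_⟩⟩
    obtain ⟨⟨a, ha⟩, b, hb⟩ := a, b
    obtain ⟨a, rfl⟩ := QuotientGroup.mk'_surjective _ a
    obtain ⟨b, rfl⟩ := QuotientGroup.mk'_surjective _ b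
    exact (comm_iff φ hφ hr).2 (cz_at ((mem_Aq φ hφ hr).1 ha) ((mem_Aq φ hφ hr).1 hb))
  · intro a ha
    obtain ⟨a, rfl⟩ := QuotientGroup.mk'_surjective _ a
    rw [← map_pow]
    refine (QuotientGroup.eq_one_iff _).2 ((mem_centre_iff φ hφ hr).2 ?_)
    rw [map_pow, pow_two]
    exact sq_at ((mem_Aq φ hφ hr).1 ha)

end quot

end Cfsg.Agent.H63.M24Sylow
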