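import Cfsg.Agent.H43.Galois
import Cfsg.Agent.CharInduce.Induce
import Cfsg.Agent.CharInduce.Monomial
import Cfsg.Agent.CharBasic.Orth
import Mathlib

/-!
Galois orbits of irreducible characters of `p`-groups, their translation kernels, and the
bound on the index of the kernel in terms of degree and orbit size.
-/

set_option autoImplicit false

namespace Cfsg.Agent.H63

open Finset Cfsg.Agent CharInduce

universe u

variable {P : Type u} [Group P]

/-- Right translation invariance group of a function. -/
def periods (χ : P → ℂ) : Subgroup P where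
  carrier := {g | ∀ h, χ (g * h) = χ h}
  one_mem' := fun h => by rw [one_mul]
  mul_mem' := fun {a b} ha hb h => by rw [mul_assoc, ha, hb]
  inv_mem' := fun {a} ha h => by
    conv_rhs => rw [← mul_inv_cancel_left a h, ha]

theorem mem_periods {χ : P → ℂ} {g : P} : g ∈ periods χ ↔ ∀ h, χ (g * h) = χ h := Iff.rfl

theorem periods_comp (σ : ℂ ≃+* ℂ) (χ : P → ℂ) :
    periods (fun g => σ (χ g)) = periods χ :=
  Subgroup.ext fun g => forall_congr' fun _ => σ.injective.eq_iff

/-- The orbit of a function under the automorphisms of `ℂ`. -/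
def galOrbit (χ : P → ℂ) : Set (P → ℂ) := Set.range fun σ : ℂ ≃+* ℂ => fun g => σ (χ g)

theorem galOrbit_finite [Finite P] {χ : P → ℂ} (hχ : Cfsg.IsIrrCharacter P χ) :
    (galOrbit χ).Finite := by
  cases nonempty_fintype P
  haveI : Finite (Cfsg.IrrCharacter P) := CharBasic.finite_irrCharacter
  refine (Set.toFinite (Set.range (Subtype.val : Cfsg.IrrCharacter P → P → ℂ))).subset ?_
  rintro _ ⟨σ, rfl⟩
  exact ⟨⟨_, H43.aut_irr σ hχ⟩, rfl⟩

/-- The orbit is at most as large as the degree of the field of values. -/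
theorem galOrbit_ncard_le [Finite P] {χ : P → ℂ} (hχ : Cfsg.IsCharacter P χ) :
    (galOrbit χ).ncard ≤ Module.finrank ℚ (IntermediateField.adjoin ℚ (Set.range χ)) := by
  set K := IntermediateField.adjoin ℚ (Set.range χ)
  haveI : FiniteDimensional ℚ K := by
    refine IntermediateField.finiteDimensional_adjoin fun x hx => ?_
    obtain ⟨g, rfl⟩ := hx
    exact (CharBasic.IsChar.isIntegral hχ g).tower_top
  let F : (K →ₐ[ℚ] ℂ) → (P → ℂ) := fun e g =>
    e ⟨χ g, IntermediateField.subset_adjoin ℚ _ ⟨g, rfl⟩⟩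
  have hsub : galOrbit χ ⊆ Set.range F := by
    rintro _ ⟨σ, rfl⟩
    exact ⟨(σ.toRingHom.toRatAlgHom).comp K.val, rfl⟩
  calc (galOrbit χ).ncard ≤ (Set.range F).ncard := Set.ncard_le_ncard hsub (Set.finite_range F)
    _ ≤ Nat.card (K →ₐ[ℚ] ℂ) := by
        rw [← Nat.card_coe_set_eq]
        exact Finite.card_range_le F
    _ = Module.finrank ℚ K := by rw [Nat.card_eq_fintype_card, AlgHom.card]

/-- A maximal subgroup of a `p`-group is normal of index `p`. -/
theorem coatom_normal_index [Finite P] {p : ℕ} [Fact p.Prime] (hP : IsPGroup p P)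
    {M : Subgroup P} (hM : IsCoatom M) : M.Normal ∧ M.index = p := by
  haveI := hP.isNilpotent
  have hn : M.Normal :=
    (Subgroup.NormalizerCondition.normal_of_coatom M Group.normalizerCondition_of_isNilpotent hM)
  refine ⟨hn, ?_⟩
  haveI : Nontrivial (P ⧸ M) := QuotientGroup.nontrivial_iff.2 hM.1
  obtain ⟨k, hk⟩ := IsPGroup.iff_card.1 (hP.to_quotient M)
  have hdvd : p ∣ Nat.card (P ⧸ M) := by
    rw [hk]
    refine dvd_pow_self p fun h => ?_
    rw [h, pow_zero] at hk
    exact (Finite.one_lt_card (α := P ⧸ M)).ne' hk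
  obtain ⟨q, hq⟩ := exists_prime_orderOf_dvd_card' p hdvd
  have hbot : (Subgroup.zpowers q).comap (QuotientGroup.mk' M) = ⊤ := by
    refine hM.2 _ (lt_of_le_of_ne (fun x hx => ?_) fun h => ?_)
    · rw [Subgroup.mem_comap, QuotientGroup.mk'_apply, (QuotientGroup.eq_one_iff x).2 hx]
      exact Subgroup.one_mem _
    · obtain ⟨x, rfl⟩ := QuotientGroup.mk'_surjective M q
      have : x ∈ M := h ▸ (Subgroup.mem_zpowers _ : QuotientGroup.mk' M x ∈ _)
      rw [QuotientGroup.mk'_apply, (QuotientGroup.eq_one_iff x).2 this, orderOf_one] at hq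
      exact (Fact.out : p.Prime).one_lt.ne hq
  have htop : Subgroup.zpowers q = ⊤ := by
    rw [← Subgroup.map_comap_eq_self_of_surjective (QuotientGroup.mk'_surjective M)
      (Subgroup.zpowers q), hbot, Subgroup.map_top_of_surjective _ (QuotientGroup.mk'_surjective M)]
  rw [Subgroup.index_eq_card, ← Subgroup.card_top (G := P ⧸ M), ← htop, Nat.card_zpowers, hq]

/-- A non-linear irreducible character of a `p`-group vanishes off a maximal subgroup and
restricts there to the sum of the `p` conjugates of one irreducible character. -/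
theorem exists_inducing [Fintype P] {p : ℕ} [Fact p.Prime] (hP : IsPGroup p P) {χ : P → ℂ}
    (hχ : Cfsg.IsIrrCharacter P χ) (h1 : χ 1 ≠ 1) :
    ∃ (M : Subgroup P) (_ : M.Normal) (θ : M → ℂ), IsCoatom M ∧ M.index = p ∧
      Cfsg.IsIrrCharacter M θ ∧ (∀ g ∉ M, χ g = 0) ∧ χ 1 = (p : ℂ) * θ 1 ∧
      inertia M θ = M ∧
      ((Nat.card M : ℂ) • (fun m : M => χ m) = ∑ x : P, CharInduce.conjFun M θ x) := by
  classical
  haveI := hP.isNilpotent
  have hp : p.Prime := Fact.out
  obtain ⟨H, lam, hlam⟩ := isMonomial_of_nilpotent P hχ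
  have hH : H ≠ ⊤ := by
    rintro rfl
    apply h1
    rw [hlam, indFun_one]
    simp
  obtain ⟨M, hM, hHM⟩ := (eq_top_or_exists_le_coatom H).resolve_left hH
  obtain ⟨hn, hidx⟩ := coatom_normal_index hP hM
  haveI := hn
  haveI : Fintype M := Fintype.ofFinite M
  have hoff : ∀ g ∉ M, χ g = 0 := fun g hg => by
    rw [hlam]
    refine indFun_eq_zero_of_forall_not_mem H _ fun x hx => hg ?_
    simpa [mul_assoc] using hn.conj_mem _ (hHM hx) x
  have hχc := CharBasic.IsIrr.isCharacter hχ
  obtain ⟨θ, hθ⟩ := exists_constituent (IsChar.res hχc M)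
    (fun e => CharBasic.IsIrr.one_ne_zero hχ (congrFun e 1))
  obtain ⟨e, he⟩ := CharBasic.classInner_isChar_nat (IsChar.res hχc M)
    (CharBasic.IsIrr.isCharacter θ.2)
  have hnorm : Cfsg.classInner (fun m : M => χ m) (fun m : M => χ m) = (p : ℂ) := by
    have h := CharBasic.classInner_irr_self hχ
    rw [CharBasic.classInner_def] at h ⊢
    have hsum : ∑ g : P, χ g * starRingEnd ℂ (χ g) = ∑ m : M, χ m * starRingEnd ℂ (χ m) := by
      rw [← Finset.sum_subtype (univ.filter (· ∈ M)) (by simp)
        (fun g => χ g * starRingEnd ℂ (χ g))]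
      refine (Finset.sum_subset (Finset.subset_univ _) fun g _ hg => ?_).symm
      rw [hoff g (by simpa using hg), zero_mul]
    rw [hsum, inv_mul_eq_iff_eq_mul₀ (card_ne_zero_complex P), mul_one] at h
    rw [h, ← M.card_mul_index, hidx, Nat.cast_mul, inv_mul_cancel_left₀ (card_ne_zero_complex M)]
  have hclass := CharBasic.IsIrr.isClassFunction hχ
  have havg := clifford_avg M hχ θ.2 hθ
  have hI : (Nat.card (inertia M (θ : M → ℂ)) : ℂ) * p = (e : ℂ) * ((Nat.card P : ℂ) * e) := by
    have h := congrArg (fun f => Cfsg.classInner f (fun m : M => χ m)) havg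
    simp only [CharBasic.classInner_smul_left, CharBasic.classInner_sum_left, hnorm, he] at h
    rw [h]
    congr 1
    rw [Finset.sum_congr rfl (g := fun _ => (e : ℂ)) (fun x _ => by
      rw [← CharBasic.classInner_conj_symm, classInner_res_conjFun M hclass, he,
        Complex.conj_natCast]), sum_const, card_univ, nsmul_eq_mul, Nat.card_eq_fintype_card]
  have hle : M ≤ inertia M (θ : M → ℂ) := le_inertia M (CharBasic.IsIrr.isClassFunction θ.2)
  have hp2 : p = e ^ 2 * (inertia M (θ : M → ℂ)).index := by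
    have h2 : Nat.card (inertia M (θ : M → ℂ)) * p = e * (Nat.card P * e) := by exact_mod_cast hI
    rw [← (inertia M (θ : M → ℂ)).card_mul_index] at h2
    refine Nat.eq_of_mul_eq_mul_left (Nat.card_pos (α := inertia M (θ : M → ℂ))) ?_
    rw [h2]; ring
  have he0 : e ≠ 0 := fun h => hθ (by rw [he, h, Nat.cast_zero])
  have he1 : e = 1 := by
    rcases (Nat.dvd_prime hp).1 (Dvd.intro _ hp2.symm : e ^ 2 ∣ p) with h | h
    · exact (pow_eq_one_iff.1 h).resolve_right two_ne_zero
    · exfalso
      have h2 : e ^ 2 = p := h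
      rcases (Nat.dvd_prime hp).1 (h2 ▸ dvd_pow_self e (two_ne_zero)) with h3 | h3
      · rw [h3, one_pow] at h2; exact hp.one_lt.ne h2
      · rw [h3] at h2
        have := hp.one_lt
        nlinarith
  rw [he1, one_pow, one_mul] at hp2
  have hIM : inertia M (θ : M → ℂ) = M := by
    refine le_antisymm ?_ hle
    rw [← Subgroup.relIndex_eq_one]
    have := Subgroup.relIndex_mul_index hle
    rw [← hp2, hidx] at this
    exact Nat.eq_of_mul_eq_mul_right hp.pos (by rw [this, one_mul])
  refine ⟨M, hn, θ, hM, hidx, θ.2, hoff, ?_, hIM, ?_⟩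
  · rw [clifford_degree M hχ θ.2 hθ, he, he1, hIM, hidx, Nat.cast_one, one_mul]
  · rw [hIM, he, he1, Nat.cast_one, one_smul] at havg
    exact havg

theorem indFun_aut [Fintype P] (σ : ℂ ≃+* ℂ) (M : Subgroup P) (θ : M → ℂ) (g : P) :
    Cfsg.indFun M (fun m => σ (θ m)) g = σ (Cfsg.indFun M θ g) := by
  rw [indFun_apply, indFun_apply, map_mul, map_inv₀, map_natCast, map_sum]
  congr 1
  refine Finset.sum_congr rfl fun x _ => ?_
  by_cases hx : x⁻¹ * g * x ∈ M
  · rw [extendByZero_of_mem _ hx, extendByZero_of_mem _ hx]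
  · rw [extendByZero_of_not_mem _ hx, extendByZero_of_not_mem _ hx, map_zero]

/-- Case of a linear character. -/
theorem bound_linear [Finite P] {p : ℕ} (hp : p.Prime) {χ : P → ℂ}
    (hχ : Cfsg.IsCharacter P χ) (hirr : Cfsg.IsIrrCharacter P χ) (h1 : χ 1 = 1) {a t : ℕ}
    (ha : (periods χ).index = p ^ a) (ht : (galOrbit χ).ncard ≤ (p - 1) * p ^ t) :
    a ≤ t + 1 := by
  classical
  rcases Nat.eq_zero_or_pos a with rfl | ha0
  · exact Nat.zero_le _
  obtain ⟨l, hl⟩ := IsChar.exists_hom_of_degree_one hχ h1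
  have hper : periods χ = l.ker := by
    ext g
    rw [mem_periods, MonoidHom.mem_ker]
    refine ⟨fun h => ?_, fun h x => by rw [hl, hl, map_mul, h, one_mul]⟩
    have := h 1
    rw [mul_one, hl, hl, map_one, Units.val_eq_one.2 rfl] at this
    exact Units.val_eq_one.1 this
  have hcard : Nat.card l.range = p ^ a := by
    rw [← ha, hper, Subgroup.index_ker]
  haveI : Finite l.range := Finite.of_surjective l.rangeRestrict l.rangeRestrict_surjective
  obtain ⟨w, hw⟩ := IsCyclic.exists_generator (α := l.range)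
  obtain ⟨g, hg⟩ := w.2
  have hwo : orderOf (l g : ℂ) = p ^ a := by
    rw [orderOf_units, hg, Subgroup.orderOf_coe, orderOf_eq_card_of_forall_mem_zpowers hw, hcard]
  have hpa : p ^ a ≠ 0 := pow_ne_zero _ hp.ne_zero
  have hprim : IsPrimitiveRoot (l g : ℂ) (p ^ a) := hwo ▸ IsPrimitiveRoot.orderOf _
  let S := (Finset.range (p ^ a)).filter fun k => k.Coprime (p ^ a)
  have hS : S.card = p ^ (a - 1) * (p - 1) := by
    rw [← Nat.totient_prime_pow hp ha0, Nat.totient_eq_card_coprime]
    congr 1
    exact Finset.filter_congr fun k _ => Nat.coprime_comm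
  have hex : ∀ k : S, ∃ φ ∈ galOrbit χ, φ g = (l g : ℂ) ^ (k : ℕ) := fun k => by
    obtain ⟨σ, hσ⟩ := H43.exists_aut_pow hpa (Finset.mem_filter.1 k.2).2
    refine ⟨_, ⟨σ, rfl⟩, ?_⟩
    show σ (χ g) = _
    rw [hl, hσ _ hprim.pow_eq_one]
  choose φ hφ hφg using hex
  haveI := (galOrbit_finite hirr).to_subtype
  have hinj : Function.Injective (fun k : S => (⟨φ k, hφ k⟩ : galOrbit χ)) := by
    intro k k' h
    have h' : φ k g = φ k' g := congrFun (congrArg Subtype.val h) g
    rw [hφg, hφg] at h'
    exact Subtype.ext (hprim.pow_inj (Finset.mem_range.1 (Finset.mem_filter.1 k.2).1)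
      (Finset.mem_range.1 (Finset.mem_filter.1 k'.2).1) h')
  have h := Nat.card_le_card_of_injective _ hinj
  rw [Nat.card_coe_set_eq, Nat.card_eq_fintype_card, Fintype.card_coe, hS] at h
  have h' := Nat.le_of_mul_le_mul_right (h.trans (le_of_le_of_eq ht (mul_comm _ _)))
    (Nat.sub_pos_of_lt hp.one_lt)
  have := (Nat.pow_le_pow_iff_right hp.one_lt).1 h'
  omega

/-- The index of the kernel of an irreducible character of a `p`-group is bounded by its
degree and the size of its Galois orbit. -/
theorem kernel_index_bound {p : ℕ} (hp : p.Prime) :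
    ∀ (f : ℕ) (P : Type u) [Group P] [Finite P], IsPGroup p P → ∀ (χ : P → ℂ),
      Cfsg.IsIrrCharacter P χ → χ 1 = f → ∀ a t : ℕ, (periods χ).index = p ^ a →
      (galOrbit χ).ncard ≤ (p - 1) * p ^ t →
      (p - 1) * a ≤ (f - 1) + (p - 1) * (t + 1) * f := by
  intro f
  induction f using Nat.strong_induction_on with
  | _ f ih =>
    intro P _ _ hP χ hχ hf a t ha ht
    classical
    haveI := Fact.mk hp
    cases nonempty_fintype P
    have hχc := CharBasic.IsIrr.isCharacter hχ
    by_cases hf1 : f = 1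
    · subst hf1
      have := bound_linear hp hχc hχ (by simpa using hf) ha ht
      calc (p - 1) * a ≤ (p - 1) * (t + 1) := Nat.mul_le_mul_left _ this
        _ ≤ _ := by simp
    obtain ⟨M, hn, θ, hcoat, hidx, hθ, hoff, hdeg, hIM, hres⟩ :=
      exists_inducing hP hχ (by rw [hf]; exact_mod_cast hf1)
    haveI := hn
    haveI : Fintype M := Fintype.ofFinite M
    obtain ⟨f', hf'0, hf'⟩ := CharBasic.IsIrr.exists_degree hθ
    have hff' : f = p * f' := by
      rw [hf, hf'] at hdeg
      exact_mod_cast hdeg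
    have hlt : f' < f := by rw [hff']; exact lt_mul_left hf'0 hp.one_lt
    obtain ⟨b, hb⟩ := (hP.to_subgroup M).index (periods θ)
    -- induction recovers `χ`
    have hind : Cfsg.indFun M θ = χ := by
      funext g
      by_cases hg : g ∈ M
      · have h1 := congrFun hres ⟨g, hg⟩
        simp only [Pi.smul_apply, smul_eq_mul, Finset.sum_apply] at h1
        have h2 := indFun_normal_coe M θ ⟨g, hg⟩
        simp only at h2
        rw [h2, ← h1, inv_mul_cancel_left₀ (card_ne_zero_complex M)]
      · rw [indFun_eq_zero_of_normal M θ hg, hoff g hg]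
    have hconj : ∀ x : P, CharInduce.conjFun M θ (Quotient.out (x : P ⧸ M)) = CharInduce.conjFun M θ x := by
      intro x
      rw [conjFun_eq_iff, hIM]
      have := QuotientGroup.eq.1 (QuotientGroup.out_eq' (x : P ⧸ M))
      simpa [mul_assoc] using M.inv_mem (hn.conj_mem _ this (Quotient.out (x : P ⧸ M)))
    have hfix : ∀ ρ : ℂ ≃+* ℂ, (∀ g, ρ (χ g) = χ g) →
        ∃ x : P, (fun m => ρ (θ m)) = CharInduce.conjFun M θ x := by
      intro ρ hρ
      by_contra hne
      push Not at hne
      have hirr := H43.aut_irr ρ hθ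
      have h1 : ∑ x : P, CharInduce.conjFun M (fun m => ρ (θ m)) x = ∑ x : P, CharInduce.conjFun M θ x := by
        rw [← hres]
        funext m
        have h := congrArg ρ (congrFun hres m)
        simp only [Pi.smul_apply, smul_eq_mul, Finset.sum_apply, map_mul, map_natCast, map_sum,
          hρ] at h
        rw [Finset.sum_apply]
        exact h.symm
      have h2 := congrArg (fun F => Cfsg.classInner F (fun m => ρ (θ m))) h1
      simp only [CharBasic.classInner_sum_left,
        CharBasic.classInner_irr (isIrrCharacter_conjFun M hθ _) hirr,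
        CharBasic.classInner_irr (isIrrCharacter_conjFun M hirr _) hirr,
        if_neg (hne _).symm, sum_const_zero, sum_boole] at h2
      rw [Nat.cast_eq_zero, Finset.card_eq_zero, Finset.filter_eq_empty_iff] at h2
      exact h2 (Finset.mem_univ 1) (conjFun_one M _)
    have hper : ∀ K : Subgroup M, (∀ x : P, K ≤ periods (CharInduce.conjFun M θ x)) →
        K.map M.subtype ≤ periods χ := by
      rintro K hK _ ⟨m, hm, rfl⟩ h
      by_cases hh : h ∈ M
      · have e : ∀ y : M, (Nat.card M : ℂ) * χ y = ∑ x : P, CharInduce.conjFun M θ x y := fun y => by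
          have h1 := congrFun hres y
          simpa only [Pi.smul_apply, smul_eq_mul, Finset.sum_apply] using h1
        apply mul_left_cancel₀ (card_ne_zero_complex M)
        rw [e ⟨h, hh⟩, show (M.subtype m) * h = ((m * ⟨h, hh⟩ : M) : P) from rfl, e]
        exact Finset.sum_congr rfl fun x _ => hK x hm _
      · rw [hoff h hh]
        exact hoff _ fun h2 => hh ((M.mul_mem_cancel_left m.2).1 h2)
    have hindex : ∀ K : Subgroup M, (∀ x : P, K ≤ periods (CharInduce.conjFun M θ x)) →
        p ^ a ≤ K.index * p := by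
      intro K hK
      rw [← ha]
      have hd := Subgroup.index_dvd_of_le (hper K hK)
      rw [Subgroup.index_map_subtype, hidx] at hd
      exact Nat.le_of_dvd (Nat.mul_pos (Nat.pos_of_ne_zero Subgroup.index_ne_zero_of_finite) hp.pos) hd
    have horbfin := galOrbit_finite hχ
    have hθfin := galOrbit_finite hθ
    have hmaps : ∀ φ ∈ galOrbit θ, Cfsg.indFun M φ ∈ galOrbit χ := by
      rintro _ ⟨σ, rfl⟩
      exact ⟨σ, funext fun g => by rw [indFun_aut, hind]⟩
    have hp1 : 1 ≤ p - 1 := Nat.le_sub_one_of_lt hp.one_lt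
    have hfix' : ∀ σ τ : ℂ ≃+* ℂ,
        Cfsg.indFun M (fun m => σ (θ m)) = Cfsg.indFun M (fun m => τ (θ m)) →
        ∀ g, τ.symm (σ (χ g)) = χ g := fun σ τ e g => by
      have := congrFun e g
      rw [indFun_aut, indFun_aut, hind] at this
      rw [this, RingEquiv.symm_apply_apply]
    by_cases hstab : ∀ ρ : ℂ ≃+* ℂ, (∀ g, ρ (χ g) = χ g) → (fun m => ρ (θ m)) = θ
    · -- the orbit does not grow
      have hle : (galOrbit θ).ncard ≤ (galOrbit χ).ncard := by
        refine Set.ncard_le_ncard_of_injOn (Cfsg.indFun M) hmaps ?_ horbfin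
        rintro _ ⟨σ, rfl⟩ _ ⟨τ, rfl⟩ e
        funext m
        have := congrFun (hstab (σ.trans τ.symm) (hfix' σ τ e)) m
        exact τ.symm.injective (by simpa using this)
      have hb' := ih f' hlt M (hP.to_subgroup M) θ hθ hf' b t hb (hle.trans ht)
      have hidx' : ∀ x : P, (periods (CharInduce.conjFun M θ x)).index = p ^ b := by
        intro x
        have : periods (CharInduce.conjFun M θ x) =
            (periods θ).comap (MulAut.conjNormal x : M ≃* M).toMonoidHom := by
          ext m
          rw [mem_periods, Subgroup.mem_comap, mem_periods]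
          simp only [conjFun_eq_comp, map_mul]
          refine ⟨fun h y => ?_, fun h y => h _⟩
          obtain ⟨z, rfl⟩ := (MulAut.conjNormal x : M ≃* M).surjective y
          exact h z
        rw [this]
        exact (Subgroup.index_comap_of_surjective _
          (MulAut.conjNormal x : M ≃* M).surjective).trans hb
      have hK := hindex (⨅ q : P ⧸ M, periods (CharInduce.conjFun M θ q.out)) fun x => by
        rw [← hconj x]
        exact iInf_le _ _
      have hprod := (Subgroup.index_iInf_le
        fun q : P ⧸ M => periods (CharInduce.conjFun M θ q.out))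
      simp only [hidx', Finset.prod_const, card_univ, ← Nat.card_eq_fintype_card,
        ← Subgroup.index_eq_card, hidx, ← pow_mul] at hprod
      have ha' : a ≤ b * p + 1 := by
        refine (Nat.pow_le_pow_iff_right hp.one_lt).1 (hK.trans ?_)
        rw [pow_succ]
        exact Nat.mul_le_mul_right p hprod
      subst hff'
      obtain ⟨c, rfl⟩ : ∃ c, p = c + 2 := ⟨p - 2, by omega⟩
      obtain ⟨d, rfl⟩ : ∃ d, f' = d + 1 := ⟨f' - 1, by omega⟩
      have e1 : (c + 2) * (d + 1) - 1 = (c + 2) * d + (c + 1) := by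
        rw [Nat.sub_eq_iff_eq_add (by nlinarith)]; ring
      rw [e1, show c + 2 - 1 = c + 1 from rfl]
      rw [Nat.add_sub_cancel, show c + 2 - 1 = c + 1 from rfl] at hb'
      nlinarith
    · -- `θ` is Galois conjugate to a different conjugate
      push Not at hstab
      obtain ⟨ρ, hρ, hρθ⟩ := hstab
      obtain ⟨x₀, hx₀⟩ := hfix ρ hρ
      have hx₀M : x₀ ∉ M := fun h => hρθ (by rw [hx₀, ← mem_inertia, hIM]; exact h)
      have hconjmem : ∀ (x : P) (m : M), m ∈ periods (CharInduce.conjFun M θ x) ↔
          (MulAut.conjNormal x : M ≃* M) m ∈ periods θ := by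
        intro x m
        rw [mem_periods, mem_periods]
        simp only [conjFun_eq_comp, map_mul]
        refine ⟨fun h y => ?_, fun h y => h _⟩
        obtain ⟨z, rfl⟩ := (MulAut.conjNormal x : M ≃* M).surjective y
        exact h z
      let N : Subgroup P := (periods θ).map M.subtype
      have hnorm : ∀ x : P, (∀ m : M, m ∈ periods θ ↔ (MulAut.conjNormal x : M ≃* M) m ∈ periods θ) →
          x ∈ Subgroup.normalizer (N : Set P) := by
        intro x h
        rw [Subgroup.mem_normalizer_iff]
        intro y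
        constructor
        · rintro ⟨m, hm, rfl⟩
          exact ⟨_, (h m).1 hm, rfl⟩
        · rintro ⟨m, hm, hy⟩
          have hyM : y ∈ M := by
            have := hn.conj_mem _ m.2 x⁻¹
            simpa [show (m : P) = x * y * x⁻¹ from hy, mul_assoc] using this
          refine ⟨⟨y, hyM⟩, (h _).2 ?_, rfl⟩
          rw [show (MulAut.conjNormal x : M ≃* M) ⟨y, hyM⟩ = m from Subtype.ext (by simpa using hy.symm)]
          exact hm
      have hN : Subgroup.normalizer (N : Set P) = ⊤ := by
        refine hcoat.2 _ (lt_of_le_of_ne (fun x hx => hnorm x fun m => ?_) fun h => hx₀M ?_)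
        · rw [← hconjmem, (mem_inertia M).1 (by rw [hIM]; exact hx)]
        · rw [h]
          exact hnorm x₀ fun m => by rw [← hconjmem, ← hx₀, periods_comp]
      have hK := hindex (periods θ) fun x m hm => by
        rw [hconjmem]
        have hx : x ∈ Subgroup.normalizer (N : Set P) := hN ▸ Subgroup.mem_top x
        obtain ⟨m', hm', he⟩ := (Subgroup.mem_normalizer_iff.1 hx (m : P)).1 ⟨m, hm, rfl⟩
        rw [show (MulAut.conjNormal x : M ≃* M) m = m' from Subtype.ext (by simpa using he.symm)]
        exact hm'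
      have ha' : a ≤ b + 1 := by
        refine (Nat.pow_le_pow_iff_right hp.one_lt).1 (hK.trans ?_)
        rw [hb, pow_succ]
      have hle : (galOrbit θ).ncard ≤ (p - 1) * p ^ (t + 1) := by
        rw [Set.ncard_eq_toFinset_card _ hθfin]
        refine (Finset.card_le_mul_card_image (f := Cfsg.indFun M) hθfin.toFinset p ?_).trans ?_
        · intro φ hφ
          obtain ⟨_, hψ, rfl⟩ := Finset.mem_image.1 hφ
          obtain ⟨τ, rfl⟩ := hθfin.mem_toFinset.1 hψ
          refine (Finset.card_le_card (t := (univ : Finset (P ⧸ M)).image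
            fun q => fun m => τ (CharInduce.conjFun M θ q.out m)) ?_).trans ?_
          · intro ψ hψ'
            obtain ⟨h1, h2⟩ := Finset.mem_filter.1 hψ'
            obtain ⟨σ, rfl⟩ := hθfin.mem_toFinset.1 h1
            obtain ⟨x, hx⟩ := hfix (σ.trans τ.symm) (hfix' σ τ h2)
            refine Finset.mem_image.2 ⟨(x : P ⧸ M), Finset.mem_univ _, funext fun m => ?_⟩
            rw [hconj, ← hx]
            simp
          · refine Finset.card_image_le.trans (le_of_eq ?_)
            rw [card_univ, ← Nat.card_eq_fintype_card, ← Subgroup.index_eq_card, hidx]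
        · rw [pow_succ, ← mul_assoc, mul_comm p]
          refine Nat.mul_le_mul_right p (le_trans ?_ ht)
          rw [Set.ncard_eq_toFinset_card _ horbfin]
          refine Finset.card_le_card fun φ hφ => ?_
          obtain ⟨ψ, hψ, rfl⟩ := Finset.mem_image.1 hφ
          exact horbfin.mem_toFinset.2 (hmaps ψ (hθfin.mem_toFinset.1 hψ))
      have hb' := ih f' hlt M (hP.to_subgroup M) θ hθ hf' b (t + 1) hb hle
      subst hff'
      obtain ⟨c, rfl⟩ : ∃ c, p = c + 2 := ⟨p - 2, by omega⟩
      obtain ⟨d, rfl⟩ : ∃ d, f' = d + 1 := ⟨f' - 1, by omega⟩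
      have e1 : (c + 2) * (d + 1) - 1 = (c + 2) * d + (c + 1) := by
        rw [Nat.sub_eq_iff_eq_add (by nlinarith)]; ring
      rw [e1, show c + 2 - 1 = c + 1 from rfl]
      rw [Nat.add_sub_cancel, show c + 2 - 1 = c + 1 from rfl] at hb'
      have key : (t + 2) * (d + 1) ≤ d + (t + 1) * ((c + 2) * (d + 1)) := by
        nlinarith [Nat.zero_le (t * (c * d)), Nat.zero_le (c * d), Nat.zero_le (t * c),
          Nat.zero_le (t * d)]
      nlinarith [Nat.mul_le_mul_left (c + 1) key, Nat.mul_le_mul_left (c + 1) ha']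

end Cfsg.Agent.H63
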