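import Cfsg.Agent.H92.L34Cover
import Cfsg.Agent.S0051

/-!
Covers of `PSL(3, 4)` by elementary abelian 2-groups: the preimages of the two maximal elementary
abelian subgroups of a Sylow 2-subgroup are elementary abelian and have complements `SL(2, 4)` in
their normalizers.
-/

set_option autoImplicit false

namespace Cfsg.Agent.H63.L34Split

open Subgroup Cfsg.Agent.H92.L34

variable {F : Type*} [Field F] [Fintype F]

local notation "L" => Matrix.ProjectiveSpecialLinearGroup (Fin 3) F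
local notation "SL2" => Matrix.SpecialLinearGroup (Fin 2) F
local notation "SL3" => Matrix.SpecialLinearGroup (Fin 3) F

/-- diag (1, g) as a matrix -/
def lev1Mat (g : Matrix (Fin 2) (Fin 2) F) : Matrix (Fin 3) (Fin 3) F :=
  !![1, 0, 0; 0, g 0 0, g 0 1; 0, g 1 0, g 1 1]

/-- diag (g, 1) as a matrix -/
def lev2Mat (g : Matrix (Fin 2) (Fin 2) F) : Matrix (Fin 3) (Fin 3) F :=
  !![g 0 0, g 0 1, 0; g 1 0, g 1 1, 0; 0, 0, 1]

theorem lev1Mat_mul (g h : Matrix (Fin 2) (Fin 2) F) :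
    lev1Mat (g * h) = lev1Mat g * lev1Mat h := by
  ext i j
  fin_cases i <;> fin_cases j <;>
    simp [lev1Mat, Matrix.mul_apply, Fin.sum_univ_three, Fin.sum_univ_two]

theorem lev2Mat_mul (g h : Matrix (Fin 2) (Fin 2) F) :
    lev2Mat (g * h) = lev2Mat g * lev2Mat h := by
  ext i j
  fin_cases i <;> fin_cases j <;>
    simp [lev2Mat, Matrix.mul_apply, Fin.sum_univ_three, Fin.sum_univ_two]

theorem det_lev1Mat (g : Matrix (Fin 2) (Fin 2) F) : (lev1Mat g).det = g.det := by
  simp [lev1Mat, Matrix.det_fin_three, Matrix.det_fin_two]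

theorem det_lev2Mat (g : Matrix (Fin 2) (Fin 2) F) : (lev2Mat g).det = g.det := by
  simp [lev2Mat, Matrix.det_fin_three, Matrix.det_fin_two]

/-- diag (1, g) -/
def lev1 : SL2 →* SL3 :=
  MonoidHom.mk' (fun g => ⟨lev1Mat g.1, by rw [det_lev1Mat]; exact g.2⟩)
    fun g h => Subtype.ext (lev1Mat_mul g.1 h.1)

/-- diag (g, 1) -/
def lev2 : SL2 →* SL3 :=
  MonoidHom.mk' (fun g => ⟨lev2Mat g.1, by rw [det_lev2Mat]; exact g.2⟩)
    fun g h => Subtype.ext (lev2Mat_mul g.1 h.1)

@[simp] theorem lev1_coe (g : SL2) : (lev1 g : Matrix (Fin 3) (Fin 3) F) = lev1Mat g.1 := rfl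

@[simp] theorem lev2_coe (g : SL2) : (lev2 g : Matrix (Fin 3) (Fin 3) F) = lev2Mat g.1 := rfl

/-- first elementary abelian subgroup -/
def A1 : Subgroup L where
  carrier := {x | ∃ a c, m a 0 c = x}
  one_mem' := ⟨0, 0, m_zero⟩
  mul_mem' := by
    rintro _ _ ⟨a, c, rfl⟩ ⟨a', c', rfl⟩
    exact ⟨a + a', c + c', by rw [m_mul]; simp⟩
  inv_mem' := by
    rintro _ ⟨a, c, rfl⟩
    exact ⟨-a, -c, eq_inv_of_mul_eq_one_left (by rw [m_mul]; simp [m_zero])⟩

/-- second elementary abelian subgroup -/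
def A2 : Subgroup L where
  carrier := {x | ∃ b c, m 0 b c = x}
  one_mem' := ⟨0, 0, m_zero⟩
  mul_mem' := by
    rintro _ _ ⟨a, c, rfl⟩ ⟨a', c', rfl⟩
    exact ⟨a + a', c + c', by rw [m_mul]; simp⟩
  inv_mem' := by
    rintro _ ⟨a, c, rfl⟩
    exact ⟨-a, -c, eq_inv_of_mul_eq_one_left (by rw [m_mul]; simp [m_zero])⟩

theorem A1_le : (A1 : Subgroup L) ≤ U := by rintro _ ⟨a, c, rfl⟩; exact ⟨a, 0, c, rfl⟩

theorem A2_le : (A2 : Subgroup L) ≤ U := by rintro _ ⟨b, c, rfl⟩; exact ⟨0, b, c, rfl⟩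

/-- projection to `PSL` -/
def π : SL3 →* L := QuotientGroup.mk' _

theorem π_M (a b c : F) : π (M a b c) = m a b c := rfl

theorem π_eq {x y : SL3} (h : π x = π y) : ∃ r : F, (x : Matrix (Fin 3) (Fin 3) F) = r • y.1 := by
  have h' : x⁻¹ * y ∈ center SL3 := QuotientGroup.eq.1 h
  obtain ⟨r, hr3, hr⟩ := Matrix.SpecialLinearGroup.mem_center_iff.1 (inv_mem h')
  have hx : x = y * (x⁻¹ * y)⁻¹ := by group
  refine ⟨r, ?_⟩
  conv_lhs => rw [hx, Matrix.SpecialLinearGroup.coe_mul, ← hr]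
  simp [Matrix.scalar_apply, Matrix.smul_eq_diagonal_mul]
  ext i j
  simp [mul_comm]

theorem mem_normalizer_of {A : Subgroup L} [Finite L] {x : L} (h : ∀ a ∈ A, x * a * x⁻¹ ∈ A) :
    x ∈ normalizer (A : Set L) := by
  rw [mem_normalizer_iff]
  refine fun a => ⟨h a, fun ha => ?_⟩
  have hmap : A.map (MulAut.conj x).toMonoidHom = A := by
    refine eq_of_le_of_card_ge (by rintro _ ⟨b, hb, rfl⟩; exact h b hb) ?_
    rw [card_map_of_injective (MulAut.conj x).injective]
  rw [← hmap] at ha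
  obtain ⟨b, hb, hbe⟩ := ha
  rwa [show b = a from (MulAut.conj x).injective hbe] at hb

theorem U_le_normalizer [Finite L] :
    (U : Subgroup L) ≤ normalizer ((A1 : Subgroup L) : Set L) ∧
      (U : Subgroup L) ≤ normalizer ((A2 : Subgroup L) : Set L) := by
  constructor <;>
  · rintro _ ⟨a, b, c, rfl⟩
    refine mem_normalizer_of ?_
    rintro _ ⟨a', c', rfl⟩
    have hi : (m a b c : L)⁻¹ = m (-a) (-b) (-c + a * b) := by
      refine inv_eq_of_mul_eq_one_right ?_
      rw [m_mul, ← m_zero]; congr 1 <;> ring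
    rw [hi, m_mul, m_mul]
    first
    | exact ⟨_, _, (congrArg₂ (fun u v => (m u v _ : L)) rfl (by ring)).symm⟩
    | exact ⟨_, _, (congrArg₂ (fun u v => (m u v _ : L)) (by ring) rfl).symm⟩

/-- the normalizer of the first subgroup -/
theorem normalizer_A1 (hF : Fintype.card F = 4) [Finite L] :
    (∀ g : SL2, π (lev1 g) ∈ normalizer ((A1 : Subgroup L) : Set L)) ∧
      (∀ g : SL2, π (lev1 g) ∈ A1 → g = 1) ∧
      ∀ x ∈ normalizer ((A1 : Subgroup L) : Set L), ∃ α ∈ A1, ∃ g : SL2, x = α * π (lev1 g) := by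
  have := charP_two hF
  refine ⟨fun g => mem_normalizer_of ?_, fun g hg => ?_, fun x hx => ?_⟩
  · rintro _ ⟨a, c, rfl⟩
    have hg := g.2
    rw [Matrix.det_fin_two] at hg
    refine ⟨a * g.1 1 1 - c * g.1 1 0, c * g.1 0 0 - a * g.1 0 1,
      eq_mul_inv_of_mul_eq ?_⟩
    rw [← π_M, ← π_M, ← map_mul, ← map_mul]
    congr 1
    apply Subtype.ext
    rw [Matrix.SpecialLinearGroup.coe_mul, Matrix.SpecialLinearGroup.coe_mul]
    ext i j
    fin_cases i <;> fin_cases j <;> simp [lev1Mat, M, Matrix.mul_apply, Fin.sum_univ_three]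
    · linear_combination a * hg
    · linear_combination c * hg
  · obtain ⟨a, c, h⟩ := hg
    obtain ⟨r, hr⟩ := π_eq (h.trans rfl : π (M a 0 c) = π (lev1 g))
    have e := fun i j : Fin 3 => congrFun (congrFun hr i) j
    have e00 := e 0 0
    have e11 := e 1 1
    have e12 := e 1 2
    have e21 := e 2 1
    have e22 := e 2 2
    simp [M, lev1Mat] at e00 e11 e12 e21 e22
    subst e00
    rw [one_mul] at e11 e22
    replace e12 := e12.resolve_left one_ne_zero
    replace e21 := e21.resolve_left one_ne_zero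
    apply Subtype.ext
    ext i j
    fin_cases i <;> fin_cases j <;> simp [← e11, e12, e21, ← e22]
  · obtain ⟨y, rfl⟩ := QuotientGroup.mk'_surjective _ x
    change π y ∈ _ at hx
    obtain ⟨a', c', hac⟩ := (mem_normalizer_iff.1 hx (m 1 0 0)).1 ⟨1, 0, rfl⟩
    have h1 : π (y * M 1 0 0) = π (M a' 0 c' * y) := by
      rw [map_mul, map_mul, π_M, π_M, hac]; group
    obtain ⟨r, hr⟩ := π_eq h1
    rw [Matrix.SpecialLinearGroup.coe_mul, Matrix.SpecialLinearGroup.coe_mul] at hr
    have e := fun i j : Fin 3 => congrFun (congrFun hr i) j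
    have e10 := e 1 0
    have e20 := e 2 0
    have e11 := e 1 1
    have e21 := e 2 1
    have e12 := e 1 2
    have e22 := e 2 2
    simp [M, Matrix.SpecialLinearGroup.coe_mul, Matrix.mul_apply, Fin.sum_univ_three, Matrix.vecMul, dotProduct] at e10 e20 e11 e21 e12 e22
    have hdet := y.2
    rw [Matrix.det_fin_three] at hdet
    have hr1 : r = 1 := by
      by_contra hne
      have k : ∀ t : F, t = r * t → t = 0 := fun t ht => by
        have : (r - 1) * t = 0 := by linear_combination -ht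
        exact (mul_eq_zero.1 this).resolve_left (sub_ne_zero.2 hne)
      have a10 := k _ e10
      have a20 := k _ e20
      rw [a10, zero_add] at e11
      rw [a20, zero_add] at e21
      rw [a10, a20, k _ e11, k _ e21, k _ e12, k _ e22] at hdet
      simp at hdet
    subst hr1
    have a10 : y.1 1 0 = 0 := by simpa using e11
    have a20 : y.1 2 0 = 0 := by simpa using e21
    set u := y.1 0 0 with hu
    rw [a10, a20] at hdet
    have hu0 : u ≠ 0 := fun h => by simp [h] at hdet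
    have hu3 : u ^ 3 = 1 := by
      have := FiniteField.pow_card_sub_one_eq_one u hu0
      rwa [hF] at this
    have hdet' : u * (y.1 1 1 * y.1 2 2 - y.1 1 2 * y.1 2 1) = 1 := by linear_combination hdet
    let g : SL2 := ⟨!![u⁻¹ * y.1 1 1, u⁻¹ * y.1 1 2; u⁻¹ * y.1 2 1, u⁻¹ * y.1 2 2], by
      rw [Matrix.det_fin_two]
      simp
      field_simp
      have : (y.1 1 1 * y.1 2 2 - y.1 1 2 * y.1 2 1) = u ^ 2 := by
        apply mul_left_cancel₀ hu0
        linear_combination hdet' - hu3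
      linear_combination this⟩
    let s : SL3 := ⟨Matrix.scalar (Fin 3) u, by simp [Matrix.det_fin_three, ← pow_three', hu3, mul_assoc]⟩
    have hgv : (g : Matrix (Fin 2) (Fin 2) F) =
      !![u⁻¹ * y.1 1 1, u⁻¹ * y.1 1 2; u⁻¹ * y.1 2 1, u⁻¹ * y.1 2 2] := rfl
    have hs : s ∈ center SL3 := Matrix.SpecialLinearGroup.mem_center_iff.2
      ⟨u, by simpa using hu3, rfl⟩
    -- the unipotent part
    set z := y * (s * lev1 g)⁻¹ with hz
    have hy : y = z * (s * lev1 g) := by rw [hz, inv_mul_cancel_right]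
    refine ⟨π z, ?_, g, ?_⟩
    · have hzA : ∀ i j : Fin 3, i ≠ 0 → z.1 i j = if i = j then 1 else 0 := by
        intro i j hi
        have hzy : (y : Matrix (Fin 3) (Fin 3) F) = z.1 * (s.1 * (lev1 g).1) := by
          rw [hy]; simp
        have hinv : z.1 = y.1 * ((s * lev1 g)⁻¹ : SL3).1 := by rw [hz]; simp
        have hrow : ∀ j, y.1 i j = (s.1 * (lev1 g).1) i j := by
          intro j
          fin_cases i
          · exact absurd rfl hi
          all_goals fin_cases j <;> simp [s, lev1Mat, hgv, a10, a20, hu0, Matrix.scalar_apply]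
        rw [hinv, Matrix.mul_apply]
        simp only [hrow]
        rw [← Matrix.mul_apply, ← Matrix.SpecialLinearGroup.coe_mul, ← Matrix.SpecialLinearGroup.coe_mul,
          mul_inv_cancel, Matrix.SpecialLinearGroup.coe_one, Matrix.one_apply]
      have hz00 : z.1 0 0 = 1 := by
        have h := z.2
        rw [Matrix.det_fin_three] at h
        simpa [hzA] using h
      refine ⟨z.1 0 1, z.1 0 2, ?_⟩
      rw [← π_M]
      congr 1
      apply Subtype.ext
      ext i j
      fin_cases i <;> fin_cases j <;> simp [M, hzA, hz00]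
    · have hps : π s = 1 := (QuotientGroup.eq_one_iff _).2 hs
      show π y = _
      rw [hz, map_mul, map_inv, map_mul, hps, one_mul, inv_mul_cancel_right]

/-- the normalizer of the second subgroup -/
theorem normalizer_A2 (hF : Fintype.card F = 4) [Finite L] :
    (∀ g : SL2, π (lev2 g) ∈ normalizer ((A2 : Subgroup L) : Set L)) ∧
      (∀ g : SL2, π (lev2 g) ∈ A2 → g = 1) ∧
      ∀ x ∈ normalizer ((A2 : Subgroup L) : Set L), ∃ α ∈ A2, ∃ g : SL2, x = α * π (lev2 g) := by
  have := charP_two hF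
  refine ⟨fun g => mem_normalizer_of ?_, fun g hg => ?_, fun x hx => ?_⟩
  · rintro _ ⟨b, c, rfl⟩
    refine ⟨g.1 1 0 * c + g.1 1 1 * b, g.1 0 0 * c + g.1 0 1 * b, eq_mul_inv_of_mul_eq ?_⟩
    rw [← π_M, ← π_M, ← map_mul, ← map_mul]
    congr 1
    apply Subtype.ext
    rw [Matrix.SpecialLinearGroup.coe_mul, Matrix.SpecialLinearGroup.coe_mul]
    ext i j
    fin_cases i <;> fin_cases j <;> simp [lev2Mat, M, Matrix.mul_apply, Fin.sum_univ_three] <;> ring
  · obtain ⟨b, c, h⟩ := hg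
    obtain ⟨r, hr⟩ := π_eq (h.trans rfl : π (M 0 b c) = π (lev2 g))
    have e := fun i j : Fin 3 => congrFun (congrFun hr i) j
    have e22 := e 2 2
    have e00 := e 0 0
    have e01 := e 0 1
    have e10 := e 1 0
    have e11 := e 1 1
    simp [M, lev2Mat] at e00 e11 e01 e10 e22
    subst e22
    rw [one_mul] at e00 e11
    replace e01 := e01.resolve_left one_ne_zero
    replace e10 := e10.resolve_left one_ne_zero
    apply Subtype.ext
    ext i j
    fin_cases i <;> fin_cases j <;> simp [← e11, e10, e01, ← e00]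
  · obtain ⟨y, rfl⟩ := QuotientGroup.mk'_surjective _ x
    change π y ∈ _ at hx
    obtain ⟨b', c', hbc⟩ := (mem_normalizer_iff.1 (inv_mem hx) (m 0 1 0)).1 ⟨1, 0, rfl⟩
    have h1 : π (M 0 1 0 * y) = π (y * M 0 b' c') := by
      rw [map_mul, map_mul, π_M, π_M, hbc]; group
    obtain ⟨r, hr⟩ := π_eq h1
    rw [Matrix.SpecialLinearGroup.coe_mul, Matrix.SpecialLinearGroup.coe_mul] at hr
    have e := fun i j : Fin 3 => congrFun (congrFun hr i) j
    have e00 := e 0 0
    have e01 := e 0 1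
    have e10 := e 1 0
    have e11 := e 1 1
    have e20 := e 2 0
    have e21 := e 2 1
    simp [M, Matrix.SpecialLinearGroup.coe_mul, Matrix.mul_apply, Fin.sum_univ_three, Matrix.vecMul, dotProduct] at e00 e01 e10 e11 e20 e21
    have hdet := y.2
    rw [Matrix.det_fin_three] at hdet
    have hr1 : r = 1 := by
      by_contra hne
      have k : ∀ t : F, t = r * t → t = 0 := fun t ht => by
        have : (r - 1) * t = 0 := by linear_combination -ht
        exact (mul_eq_zero.1 this).resolve_left (sub_ne_zero.2 hne)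
      have a20 := k _ e20
      have a21 := k _ e21
      rw [a20, add_zero] at e10
      rw [a21, add_zero] at e11
      rw [a20, a21, k _ e10, k _ e11, k _ e00, k _ e01] at hdet
      simp at hdet
    subst hr1
    have a20 : y.1 2 0 = 0 := by simpa using e10
    have a21 : y.1 2 1 = 0 := by simpa using e11
    set u := y.1 2 2 with hu
    rw [a20, a21] at hdet
    have hu0 : u ≠ 0 := fun h => by simp [h] at hdet
    have hu3 : u ^ 3 = 1 := by
      have := FiniteField.pow_card_sub_one_eq_one u hu0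
      rwa [hF] at this
    have hdet' : u * (y.1 0 0 * y.1 1 1 - y.1 0 1 * y.1 1 0) = 1 := by linear_combination hdet
    let g : SL2 := ⟨!![u⁻¹ * y.1 0 0, u⁻¹ * y.1 0 1; u⁻¹ * y.1 1 0, u⁻¹ * y.1 1 1], by
      rw [Matrix.det_fin_two]
      simp
      field_simp
      have : (y.1 0 0 * y.1 1 1 - y.1 0 1 * y.1 1 0) = u ^ 2 := by
        apply mul_left_cancel₀ hu0
        linear_combination hdet' - hu3
      linear_combination this⟩
    let s : SL3 := ⟨Matrix.scalar (Fin 3) u, by simp [Matrix.det_fin_three, ← pow_three', hu3, mul_assoc]⟩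
    have hgv : (g : Matrix (Fin 2) (Fin 2) F) =
      !![u⁻¹ * y.1 0 0, u⁻¹ * y.1 0 1; u⁻¹ * y.1 1 0, u⁻¹ * y.1 1 1] := rfl
    have hs : s ∈ center SL3 := Matrix.SpecialLinearGroup.mem_center_iff.2
      ⟨u, by simpa using hu3, rfl⟩
    let z : SL3 := M 0 (u⁻¹ * y.1 1 2) (u⁻¹ * y.1 0 2)
    refine ⟨π z, ⟨_, _, rfl⟩, g, ?_⟩
    have hy : y = z * (s * lev2 g) := by
      apply Subtype.ext
      rw [Matrix.SpecialLinearGroup.coe_mul, Matrix.SpecialLinearGroup.coe_mul]
      ext i j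
      fin_cases i <;> fin_cases j <;>
        simp [z, s, hgv, lev2Mat, M, Matrix.mul_apply, Fin.sum_univ_three, Matrix.scalar_apply, a20, a21, hu0,
          ← hu, mul_comm u] <;>
        field_simp
    have hps : π s = 1 := (QuotientGroup.eq_one_iff _).2 hs
    show π y = _
    rw [hy, map_mul, map_mul, hps, one_mul]

variable {X : Type*} [Group X] [Finite X]

/-- Gaschütz complement isomorphic to `SL(2, 4)` -/
theorem split_of (hP : Nonempty (Matrix.ProjectiveSpecialLinearGroup (Fin 2) F ≃* SL2))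
    (σ : X →* L) (hσ : Function.Surjective σ) (A V : Subgroup L) (hV : Odd V.index)
    (hAV : A ≤ V) (hVN : V ≤ normalizer (A : Set L))
    (hab : ∀ x y, σ x ∈ A → σ y ∈ A → Commute x y) (hsq : ∀ x, σ x ∈ A → x * x = 1)
    (A0 : Subgroup X) (hA0 : A0 ≤ V.comap σ) (hA0i : A0 ⊓ A.comap σ = ⊥)
    (hA0s : A.comap σ ⊔ A0 = V.comap σ) (θ : SL2 →* L) (hθ : ∀ g, θ g ∈ normalizer (A : Set L))
    (hθ1 : ∀ g, θ g ∈ A → g = 1)
    (hθs : ∀ x ∈ normalizer (A : Set L), ∃ α ∈ A, ∃ g, x = α * θ g) :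
    ∃ C : Subgroup X, C ≤ normalizer (A.comap σ : Set X) ∧ C ⊓ A.comap σ = ⊥ ∧
      A.comap σ ⊔ C = normalizer (A.comap σ : Set X) ∧
      Nonempty (↥C ≃* Matrix.ProjectiveSpecialLinearGroup (Fin 2) F) := by
  set H := A.comap σ with hH
  set N := normalizer (H : Set X) with hN
  have hNe : N = (normalizer (A : Set L)).comap σ :=
    (comap_normalizer_eq_of_surjective A hσ).symm
  have hHN : H ≤ N := le_normalizer
  have hVX : V.comap σ ≤ N := hNe ▸ comap_mono hVN
  haveI : (H.subgroupOf N).Normal := normal_in_normalizer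
  haveI : IsMulCommutative (H.subgroupOf N) :=
    ⟨⟨fun a b => Subtype.ext (Subtype.ext (hab _ _ a.2 b.2).eq)⟩⟩
  have h2 : IsPGroup 2 (H.subgroupOf N) := fun a => ⟨1, by
    refine Subtype.ext (Subtype.ext ?_)
    simpa [pow_two] using hsq _ a.2⟩
  have hodd : Odd ((V.comap σ).subgroupOf N).index := by
    have h1 : Odd (V.comap σ).index := by rw [index_comap_of_surjective _ hσ]; exact hV
    exact h1.of_dvd_nat (by rw [← relIndex]; exact relIndex_dvd_index_of_le hVX)
  haveI : Fact (Nat.Prime 2) := ⟨Nat.prime_two⟩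
  have hcop : (Nat.card (H.subgroupOf N)).Coprime ((V.comap σ).subgroupOf N).index := by
    obtain ⟨k, hk⟩ := IsPGroup.iff_card.1 h2
    rw [hk]
    exact Nat.Coprime.pow_left k (Nat.coprime_two_left.2 hodd)
  obtain ⟨Cn, hCn⟩ := Cfsg.Agent.S0051.result (H.subgroupOf N) ((V.comap σ).subgroupOf N)
    (fun x hx => comap_mono hAV hx) hcop (A0.subgroupOf N)
    (fun x hx => hA0 hx)
    (by
      rw [eq_bot_iff]
      intro x hx
      have : (x : X) ∈ A0 ⊓ H := ⟨hx.1, hx.2⟩
      rw [hA0i] at this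
      exact Subtype.ext this)
    (by rw [← subgroupOf_sup hHN (hA0.trans hVX), hA0s])
  refine ⟨Cn.map N.subtype, map_subtype_le _, ?_, ?_, ?_⟩
  · rw [eq_bot_iff]
    rintro _ ⟨⟨c, hc, rfl⟩, hcH⟩
    have := hCn.disjoint.eq_bot.le ⟨(hcH : c ∈ H.subgroupOf N), hc⟩
    rw [mem_bot] at this
    rw [this]; rfl
  · refine le_antisymm (sup_le hHN (map_subtype_le _)) fun x hx => ?_
    have : (⟨x, hx⟩ : N) ∈ H.subgroupOf N ⊔ Cn := hCn.sup_eq_top.symm ▸ mem_top _
    obtain ⟨a, ha, b, hb, hab'⟩ := mem_sup_of_normal_left.1 this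
    have e : x = (a : X) * (b : X) := (congrArg Subtype.val hab').symm
    rw [e]
    exact mul_mem (mem_sup_left ha) (mem_sup_right ⟨b, hb, rfl⟩)
  · let Q := ↥(normalizer (A : Set L)) ⧸ A.subgroupOf (normalizer (A : Set L))
    haveI : (A.subgroupOf (normalizer (A : Set L))).Normal := normal_in_normalizer
    let q : ↥(normalizer (A : Set L)) →* Q := QuotientGroup.mk' _
    have hq : ∀ x, q x = 1 ↔ (x : L) ∈ A := fun x => QuotientGroup.eq_one_iff x
    let f1 : ↥(Cn.map N.subtype) →* Q := q.comp ((σ.comp (Cn.map N.subtype).subtype).codRestrict _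
      fun x => (hNe.le (map_subtype_le _ x.2) :))
    let f2 : SL2 →* Q := q.comp (θ.codRestrict _ hθ)
    have i1 : Function.Injective f1 := (injective_iff_map_eq_one f1).2 fun x hx => by
      obtain ⟨c, hc, hcx⟩ := x.2
      have hcH : c ∈ H.subgroupOf N := by
        show σ (c : X) ∈ A
        rw [show (c : X) = x from hcx]
        exact (hq _).1 hx
      have := hCn.disjoint.eq_bot.le ⟨hcH, hc⟩
      rw [mem_bot] at this
      exact Subtype.ext (by rw [← hcx, this]; rfl)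
    have s1 : Function.Surjective f1 := fun y => by
      obtain ⟨⟨x, hx⟩, rfl⟩ := QuotientGroup.mk'_surjective _ y
      obtain ⟨n, rfl⟩ := hσ x
      have hn : n ∈ N := hNe.ge hx
      have : (⟨n, hn⟩ : N) ∈ H.subgroupOf N ⊔ Cn := hCn.sup_eq_top.symm ▸ mem_top _
      obtain ⟨a, ha, b, hb, hab'⟩ := mem_sup_of_normal_left.1 this
      refine ⟨⟨b, b, hb, rfl⟩, ?_⟩
      have e : n = (a : X) * (b : X) := (congrArg Subtype.val hab').symm
      refine QuotientGroup.eq.2 ?_
      show (σ (b : X))⁻¹ * σ n ∈ A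
      rw [e, map_mul, ← mul_assoc]
      have hbN : σ (b : X) ∈ normalizer (A : Set L) := hNe.le b.2
      simpa using (mem_normalizer_iff.1 (inv_mem hbN) (σ (a : X))).1 ha
    have i2 : Function.Injective f2 := (injective_iff_map_eq_one f2).2 fun g hg =>
      hθ1 g ((hq _).1 hg)
    have s2 : Function.Surjective f2 := fun y => by
      obtain ⟨⟨x, hx⟩, rfl⟩ := QuotientGroup.mk'_surjective _ y
      obtain ⟨α, hα, g, rfl⟩ := hθs x hx
      refine ⟨g, QuotientGroup.eq.2 ?_⟩
      show (θ g)⁻¹ * (α * θ g) ∈ A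
      simpa [mul_assoc] using (mem_normalizer_iff.1 (inv_mem (hθ g)) α).1 hα
    obtain ⟨e⟩ := hP
    exact ⟨((MulEquiv.ofBijective f1 ⟨i1, s1⟩).trans (MulEquiv.ofBijective f2 ⟨i2, s2⟩).symm).trans e.symm⟩

theorem psl_two (hF : Fintype.card F = 4) :
    Nonempty (Matrix.ProjectiveSpecialLinearGroup (Fin 2) F ≃* SL2) := by
  have := charP_two hF
  have hc : center SL2 = ⊥ := by
    rw [eq_bot_iff]
    intro x hx
    obtain ⟨r, hr, hx'⟩ := Matrix.SpecialLinearGroup.mem_center_iff.1 hx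
    have h2 : (r - 1) ^ 2 = 0 := by
      rw [CharTwo.sub_eq_add, CharTwo.add_sq]
      rw [Fintype.card_fin] at hr
      rw [hr, one_pow, CharTwo.add_self_eq_zero]
    have h1 : r = 1 := sub_eq_zero.1 (pow_eq_zero_iff two_ne_zero |>.1 h2)
    exact Subtype.ext (by rw [← hx', h1, map_one]; rfl)
  exact ⟨(QuotientGroup.quotientMulEquivOfEq hc).trans QuotientGroup.quotientBot⟩

/-- four elements of an elementary abelian preimage -/
theorem exists_fours {a b : X} (hab : Commute a b) (ha : a * a = 1) (hb : b * b = 1) :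
    ∃ W : Subgroup X, a ∈ W ∧ b ∈ W ∧ ∀ x ∈ W, x = 1 ∨ x = a ∨ x = b ∨ x = a * b := by
  have ab : ∀ y, b * (a * y) = a * (b * y) := fun y => by rw [← mul_assoc, ← hab.eq, mul_assoc]
  have aa : ∀ y, a * (a * y) = y := fun y => by rw [← mul_assoc, ha, one_mul]
  have bb : ∀ y, b * (b * y) = y := fun y => by rw [← mul_assoc, hb, one_mul]
  refine ⟨{ carrier := {x | x = 1 ∨ x = a ∨ x = b ∨ x = a * b}
            one_mem' := Or.inl rfl
            mul_mem' := ?_
            inv_mem' := ?_ }, Or.inr (Or.inl rfl), Or.inr (Or.inr (Or.inl rfl)), fun x hx => hx⟩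
  · rintro x y (rfl | rfl | rfl | rfl) (rfl | rfl | rfl | rfl) <;>
      simp [mul_assoc, ha, hb, ab, aa, bb, hab.eq.symm]
  · rintro x (rfl | rfl | rfl | rfl) <;>
      simp [inv_eq_of_mul_eq_one_right ha, inv_eq_of_mul_eq_one_right hb, hab.eq.symm]

theorem main (hF : Fintype.card F = 4) (σ : X →* L) (hσ : Function.Surjective σ)
    (hz : σ.ker ≤ center X) (he : ∀ z ∈ σ.ker, z * z = 1) :
    (∀ x y, σ x ∈ (A1 : Subgroup L) → σ y ∈ A1 → Commute x y) ∧
    (∀ x, σ x ∈ (A1 : Subgroup L) → x * x = 1) ∧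
    (∀ x y, σ x ∈ (A2 : Subgroup L) → σ y ∈ A2 → Commute x y) ∧
    (∀ x, σ x ∈ (A2 : Subgroup L) → x * x = 1) ∧
    (A1 : Subgroup L).comap σ ⊓ A2.comap σ =
      (center ↥((A1 : Subgroup L).comap σ ⊔ A2.comap σ)).map ((A1 : Subgroup L).comap σ ⊔ A2.comap σ).subtype ∧
    (∃ C : Subgroup X, C ≤ normalizer ((A1 : Subgroup L).comap σ : Set X) ∧ C ⊓ (A1 : Subgroup L).comap σ = ⊥ ∧
      (A1 : Subgroup L).comap σ ⊔ C = normalizer ((A1 : Subgroup L).comap σ : Set X) ∧
      Nonempty (↥C ≃* Matrix.ProjectiveSpecialLinearGroup (Fin 2) F)) ∧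
    (∃ C : Subgroup X, C ≤ normalizer ((A2 : Subgroup L).comap σ : Set X) ∧ C ⊓ (A2 : Subgroup L).comap σ = ⊥ ∧
      (A2 : Subgroup L).comap σ ⊔ C = normalizer ((A2 : Subgroup L).comap σ : Set X) ∧
      Nonempty (↥C ≃* Matrix.ProjectiveSpecialLinearGroup (Fin 2) F)) := by
  classical
  have := charP_two hF
  obtain ⟨ω, hω0, hω1, hall⟩ := exists_gen hF
  have h2 : ∀ x : F, x + x = 0 := CharTwo.add_self_eq_zero
  obtain ⟨row, col⟩ := conj_root hF
  have hsq1 : ∀ u ∈ (A1 : Subgroup L), u * u = 1 := by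
    rintro _ ⟨a, c, rfl⟩; rw [m_mul]; simp [h2, m_zero]
  have hsq2 : ∀ u ∈ (A2 : Subgroup L), u * u = 1 := by
    rintro _ ⟨b, c, rfl⟩; rw [m_mul]; simp [h2, m_zero]
  have hv : (m 0 0 1 : L) * m 0 0 ω ≠ 1 := fun h => by
    rw [m_mul] at h
    exact hω1 (by linear_combination (by simpa using (m_eq_one h).2.2 : (1 : F) + ω = 0) - h2 1)
  have l1 := lifts_commute σ hσ hz he ((A1 : Subgroup L) : Set L)
    (fun u hu v hv => mul_mem hu hv) hsq1
    (by
      rintro _ ⟨a, c, rfl⟩ _ ⟨a', c', rfl⟩ n n'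
      exact (row a c fun h => n (by rw [h.1, h.2, m_zero])).trans
        (row a' c' fun h => n' (by rw [h.1, h.2, m_zero])).symm)
    (m 1 0 0) (m 0 0 1) (m 0 0 ω) ⟨1, 0, rfl⟩ ⟨0, 1, rfl⟩ ⟨0, ω, rfl⟩
    (fun h => one_ne_zero (m_eq_one h).1) (fun h => one_ne_zero (m_eq_one h).2.2)
    (fun h => hω0 (m_eq_one h).2.2)
    (fun h => one_ne_zero (m_inj h).1) (fun h => one_ne_zero (m_inj h).1) hv
    (fun h => by
      rw [m_mul] at h
      exact (one_ne_zero : (1 : F) ≠ 0) (by simpa using (m_inj h).1.symm))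
  have l2 := lifts_commute σ hσ hz he ((A2 : Subgroup L) : Set L)
    (fun u hu v hv => mul_mem hu hv) hsq2
    (by
      rintro _ ⟨b, c, rfl⟩ _ ⟨b', c', rfl⟩ n n'
      exact (col b c fun h => n (by rw [h.1, h.2, m_zero])).trans
        (col b' c' fun h => n' (by rw [h.1, h.2, m_zero])).symm)
    (m 0 1 0) (m 0 0 1) (m 0 0 ω) ⟨1, 0, rfl⟩ ⟨0, 1, rfl⟩ ⟨0, ω, rfl⟩
    (fun h => one_ne_zero (m_eq_one h).2.1) (fun h => one_ne_zero (m_eq_one h).2.2)
    (fun h => hω0 (m_eq_one h).2.2)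
    (fun h => one_ne_zero (m_inj h).2.1) (fun h => one_ne_zero (m_inj h).2.1) hv
    (fun h => by
      rw [m_mul] at h
      exact (one_ne_zero : (1 : F) ≠ 0) (by simpa using (m_inj h).2.1.symm))
  refine ⟨l1.1, l1.2, l2.1, l2.2, ?_, ?_, ?_⟩
  · set H := (A1 : Subgroup L).comap σ
    set K := (A2 : Subgroup L).comap σ
    apply le_antisymm
    · intro x hx
      refine ⟨⟨x, mem_sup_left hx.1⟩, ?_, rfl⟩
      have hle : H ⊔ K ≤ centralizer {x} := sup_le
        (fun y hy => mem_centralizer_singleton_iff.2 (l1.1 y x hy hx.1).eq)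
        (fun y hy => mem_centralizer_singleton_iff.2 (l2.1 y x hy hx.2).eq)
      exact mem_center_iff.2 fun y => Subtype.ext (mem_centralizer_singleton_iff.1 (hle y.2))
    · rintro _ ⟨⟨x, hx⟩, hxc, rfl⟩
      have hU : H ⊔ K ≤ U.comap σ := sup_le (comap_mono A1_le) (comap_mono A2_le)
      obtain ⟨a, b, c, habc⟩ := hU hx
      have key : ∀ y, y ∈ H ⊔ K → σ y * σ x = σ x * σ y := fun y hy => by
        rw [← map_mul, ← map_mul]
        exact congrArg σ (congrArg Subtype.val (mem_center_iff.1 hxc ⟨y, hy⟩))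
      obtain ⟨y1, hy1⟩ := hσ (m 1 0 0)
      obtain ⟨y2, hy2⟩ := hσ (m 0 1 0)
      have k1 := key y1 (mem_sup_left (show σ y1 ∈ A1 from ⟨1, 0, hy1.symm⟩))
      have k2 := key y2 (mem_sup_right (show σ y2 ∈ A2 from ⟨1, 0, hy2.symm⟩))
      rw [hy1, ← habc, m_mul, m_mul] at k1
      rw [hy2, ← habc, m_mul, m_mul] at k2
      have hb : b = 0 := by simpa using (m_inj k1).2.2
      have ha : a = 0 := by simpa using (m_inj k2).2.2
      subst ha hb
      exact ⟨⟨0, c, habc⟩, ⟨0, c, habc⟩⟩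
  · obtain ⟨y1, hy1⟩ := hσ (m 0 1 0)
    obtain ⟨y2, hy2⟩ := hσ (m 0 ω 0)
    have q1 : σ y1 ∈ (A2 : Subgroup L) := ⟨1, 0, hy1.symm⟩
    have q2 : σ y2 ∈ (A2 : Subgroup L) := ⟨ω, 0, hy2.symm⟩
    obtain ⟨W, w1, w2, hW⟩ := exists_fours (l2.1 _ _ q1 q2) (l2.2 _ q1) (l2.2 _ q2)
    refine split_of (psl_two hF) σ hσ A1 U (odd_index_U hF) A1_le U_le_normalizer.1 l1.1 l1.2 W ?_ ?_ ?_
      (π.comp lev1) (normalizer_A1 hF).1 (normalizer_A1 hF).2.1 (normalizer_A1 hF).2.2
    · intro x hx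
      rcases hW x hx with rfl | rfl | rfl | rfl
      · exact one_mem _
      · exact A2_le q1
      · exact A2_le q2
      · exact mul_mem (s := U.comap σ) (A2_le q1) (A2_le q2)
    · rw [eq_bot_iff]
      rintro x ⟨hx, hxA⟩
      obtain ⟨a, c, hac⟩ := hxA
      rcases hW x hx with rfl | rfl | rfl | rfl
      · exact one_mem _
      · rw [hy1] at hac; exact absurd (m_inj hac).2.1.symm one_ne_zero
      · rw [hy2] at hac; exact absurd (m_inj hac).2.1.symm hω0
      · rw [map_mul, hy1, hy2, m_mul] at hac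
        exact absurd (m_inj hac).2.1.symm (fun h => hω1 (by linear_combination h - h2 1))
    · refine le_antisymm (sup_le (comap_mono A1_le) (fun x hx => ?_)) fun q hq => ?_
      · rcases hW x hx with rfl | rfl | rfl | rfl
        · exact one_mem _
        · exact A2_le q1
        · exact A2_le q2
        · exact mul_mem (s := U.comap σ) (A2_le q1) (A2_le q2)
      obtain ⟨a, b, c, habc⟩ := hq
      obtain ⟨w, hw, hwb⟩ : ∃ w ∈ W, σ w = m 0 b 0 := by
        rcases hall b with rfl | rfl | rfl | rfl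
        · exact ⟨1, one_mem _, by rw [map_one, m_zero]⟩
        · exact ⟨y1, w1, hy1⟩
        · exact ⟨y2, w2, hy2⟩
        · exact ⟨y1 * y2, mul_mem w1 w2, by rw [map_mul, hy1, hy2, m_mul]; simp⟩
      have hin : q * w⁻¹ ∈ (A1 : Subgroup L).comap σ := ⟨a, c + a * b, by
        rw [map_mul, map_inv, hwb, ← habc, eq_mul_inv_iff_mul_eq, m_mul]
        congr 1 <;> simp
        linear_combination h2 (a * b)⟩
      have := mul_mem (mem_sup_left hin : q * w⁻¹ ∈ (A1 : Subgroup L).comap σ ⊔ W) (mem_sup_right hw)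
      rwa [inv_mul_cancel_right] at this
  · obtain ⟨y1, hy1⟩ := hσ (m 1 0 0)
    obtain ⟨y2, hy2⟩ := hσ (m ω 0 0)
    have q1 : σ y1 ∈ (A1 : Subgroup L) := ⟨1, 0, hy1.symm⟩
    have q2 : σ y2 ∈ (A1 : Subgroup L) := ⟨ω, 0, hy2.symm⟩
    obtain ⟨W, w1, w2, hW⟩ := exists_fours (l1.1 _ _ q1 q2) (l1.2 _ q1) (l1.2 _ q2)
    refine split_of (psl_two hF) σ hσ A2 U (odd_index_U hF) A2_le U_le_normalizer.2 l2.1 l2.2 W ?_ ?_ ?_
      (π.comp lev2) (normalizer_A2 hF).1 (normalizer_A2 hF).2.1 (normalizer_A2 hF).2.2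
    · intro x hx
      rcases hW x hx with rfl | rfl | rfl | rfl
      · exact one_mem _
      · exact A1_le q1
      · exact A1_le q2
      · exact mul_mem (s := U.comap σ) (A1_le q1) (A1_le q2)
    · rw [eq_bot_iff]
      rintro x ⟨hx, hxA⟩
      obtain ⟨b, c, hbc⟩ := hxA
      rcases hW x hx with rfl | rfl | rfl | rfl
      · exact one_mem _
      · rw [hy1] at hbc; exact absurd (m_inj hbc).1.symm one_ne_zero
      · rw [hy2] at hbc; exact absurd (m_inj hbc).1.symm hω0
      · rw [map_mul, hy1, hy2, m_mul] at hbc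
        exact absurd (m_inj hbc).1.symm (fun h => hω1 (by linear_combination h - h2 1))
    · refine le_antisymm (sup_le (comap_mono A2_le) (fun x hx => ?_)) fun q hq => ?_
      · rcases hW x hx with rfl | rfl | rfl | rfl
        · exact one_mem _
        · exact A1_le q1
        · exact A1_le q2
        · exact mul_mem (s := U.comap σ) (A1_le q1) (A1_le q2)
      obtain ⟨a, b, c, habc⟩ := hq
      obtain ⟨w, hw, hwa⟩ : ∃ w ∈ W, σ w = m a 0 0 := by
        rcases hall a with rfl | rfl | rfl | rfl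
        · exact ⟨1, one_mem _, by rw [map_one, m_zero]⟩
        · exact ⟨y1, w1, hy1⟩
        · exact ⟨y2, w2, hy2⟩
        · exact ⟨y1 * y2, mul_mem w1 w2, by rw [map_mul, hy1, hy2, m_mul]; simp⟩
      have hin : q * w⁻¹ ∈ (A2 : Subgroup L).comap σ := ⟨b, c, by
        rw [map_mul, map_inv, hwa, ← habc, eq_mul_inv_iff_mul_eq, m_mul]
        congr 1 <;> simp⟩
      have := mul_mem (mem_sup_left hin : q * w⁻¹ ∈ (A2 : Subgroup L).comap σ ⊔ W) (mem_sup_right hw)
      rwa [inv_mul_cancel_right] at this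

theorem eq_A1_or_A2 (hF : Fintype.card F = 4) [Finite L] (B : Subgroup L) (hBU : B ≤ U)
    (hsq : ∀ x ∈ B, x * x = 1) (hB : Nat.card B = 16) : B = A1 ∨ B = A2 := by
  classical
  have hcard : Nat.card (A1 : Subgroup L) = 16 ∧ Nat.card (A2 : Subgroup L) = 16 := by
    constructor
    · rw [← Nat.card_congr (Equiv.ofBijective (fun p : F × F => (⟨m p.1 0 p.2, _, _, rfl⟩ : (A1 : Subgroup L)))
        ⟨fun p q h => Prod.ext (m_inj (congrArg Subtype.val h)).1 (m_inj (congrArg Subtype.val h)).2.2,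
          fun ⟨x, a, c, h⟩ => ⟨(a, c), Subtype.ext h⟩⟩), Nat.card_prod, Nat.card_eq_fintype_card, hF]
    · rw [← Nat.card_congr (Equiv.ofBijective (fun p : F × F => (⟨m 0 p.1 p.2, _, _, rfl⟩ : (A2 : Subgroup L)))
        ⟨fun p q h => Prod.ext (m_inj (congrArg Subtype.val h)).2.1 (m_inj (congrArg Subtype.val h)).2.2,
          fun ⟨x, b, c, h⟩ => ⟨(b, c), Subtype.ext h⟩⟩), Nat.card_prod, Nat.card_eq_fintype_card, hF]
  have hzero : ∀ {a b c : F}, (m a b c : L) ∈ B → a = 0 ∨ b = 0 := by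
    intro a b c h
    have := charP_two hF
    have h1 := hsq _ h
    rw [m_mul, CharTwo.add_self_eq_zero, CharTwo.add_self_eq_zero, CharTwo.add_self_eq_zero, zero_add] at h1
    exact mul_eq_zero.1 (m_eq_one h1).2.2
  by_cases hall : ∀ {a b c : F}, (m a b c : L) ∈ B → b = 0
  · left
    refine eq_of_le_of_card_ge (fun x hx => ?_) (by rw [hB, hcard.1])
    obtain ⟨a, b, c, rfl⟩ := hBU hx
    exact ⟨a, c, by rw [hall hx]⟩
  · right
    push Not at hall
    obtain ⟨a₀, b₀, c₀, hm, hb₀⟩ := hall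
    have ha₀ := (hzero hm).resolve_right hb₀
    refine eq_of_le_of_card_ge (fun x hx => ?_) (by rw [hB, hcard.2])
    obtain ⟨a, b, c, rfl⟩ := hBU hx
    refine ⟨b, c, ?_⟩
    suffices a = 0 by rw [this]
    rcases hzero hx with h | h
    · exact h
    subst h
    have := mul_mem hx hm
    rw [m_mul, ha₀] at this
    rcases hzero this with h | h
    · simpa using h
    · exact absurd (by simpa using h) hb₀

end Cfsg.Agent.H63.L34Split
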