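import Cfsg.Agent.Golay.M24

/-!
A Sylow 2-subgroup of the Mathieu group of degree 24 as tables, with kernel checked facts about
its action on a normal subgroup of order 128.
-/

set_option autoImplicit false

namespace Cfsg.Agent.H63.M24Sylow

open Cfsg.Agent.Golay

/-- table of the central involution -/
def zT : ℕ := 485787305802307168743714493330196976

/-- generators of the preimage of the elementary subgroup of order 64 -/
def aGens : List ℕ := [485787305802307168743714493330196976, 479864406656447012501278885249354784, 468914239567733455376052776505810976, 481893201671831561116867175234442720, 610516499172843492401009704464123905, 901816265134978298962315672855611972, 652471934801464458920611551628069222]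

/-- two further generators of the Sylow subgroup -/
def sGens : List ℕ := [593770854087813340775841408049317920, 170604907884540392468656035130020896]

/-- coset representatives with their inverses -/
def reps : List (ℕ × ℕ) := [(984818244535754528103549039458486304, 984818244535754528103549039458486304), (593770854087813340775841408049317920, 593770854087813340775841408049317920), (170604907884540392468656035130020896, 841687255792456574904364506782843936), (758941849372984594306086291640718368, 758941849372984594306086291640718368), (503224534970352527470613271760552992, 503224534970352527470613271760552992), (261769943243923472720289865174109216, 261769943243923472720289865174109216), (841687255792456574904364506782843936, 170604907884540392468656035130020896), (486022395587399762027706824045906976, 486022395587399762027706824045906976)]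

/-- the representatives as words in the two further generators -/
def repWords : List (List ℕ) := [[], [593770854087813340775841408049317920], [170604907884540392468656035130020896], [170604907884540392468656035130020896, 593770854087813340775841408049317920], [593770854087813340775841408049317920, 170604907884540392468656035130020896], [170604907884540392468656035130020896, 170604907884540392468656035130020896], [593770854087813340775841408049317920, 170604907884540392468656035130020896, 593770854087813340775841408049317920], [170604907884540392468656035130020896, 170604907884540392468656035130020896, 593770854087813340775841408049317920]]

/-- identity table -/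
def one : ℕ := idTblVal

/-- all products of subsets of a list -/
def spanT : List ℕ → List ℕ
  | [] => [one]
  | g :: gs => spanT gs ++ (spanT gs).map (fun a => tblMul g a)

/-- the 128 elements -/
def aList : List ℕ := spanT aGens

/-- product of a word -/
def wordT : List ℕ → ℕ
  | [] => one
  | g :: gs => tblMul g (wordT gs)

/-- two tables commute up to the central involution -/
def commZ (a b : ℕ) : Bool :=
  tblMul a b == tblMul b a || tblMul a b == tblMul (tblMul b a) zT

lemma check_valid : ((one :: zT :: aGens ++ sGens ++ reps.map (·.1) ++ reps.map (·.2) ++ aList).all
    inM24 && tblMul one one == one && aGens.headD 0 == zT) = true := by decide +kernel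

lemma check_closed : (aGens.all fun g => aList.all fun a => aList.contains (tblMul g a)) = true := by
  decide +kernel

lemma check_nodup : aList.Nodup ∧ aList.length = 128 := by decide +kernel

lemma check_reps : (repWords.map wordT == reps.map (·.1) &&
    reps.all fun r => tblMul r.1 r.2 == one && tblMul r.2 r.1 == one) = true := by decide +kernel

lemma check_steps : (reps.all fun r =>
    (sGens.all fun s => reps.any fun r' => aList.contains (tblMul r'.2 (tblMul s r.1))) &&
    (aGens.all fun g => aList.contains (tblMul r.2 (tblMul g r.1)))) = true := by decide +kernel

lemma check_cosets : ((List.range 8).all fun i => (List.range 8).all fun j => i == j ||
    !aList.contains (tblMul (reps.getD i (0, 0)).2 (reps.getD j (0, 0)).1)) = true := by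
  decide +kernel

lemma check_central : ((aGens ++ sGens).all (fun g => tblMul zT g == tblMul g zT) &&
    aGens.all (fun g => aGens.all fun h => commZ g h) &&
    (List.range 8).all (fun i => i == 0 || aGens.any fun g => !commZ g (reps.getD i (0, 0)).1) &&
    aList.all (fun a => a == one || a == tblMul zT one ||
      (aGens ++ sGens).any fun g => tblMul a g != tblMul g a) &&
    aGens.all (fun g => aList.contains g) &&
    aGens.all (fun g => tblMul g g == one || tblMul g g == tblMul zT one)) = true := by
  decide +kernel

/-- elements of the 128 commuting with a representative up to the central involution -/
def fixL (i : ℕ) : List ℕ := aList.filter fun a => commZ a (reps.getD i (0, 0)).1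

lemma check_fix : ((List.range 8).all fun i => i == 0 ||
    ((fixL i).length ≤ 32 : Bool)) = true := by decide +kernel

lemma check_pairs : ((List.range 8).all fun i => (List.range 8).all fun j => i == 0 || j == 0 || i == j ||
    (((fixL i).filter fun a => commZ a (reps.getD j (0, 0)).1).length ≤ 16 : Bool)) = true := by
  decide +kernel

lemma check_all : ((aList.filter fun a => sGens.all fun s => commZ a s).length ≤ 8 : Bool) = true := by
  decide +kernel

end Cfsg.Agent.H63.M24Sylow
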