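import Cfsg.Agent.H63.M24SylowData

/-!
The tables of `M24SylowData` as a subgroup of order 1024 of the Mathieu group of degree 24.
-/

set_option autoImplicit false

namespace Cfsg.Agent.H63.M24Sylow

open Cfsg.Agent.Golay Cfsg

/-- permutations of the 24 points -/
abbrev G := Equiv.Perm GolayPt

lemma one_spec : validT one = true ∧ mkPerm one = (1 : G) := by
  have h : tblEq one idTbl = true := by decide +kernel
  have hv : validT one = true := by decide +kernel
  exact ⟨hv, (mkPerm_eq_of_tblEq hv idTbl_spec.1 h).trans idTbl_spec.2⟩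

lemma table_unique {a b : ℕ} (ha : validT a = true) (hb : validT b = true)
    (h : mkPerm a = mkPerm b) : tblMul one a = tblMul one b := by
  have : tblMul one a = mkTbl 24 (fun i => app one (app a i)) := rfl
  have h2 : ∀ i < 24, app a i = app b i := fun i hi => by
    rw [← idx_pt i hi, ← idx_mkPerm ha, ← idx_mkPerm hb, h]
  suffices ∀ n ≤ 24, ∀ f g : ℕ → ℕ, (∀ i < n, f i = g i) → mkTbl n f = mkTbl n g from
    this 24 le_rfl _ _ fun i hi => by rw [h2 i hi]
  intro n hn
  induction n with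
  | zero => intros; rfl
  | succ n ih =>
    intro f g hfg
    rw [mkTbl, mkTbl, hfg 0 (Nat.succ_pos n),
      ih (by omega) _ _ fun i hi => hfg (i + 1) (by omega)]

lemma mul_unique {a b c d : ℕ} (ha : validT a = true) (hb : validT b = true)
    (hc : validT c = true) (hd : validT d = true)
    (h : mkPerm a * mkPerm b = mkPerm c * mkPerm d) : tblMul a b = tblMul c d := by
  have key : ∀ n ≤ 24, ∀ f g : ℕ → ℕ, (∀ i < n, f i = g i) → mkTbl n f = mkTbl n g := by
    intro n hn
    induction n with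
    | zero => intros; rfl
    | succ n ih =>
      intro f g hfg
      rw [mkTbl, mkTbl, hfg 0 (Nat.succ_pos n),
        ih (by omega) _ _ fun i hi => hfg (i + 1) (by omega)]
  refine key 24 le_rfl _ _ fun i hi => ?_
  have := congrArg (fun σ : G => idx (σ (pt i))) h
  simp only [Equiv.Perm.mul_apply] at this
  rw [idx_mkPerm ha, idx_mkPerm hb, idx_mkPerm hc, idx_mkPerm hd, idx_pt i hi] at this
  exact this

lemma valid_facts : validT one = true ∧ validT zT = true ∧ (∀ g ∈ aGens, validT g = true) ∧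
    (∀ g ∈ sGens, validT g = true) ∧ (∀ r ∈ reps, validT r.1 = true ∧ validT r.2 = true) ∧
    ∀ a ∈ aList, validT a = true := by
  have h := check_valid
  simp only [Bool.and_eq_true, List.all_eq_true, List.mem_append, List.mem_cons, List.mem_map] at h
  refine ⟨one_spec.1, validT_of_inM24 (h.1.1 zT ?_), fun g hg => validT_of_inM24 (h.1.1 g ?_),
    fun g hg => validT_of_inM24 (h.1.1 g ?_),
    fun r hr => ⟨validT_of_inM24 (h.1.1 r.1 ?_), validT_of_inM24 (h.1.1 r.2 ?_)⟩,
    fun a ha => validT_of_inM24 (h.1.1 a ?_)⟩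
  all_goals aesop

/-- image of the generators of the normal subgroup of order 128 -/
def aSet : Set G := {x | ∃ g ∈ aGens, mkPerm g = x}

/-- images of the two further generators -/
def sSet : Set G := {x | ∃ g ∈ sGens, mkPerm g = x}

/-- the normal subgroup of order 128 -/
def At : Subgroup G := Subgroup.closure aSet

/-- the Sylow subgroup -/
def P0 : Subgroup G := Subgroup.closure (aSet ∪ sSet)

/-- representative number `i` -/
noncomputable def rp (i : ℕ) : G := mkPerm (reps.getD i (0, 0)).1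

lemma At_le : At ≤ P0 := Subgroup.closure_mono Set.subset_union_left

lemma mem_span : ∀ (l : List ℕ), (∀ g ∈ l, validT g = true) → ∀ a ∈ spanT l,
    validT a = true ∧ mkPerm a ∈ Subgroup.closure {x : G | ∃ g ∈ l, mkPerm g = x}
  | [], _, a, ha => by
    rw [spanT, List.mem_singleton] at ha
    subst ha
    exact ⟨one_spec.1, one_spec.2 ▸ one_mem _⟩
  | g :: gs, hl, a, ha => by
    have hmono : Subgroup.closure {x : G | ∃ k ∈ gs, mkPerm k = x} ≤
        Subgroup.closure {x : G | ∃ k ∈ g :: gs, mkPerm k = x} :=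
      Subgroup.closure_mono fun x ⟨k, hk, hx⟩ => ⟨k, List.mem_cons_of_mem _ hk, hx⟩
    rw [spanT, List.mem_append, List.mem_map] at ha
    rcases ha with ha | ⟨b, hb, rfl⟩
    · obtain ⟨h1, h2⟩ := mem_span gs (fun k hk => hl k (List.mem_cons_of_mem _ hk)) a ha
      exact ⟨h1, hmono h2⟩
    · obtain ⟨h1, h2⟩ := mem_span gs (fun k hk => hl k (List.mem_cons_of_mem _ hk)) b hb
      have hs := tblMul_spec (hl g List.mem_cons_self) h1
      exact ⟨hs.1, hs.2 ▸ mul_mem (Subgroup.subset_closure ⟨g, List.mem_cons_self, rfl⟩) (hmono h2)⟩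

lemma mem_At_iff {x : G} : x ∈ At ↔ ∃ a ∈ aList, mkPerm a = x := by
  obtain ⟨vo, vz, va, vs, vr, vl⟩ := valid_facts
  constructor
  · intro hx
    have hone : one ∈ aList := by decide +kernel
    have hx' : x ∈ Submonoid.closure aSet := by
      rw [← Subgroup.closure_toSubmonoid_of_finite]; exact hx
    induction hx' using Submonoid.closure_induction_left with
    | one => exact ⟨one, hone, one_spec.2⟩
    | mul_left g hg y hy ih =>
      obtain ⟨g, hgg, rfl⟩ := hg
      have hy' : y ∈ At := by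
        rw [At, ← Subgroup.mem_toSubmonoid, Subgroup.closure_toSubmonoid_of_finite]; exact hy
      obtain ⟨a, ha, rfl⟩ := ih hy'
      have h := check_closed
      simp only [List.all_eq_true, List.contains_iff_mem] at h
      exact ⟨_, h g hgg a ha, (tblMul_spec (va g hgg) (vl a ha)).2⟩
  · rintro ⟨a, ha, rfl⟩
    exact (mem_span aGens va a ha).2

lemma canon {a : ℕ} (ha : a ∈ aList) : tblMul one a = a := by
  have h : (aList.all fun a => tblMul one a == a) = true := by decide +kernel
  exact eq_of_beq (List.all_eq_true.1 h a ha)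

lemma mkPerm_inj_aList {a b : ℕ} (ha : a ∈ aList) (hb : b ∈ aList) (h : mkPerm a = mkPerm b) :
    a = b := by
  obtain ⟨vo, vz, va, vs, vr, vl⟩ := valid_facts
  rw [← canon ha, ← canon hb, table_unique (vl a ha) (vl b hb) h]

lemma card_At : Nat.card At = 128 := by
  classical
  have hf : Function.Bijective (fun a : {a // a ∈ aList} => (⟨mkPerm a.1, mem_At_iff.2 ⟨a.1, a.2, rfl⟩⟩ : At)) := by
    refine ⟨fun a b h => Subtype.ext (mkPerm_inj_aList a.2 b.2 (congrArg Subtype.val h)), fun x => ?_⟩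
    obtain ⟨a, ha, hax⟩ := mem_At_iff.1 x.2
    exact ⟨⟨a, ha⟩, Subtype.ext hax⟩
  rw [← Nat.card_congr (Equiv.ofBijective _ hf),
    Nat.card_congr (Equiv.subtypeEquivRight fun a => (List.mem_toFinset (a := a) (l := aList)).symm),
    Nat.card_eq_finsetCard, List.toFinset_card_of_nodup check_nodup.1, check_nodup.2]

lemma rep_mem {i : ℕ} (hi : i < 8) : reps.getD i (0, 0) ∈ reps := by
  have hlen : reps.length = 8 := rfl
  rw [List.getD_eq_getElem _ _ (hlen ▸ hi)]
  exact List.getElem_mem _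

lemma rep_inv {r : ℕ × ℕ} (hr : r ∈ reps) : mkPerm r.2 = (mkPerm r.1 : G)⁻¹ := by
  obtain ⟨vo, vz, va, vs, vr, vl⟩ := valid_facts
  have h := check_reps
  simp only [Bool.and_eq_true, List.all_eq_true, beq_iff_eq] at h
  refine eq_inv_of_mul_eq_one_left ?_
  rw [← (tblMul_spec (vr r hr).2 (vr r hr).1).2, (h.2 r hr).2, one_spec.2]

lemma rep_P0 {r : ℕ × ℕ} (hr : r ∈ reps) : mkPerm r.1 ∈ P0 := by
  obtain ⟨vo, vz, va, vs, vr, vl⟩ := valid_facts
  have h := check_reps
  simp only [Bool.and_eq_true, beq_iff_eq] at h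
  have hm : r.1 ∈ repWords.map wordT := h.1 ▸ List.mem_map_of_mem hr
  obtain ⟨w, hw, hwr⟩ := List.mem_map.1 hm
  have hws : ∀ g ∈ w, g ∈ sGens := by
    have hc : (repWords.all fun w => w.all fun g => sGens.contains g) = true := by decide +kernel
    simp only [List.all_eq_true, List.contains_iff_mem] at hc
    exact hc w hw
  have key : ∀ w : List ℕ, (∀ g ∈ w, g ∈ sGens) → validT (wordT w) = true ∧ mkPerm (wordT w) ∈ P0 := by
    intro w
    induction w with
    | nil => exact fun _ => ⟨one_spec.1, one_spec.2 ▸ one_mem _⟩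
    | cons g gs ih =>
      intro hg
      obtain ⟨h1, h2⟩ := ih fun k hk => hg k (List.mem_cons_of_mem _ hk)
      have hs := tblMul_spec (vs g (hg g List.mem_cons_self)) h1
      exact ⟨hs.1, hs.2 ▸ mul_mem
        (Subgroup.subset_closure (Or.inr ⟨g, hg g List.mem_cons_self, rfl⟩)) h2⟩
  exact hwr ▸ (key w hws).2

lemma rep_normalizes {r : ℕ × ℕ} (hr : r ∈ reps) {a : G} (ha : a ∈ At) :
    (mkPerm r.1)⁻¹ * a * mkPerm r.1 ∈ At := by
  obtain ⟨vo, vz, va, vs, vr, vl⟩ := valid_facts
  have h := check_steps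
  simp only [Bool.and_eq_true, List.all_eq_true, List.contains_iff_mem] at h
  unfold At at ha
  induction ha using Subgroup.closure_induction with
  | mem x hx =>
    obtain ⟨g, hg, rfl⟩ := hx
    have h1 := tblMul_spec (va g hg) (vr r hr).1
    have h2 := tblMul_spec (vr r hr).2 h1.1
    rw [← rep_inv hr, mul_assoc, ← h1.2, ← h2.2]
    exact mem_At_iff.2 ⟨_, (h r hr).2 g hg, rfl⟩
  | one => simp
  | mul x y _ _ hx hy =>
    have : (mkPerm r.1)⁻¹ * (x * y) * mkPerm r.1 =
        ((mkPerm r.1)⁻¹ * x * mkPerm r.1) * ((mkPerm r.1)⁻¹ * y * mkPerm r.1) := by group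
    rw [this]; exact mul_mem hx hy
  | inv x _ hx =>
    have : (mkPerm r.1)⁻¹ * x⁻¹ * mkPerm r.1 = ((mkPerm r.1)⁻¹ * x * mkPerm r.1)⁻¹ := by group
    rw [this]; exact inv_mem hx

lemma mem_P0_iff {x : G} : x ∈ P0 ↔ ∃ i < 8, ∃ a ∈ At, x = rp i * a := by
  obtain ⟨vo, vz, va, vs, vr, vl⟩ := valid_facts
  constructor
  · intro hx
    have hx' : x ∈ Submonoid.closure (aSet ∪ sSet) := by
      rw [← Subgroup.closure_toSubmonoid_of_finite]; exact hx
    induction hx' using Submonoid.closure_induction_left with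
    | one =>
      refine ⟨0, by norm_num, 1, one_mem _, ?_⟩
      have h : (reps.getD 0 (0, 0)).1 = one := rfl
      rw [mul_one, rp, h, one_spec.2]
    | mul_left g hg y hy ih =>
      have hy' : y ∈ P0 := by
        rw [P0, ← Subgroup.mem_toSubmonoid, Subgroup.closure_toSubmonoid_of_finite]; exact hy
      obtain ⟨i, hi, a, ha, rfl⟩ := ih hy'
      rcases hg with hg | hg
      · refine ⟨i, hi, (rp i)⁻¹ * g * rp i * a,
          mul_mem (rep_normalizes (rep_mem hi) (Subgroup.subset_closure hg)) ha, ?_⟩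
        group
      · obtain ⟨s, hs, rfl⟩ := hg
        have h := check_steps
        simp only [Bool.and_eq_true, List.all_eq_true, List.any_eq_true, List.contains_iff_mem] at h
        obtain ⟨r', hr', hmem⟩ := (h _ (rep_mem hi)).1 s hs
        obtain ⟨j, hj, rfl⟩ : ∃ j < 8, reps.getD j (0, 0) = r' := by
          obtain ⟨j, hj, hje⟩ := List.getElem_of_mem hr'
          exact ⟨j, hj, (List.getD_eq_getElem _ _ hj).trans hje⟩
        have h1 := tblMul_spec (vs s hs) (vr _ (rep_mem hi)).1
        have h2 := tblMul_spec (vr _ (rep_mem hj)).2 h1.1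
        refine ⟨j, hj, (rp j)⁻¹ * (mkPerm s * rp i) * a, mul_mem ?_ ha, by group⟩
        rw [rp, rp, ← rep_inv (rep_mem hj), ← h1.2, ← h2.2]
        exact mem_At_iff.2 ⟨_, hmem, rfl⟩
  · rintro ⟨i, hi, a, ha, rfl⟩
    exact mul_mem (rep_P0 (rep_mem hi)) (At_le ha)

lemma rep_coset {i j : ℕ} (hi : i < 8) (hj : j < 8) (h : (rp i)⁻¹ * rp j ∈ At) : i = j := by
  obtain ⟨vo, vz, va, vs, vr, vl⟩ := valid_facts
  by_contra hne
  have hc := check_cosets
  simp only [List.all_eq_true, List.mem_range, Bool.or_eq_true, beq_iff_eq, Bool.not_eq_true',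
    List.contains_eq_mem, decide_eq_false_iff_not] at hc
  rcases hc i hi j hj with h1 | h1
  · exact hne h1
  apply h1
  rw [rp, rp, ← rep_inv (rep_mem hi)] at h
  obtain ⟨a, ha, hax⟩ := mem_At_iff.1 h
  have := mul_unique one_spec.1 (vl a ha) (vr _ (rep_mem hi)).2 (vr _ (rep_mem hj)).1
    (by rw [one_spec.2, one_mul, hax])
  rw [canon ha] at this
  exact this ▸ ha

lemma card_P0 : Nat.card P0 = 1024 := by
  let f : Fin 8 × At → P0 := fun p => ⟨rp p.1 * p.2, mem_P0_iff.2 ⟨p.1, p.1.2, p.2, p.2.2, rfl⟩⟩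
  have hf : Function.Bijective f := by
    constructor
    · rintro ⟨i, a⟩ ⟨j, b⟩ h
      have h' : rp i * (a : G) = rp j * b := congrArg Subtype.val h
      have hij : (i : ℕ) = j := rep_coset i.2 j.2 (by
        have : (rp i)⁻¹ * rp j = (a : G) * (b : G)⁻¹ := by
          rw [inv_mul_eq_iff_eq_mul, ← mul_assoc, h', mul_inv_cancel_right]
        rw [this]; exact mul_mem a.2 (inv_mem b.2))
      obtain rfl := Fin.ext hij
      exact Prod.ext rfl (Subtype.ext (mul_left_cancel h'))
    · rintro ⟨x, hx⟩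
      obtain ⟨i, hi, a, ha, rfl⟩ := mem_P0_iff.1 hx
      exact ⟨(⟨i, hi⟩, ⟨a, ha⟩), rfl⟩
  rw [← Nat.card_congr (Equiv.ofBijective f hf), Nat.card_prod, card_At, Nat.card_eq_fintype_card,
    Fintype.card_fin]

lemma P0_le : P0 ≤ M24 := by
  rw [P0, Subgroup.closure_le]
  have h := check_valid
  simp only [Bool.and_eq_true, List.all_eq_true, List.mem_append, List.mem_cons, List.mem_map] at h
  rintro x (⟨g, hg, rfl⟩ | ⟨g, hg, rfl⟩) <;> refine mem_M24_of_inM24 (h.1.1 g ?_) <;> aesop

end Cfsg.Agent.H63.M24Sylow
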