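import Mathlib

/-!
Groups of order 320 with a normal subgroup `D` of order 64 and an element `t` of order 5 whose fixed
points on `D` are a central four-group `Z` containing all commutators: uniqueness up to isomorphism.
-/

set_option autoImplicit false

namespace Cfsg.Agent.H63.ThreeTwenty

open Subgroup

variable {G : Type*} [Group G] [Finite G]

/-- the standing data -/
structure Pre (G : Type*) [Group G] [Finite G] where
  D : Subgroup G
  Z : Subgroup G
  t : G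
  card : Nat.card G = 320
  normal : D.Normal
  cardD : Nat.card D = 64
  ht : t ^ 5 = 1
  htD : t ∉ D
  hZD : Z ≤ D
  cardZ : Nat.card Z = 4
  zsq : ∀ z ∈ Z, z * z = 1
  zcomm : ∀ z ∈ Z, ∀ d ∈ D, z * d = d * z
  ztcomm : ∀ z ∈ Z, t * z * t⁻¹ = z
  fixed : ∀ d ∈ D, t * d * t⁻¹ = d → d ∈ Z

namespace Pre

variable (P : Pre G)

/-- conjugation by `t` -/
def τ (g : G) : G := P.t * g * P.t⁻¹

theorem τ_mul (a b : G) : P.τ (a * b) = P.τ a * P.τ b := by unfold τ; group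

theorem τ_inv (a : G) : P.τ a⁻¹ = (P.τ a)⁻¹ := by unfold τ; group

theorem τ_mem {d : G} (hd : d ∈ P.D) : P.τ d ∈ P.D := P.normal.conj_mem d hd P.t

theorem τ_five (g : G) : P.τ (P.τ (P.τ (P.τ (P.τ g)))) = g := by
  have h : P.τ (P.τ (P.τ (P.τ (P.τ g)))) = P.t ^ 5 * g * (P.t ^ 5)⁻¹ := by
    simp only [τ, pow_succ, pow_zero, one_mul]; group
  rw [h, P.ht, one_mul, inv_one, mul_one]

theorem τ_fix {z : G} (hz : z ∈ P.Z) : P.τ z = z := P.ztcomm z hz

/-- a subgroup of `D` containing `Z` and invariant under `t` is `Z` or `D` -/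
theorem dichotomy (R : Subgroup G) (hZR : P.Z ≤ R) (hRD : R ≤ P.D) (hR : ∀ r ∈ R, P.τ r ∈ R) :
    R = P.Z ∨ R = P.D := by
  classical
  haveI := Fintype.ofFinite R
  haveI : Fact (Nat.Prime 5) := ⟨by norm_num⟩
  let e : Equiv.Perm R :=
    { toFun := fun r => ⟨P.τ r, hR _ r.2⟩
      invFun := fun r => ⟨P.τ (P.τ (P.τ (P.τ r))), hR _ (hR _ (hR _ (hR _ r.2)))⟩
      left_inv := fun r => Subtype.ext (P.τ_five r)
      right_inv := fun r => Subtype.ext (P.τ_five r) }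
  have he : e ^ 5 ^ 1 = 1 := by
    ext r
    show P.τ (P.τ (P.τ (P.τ (P.τ r)))) = r
    exact P.τ_five r
  have h := Equiv.Perm.card_compl_support_modEq he
  have hs : e.supportᶜ.card = Nat.card P.Z := by
    rw [← Nat.card_eq_finsetCard]
    refine Nat.card_congr ⟨fun x => ⟨(x.1 : G), ?_⟩, fun z => ⟨⟨z, hZR z.2⟩, ?_⟩, fun x => rfl, fun z => rfl⟩
    · have hx := Finset.mem_compl.1 x.2
      rw [Equiv.Perm.mem_support, not_not] at hx
      exact P.fixed _ (hRD x.1.2) (congrArg Subtype.val hx)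
    · rw [Finset.mem_compl, Equiv.Perm.mem_support, not_not]
      exact Subtype.ext (P.τ_fix z.2)
  rw [hs, P.cardZ, ← Nat.card_eq_fintype_card] at h
  have hd := Subgroup.card_dvd_of_le hRD
  rw [P.cardD] at hd
  have h4 : 4 ≤ Nat.card R := P.cardZ ▸ Subgroup.card_le_of_le hZR
  have h2 : Nat.card R ∈ Nat.divisors 64 := Nat.mem_divisors.2 ⟨hd, by norm_num⟩
  have e2 : Nat.divisors 64 = {1, 2, 4, 8, 16, 32, 64} := by decide
  rw [e2] at h2
  simp only [Finset.mem_insert, Finset.mem_singleton] at h2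
  unfold Nat.ModEq at h
  rcases h2 with h2 | h2 | h2 | h2 | h2 | h2 | h2 <;> rw [h2] at h h4 <;>
    first | omega | norm_num at h | skip
  · exact Or.inl (Subgroup.eq_of_le_of_card_ge hZR (by rw [h2, P.cardZ])).symm
  · exact Or.inr (Subgroup.eq_of_le_of_card_ge hRD (by rw [h2, P.cardD]))

/-- commutator -/
def c (a b : G) : G := a * b * a⁻¹ * b⁻¹

theorem τ_c (a b : G) : P.τ (c a b) = c (P.τ a) (P.τ b) := by unfold τ c; group

/-- elements commuting with `D` up to `Z` -/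
def upper : Subgroup G where
  carrier := {a | a ∈ P.D ∧ ∀ b ∈ P.D, c a b ∈ P.Z}
  one_mem' := ⟨one_mem _, fun b _ => by simp [c]⟩
  mul_mem' := by
    rintro a a' ⟨ha, h⟩ ⟨ha', h'⟩
    refine ⟨mul_mem ha ha', fun b hb => ?_⟩
    have e : c (a * a') b = a * c a' b * a⁻¹ * c a b := by unfold c; group
    rw [e, ← P.zcomm _ (h' b hb) a ha, mul_inv_cancel_right]
    exact mul_mem (h' b hb) (h b hb)
  inv_mem' := by
    rintro a ⟨ha, h⟩
    refine ⟨inv_mem ha, fun b hb => ?_⟩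
    have e : c a⁻¹ b = a⁻¹ * (c a b)⁻¹ * a := by unfold c; group
    rw [e, mul_assoc, P.zcomm _ (inv_mem (h b hb)) a ha, ← mul_assoc, inv_mul_cancel, one_mul]
    exact inv_mem (h b hb)

theorem c_mem {a b : G} (ha : a ∈ P.D) (hb : b ∈ P.D) : c a b ∈ P.Z := by
  have hZR : P.Z ≤ P.upper := fun z hz => ⟨P.hZD hz, fun b hb => by
    have h : c z b = 1 := by unfold c; rw [P.zcomm z hz b hb]; group
    rw [h]; exact one_mem _⟩
  have hinv : ∀ r ∈ P.upper, P.τ r ∈ P.upper := by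
    rintro r ⟨hr, h⟩
    refine ⟨P.τ_mem hr, fun b hb => ?_⟩
    have hb' : P.τ (P.τ (P.τ (P.τ b))) ∈ P.D := P.τ_mem (P.τ_mem (P.τ_mem (P.τ_mem hb)))
    have := h _ hb'
    rw [← P.τ_fix this, P.τ_c, P.τ_five] at this
    exact this
  rcases P.dichotomy P.upper hZR (fun _ h => h.1) hinv with h | h
  · exfalso
    haveI : Fact (Nat.Prime 2) := ⟨Nat.prime_two⟩
    haveI := P.normal
    have hq : Nat.card (↥P.D ⧸ P.Z.subgroupOf P.D) = 16 := by
      have := (P.Z.subgroupOf P.D).card_eq_card_quotient_mul_card_subgroup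
      rw [Nat.card_congr (Subgroup.subgroupOfEquivOfLe P.hZD).toEquiv, P.cardD, P.cardZ] at this
      omega
    haveI : (P.Z.subgroupOf P.D).Normal := ⟨fun z hz g => by
      rw [Subgroup.mem_subgroupOf] at hz ⊢
      push_cast
      rw [← P.zcomm _ hz g g.2, mul_inv_cancel_right]
      exact hz⟩
    haveI : Nontrivial (↥P.D ⧸ P.Z.subgroupOf P.D) :=
      Finite.one_lt_card_iff_nontrivial.1 (by rw [hq]; norm_num)
    have hnt := (IsPGroup.of_card (n := 4) hq :
      IsPGroup 2 (↥P.D ⧸ P.Z.subgroupOf P.D)).center_nontrivial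
    obtain ⟨⟨w, hw⟩, hw1⟩ := exists_ne (1 : center (↥P.D ⧸ P.Z.subgroupOf P.D))
    obtain ⟨d, rfl⟩ := QuotientGroup.mk'_surjective _ w
    have hd : (d : G) ∈ P.upper := by
      refine ⟨d.2, fun b hb => ?_⟩
      have hh : QuotientGroup.mk' (P.Z.subgroupOf P.D) ⟨c (d : G) b,
          mul_mem (mul_mem (mul_mem d.2 hb) (inv_mem d.2)) (inv_mem hb)⟩ = 1 := by
        rw [show (⟨c (d : G) b, _⟩ : P.D) = d * ⟨b, hb⟩ * d⁻¹ * (⟨b, hb⟩ : P.D)⁻¹ from Subtype.ext rfl,
          map_mul, map_mul, map_mul, map_inv, map_inv, ← Subgroup.mem_center_iff.1 hw]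
        group
      exact Subgroup.mem_subgroupOf.1 ((QuotientGroup.eq_one_iff (N := P.Z.subgroupOf P.D) _).1 hh)
    rw [h] at hd
    exact hw1 (Subtype.ext ((QuotientGroup.eq_one_iff _).2 hd))
  · exact (h.ge ha).2 b hb

theorem c_mul_left {a a' b : G} (ha : a ∈ P.D) (ha' : a' ∈ P.D) (hb : b ∈ P.D) :
    c (a * a') b = c a b * c a' b := by
  have e : c (a * a') b = a * c a' b * a⁻¹ * c a b := by unfold c; group
  rw [e, ← P.zcomm _ (P.c_mem ha' hb) a ha, mul_inv_cancel_right,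
    P.zcomm _ (P.c_mem ha' hb) _ (P.hZD (P.c_mem ha hb))]

theorem c_symm {a b : G} (ha : a ∈ P.D) (hb : b ∈ P.D) : c b a = c a b := by
  have e : c b a = (c a b)⁻¹ := by unfold c; group
  rw [e]
  exact inv_eq_of_mul_eq_one_right (P.zsq _ (P.c_mem ha hb))

theorem sq_mem {a : G} (ha : a ∈ P.D) : a * a ∈ P.Z := by
  have hsub : ∀ x y : G, x ∈ P.D → y ∈ P.D → x * x ∈ P.Z → y * y ∈ P.Z → (x * y) * (x * y) ∈ P.Z := by
    intro x y hx hy h1 h2
    have e : (x * y) * (x * y) = x * (c y x * x) * y * y := by unfold c; group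
    have hc := P.c_mem hy hx
    rw [e, P.zcomm _ hc x hx, ← mul_assoc, mul_assoc (x * x), mul_assoc (x * x)]
    refine mul_mem h1 ?_
    rw [mul_assoc]
    exact mul_mem hc h2
  let R : Subgroup G :=
    { carrier := {r | r ∈ P.D ∧ r * r ∈ P.Z}
      one_mem' := ⟨one_mem _, by simp⟩
      mul_mem' := fun {x y} hx hy => ⟨mul_mem hx.1 hy.1, hsub x y hx.1 hy.1 hx.2 hy.2⟩
      inv_mem' := fun {x} hx => ⟨inv_mem hx.1, by rw [← mul_inv_rev]; exact inv_mem hx.2⟩ }
  have hZR : P.Z ≤ R := fun z hz => ⟨P.hZD hz, mul_mem hz hz⟩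
  have hinv : ∀ r ∈ R, P.τ r ∈ R := fun r hr => ⟨P.τ_mem hr.1, by
    rw [← P.τ_mul, P.τ_fix hr.2]; exact hr.2⟩
  rcases P.dichotomy R hZR (fun _ h => h.1) hinv with h | h
  · exfalso
    haveI : Fact (Nat.Prime 2) := ⟨Nat.prime_two⟩
    obtain ⟨d, hd, hdZ⟩ : ∃ d ∈ P.D, d ∉ P.Z := by
      by_contra hh
      push Not at hh
      have := Subgroup.card_le_of_le (show P.D ≤ P.Z from hh)
      rw [P.cardD, P.cardZ] at this
      omega
    have hd2 : d * d ∈ P.D := mul_mem hd hd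
    have hd4 : (d * d) * (d * d) ∈ P.D := mul_mem hd2 hd2
    have hd8 : ∀ x ∈ P.D, x ∉ P.Z → x * x ∉ P.Z := fun x hx hxZ hh => hxZ (h.le ⟨hx, hh⟩)
    have key : ∀ k : ℕ, d ^ (2 ^ k) ∉ P.Z := by
      intro k
      induction k with
      | zero => simpa using hdZ
      | succ k ih =>
        rw [pow_succ, pow_mul, pow_two]
        exact hd8 _ (pow_mem hd _) ih
    apply key 6
    have : d ^ 64 = 1 := by
      rw [← P.cardD]
      exact congrArg Subtype.val (pow_card_eq_one' (x := (⟨d, hd⟩ : P.D)))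
    rw [show 2 ^ 6 = 64 from rfl, this]
    exact one_mem _
  · exact (h.ge ha).2

theorem exists_gen : ∃ u ∈ P.D, u ∉ P.Z ∧
    P.τ (P.τ (P.τ (P.τ u))) = u * P.τ u * P.τ (P.τ u) * P.τ (P.τ (P.τ u)) := by
  obtain ⟨d, hd, hdZ⟩ : ∃ d ∈ P.D, d ∉ P.Z := by
    by_contra hh
    push Not at hh
    have := Subgroup.card_le_of_le (show P.D ≤ P.Z from hh)
    rw [P.cardD, P.cardZ] at this
    omega
  set d1 := P.τ d
  set d2 := P.τ d1
  set d3 := P.τ d2
  set d4 := P.τ d3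
  have h1 : d1 ∈ P.D := P.τ_mem hd
  have h2 : d2 ∈ P.D := P.τ_mem h1
  have h3 : d3 ∈ P.D := P.τ_mem h2
  have h4 : d4 ∈ P.D := P.τ_mem h3
  set p := d * d1 * d2 * d3 with hp
  have hpD : p ∈ P.D := mul_mem (mul_mem (mul_mem hd h1) h2) h3
  have hP5 : p * d4 ∈ P.Z := by
    have e : P.τ (p * d4) = d1 * d2 * d3 * d4 * d := by
      rw [hp, P.τ_mul, P.τ_mul, P.τ_mul, P.τ_mul]
      show d1 * d2 * d3 * d4 * P.τ d4 = _
      rw [show P.τ d4 = d from P.τ_five d]
    have hk := P.c_mem (mul_mem (mul_mem (mul_mem h1 h2) h3) h4) hd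
    have hfix : P.τ (p * d4) * (p * d4)⁻¹ ∈ P.Z := by
      have e2 : P.τ (p * d4) * (p * d4)⁻¹ = c (d1 * d2 * d3 * d4) d := by
        rw [e, hp]; unfold c; group
      rw [e2]; exact hk
    obtain ⟨z, hz, hze⟩ : ∃ z ∈ P.Z, P.τ (p * d4) = z * (p * d4) :=
      ⟨_, hfix, (inv_mul_cancel_right _ _).symm⟩
    have hwD : p * d4 ∈ P.D := mul_mem hpD h4
    generalize p * d4 = w at hze hwD ⊢
    have hiter : P.τ (P.τ (P.τ (P.τ (P.τ w)))) = z * (z * (z * (z * (z * w)))) := by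
      simp only [hze, P.τ_mul, P.τ_fix hz]
    rw [P.τ_five] at hiter
    have hzz := P.zsq z hz
    simp only [← mul_assoc, hzz, one_mul] at hiter
    have hz1 : z = 1 := by
      have : z * w = 1 * w := by rw [one_mul]; exact hiter.symm
      exact mul_right_cancel this
    rw [hz1, one_mul] at hze
    exact P.fixed w hwD hze
  set k := p⁻¹ * d4 with hk
  have hkZ : k ∈ P.Z := by
    have hsq := P.sq_mem (inv_mem hpD)
    have e : k = (p⁻¹ * p⁻¹) * (p * d4) := by rw [hk]; group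
    rw [e]
    exact mul_mem hsq hP5
  refine ⟨d * k, mul_mem hd (P.hZD hkZ), fun h => hdZ ?_, ?_⟩
  · have := mul_mem h (inv_mem hkZ)
    rwa [mul_inv_cancel_right] at this
  · simp only [P.τ_mul, P.τ_fix hkZ]
    show d4 * k = d * k * (d1 * k) * (d2 * k) * (d3 * k)
    have hkc : ∀ x ∈ P.D, x * k = k * x := fun x hx => (P.zcomm k hkZ x hx).symm
    have hkk := P.zsq k hkZ
    calc d4 * k = p * k * k := by rw [hk]; group
      _ = p := by rw [mul_assoc, hkk, mul_one]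
      _ = d * d1 * d2 * d3 * (k * k * (k * k)) := by rw [hkk, mul_one, mul_one]
      _ = _ := by
        have mv : ∀ x ∈ P.D, ∀ y, k * (x * y) = x * (k * y) := fun x hx y => by
          rw [← mul_assoc, ← hkc x hx, mul_assoc]
        simp only [mul_assoc]
        rw [mv d1 h1, mv d2 h2, mv d2 h2, mv d3 h3, mv d3 h3, mv d3 h3]

end Pre

end Cfsg.Agent.H63.ThreeTwenty
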