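import Cfsg.Agent.H63.OrderThreeTwenty

/-!
Coordinates for the groups of order 320 of `OrderThreeTwenty` and the isomorphism between any two
of them whose subgroup of order 64 has all of `Z` as commutator subgroup.
-/

set_option autoImplicit false

namespace Cfsg.Agent.H63.ThreeTwenty

open Subgroup

/-- four bits -/
abbrev A4 := ZMod 2 × ZMod 2 × ZMod 2 × ZMod 2

/-- two bits -/
abbrev Z2 := ZMod 2 × ZMod 2

/-- the cocycle -/
def ω (a b : A4) : Z2 :=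
  let s := a.1 * b.1 + a.2.1 * b.2.1 + a.2.2.1 * b.2.2.1 + a.2.2.2 * b.2.2.2
  (s + (a.2.1 * b.1 + a.2.2.1 * b.2.1 + a.2.2.2 * b.2.2.1),
    s + (a.2.2.1 * b.1 + a.2.2.2 * b.1 + a.2.2.2 * b.2.1))

/-- multiplication in coordinates -/
def star (p q : A4 × Z2) : A4 × Z2 := (p.1 + q.1, p.2 + q.2 + ω p.1 q.1)

/-- basis vectors -/
def e0 : A4 := (1, 0, 0, 0)
/-- basis vectors -/
def e1 : A4 := (0, 1, 0, 0)
/-- basis vectors -/
def e2 : A4 := (0, 0, 1, 0)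
/-- basis vectors -/
def e3 : A4 := (0, 0, 0, 1)

/-- scalar times basis vector -/
def sc (i : ZMod 2) (a : A4) : A4 := (i * a.1, i * a.2.1, i * a.2.2.1, i * a.2.2.2)

/-- the shift induced by `t` -/
def sh (p : A4 × Z2) : A4 × Z2 :=
  star (star (star (sc p.1.1 e1, 0) (sc p.1.2.1 e2, 0)) (sc p.1.2.2.1 e3, 0))
    (sc p.1.2.2.2 (1, 1, 1, 1), p.2)

theorem bit_cases (i : ZMod 2) : i = 0 ∨ i = 1 := by revert i; decide

variable {G : Type*} [Group G]

/-- bit exponent -/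
def pw (g : G) (i : ZMod 2) : G := g ^ i.val

theorem pw_zero (g : G) : pw g 0 = 1 := pow_zero g

theorem pw_one (g : G) : pw g 1 = g := pow_one g

namespace Pre

variable [Finite G] (P : Pre G)

/-- the iterates -/
def u1 (u : G) : G := P.τ u
/-- the iterates -/
def u2 (u : G) : G := P.τ (P.τ u)
/-- the iterates -/
def u3 (u : G) : G := P.τ (P.τ (P.τ u))

/-- central part -/
def cen (u : G) (z : Z2) : G := pw (c u (P.u1 u)) z.1 * pw (c u (P.u2 u)) z.2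

/-- the monomial -/
def mono (u : G) (a : A4) : G :=
  pw u a.1 * (pw (P.u1 u) a.2.1 * (pw (P.u2 u) a.2.2.1 * pw (P.u3 u) a.2.2.2))

/-- the coordinate map -/
def φ (u : G) (p : A4 × Z2) : G := P.cen u p.2 * P.mono u p.1

/-- a good generator -/
structure Gen (u : G) : Prop where
  mem : u ∈ P.D
  notMem : u ∉ P.Z
  rel : P.τ (P.τ (P.τ (P.τ u))) = u * P.τ u * P.τ (P.τ u) * P.τ (P.τ (P.τ u))

variable {u : G} (hu : Gen P u)
include hu

theorem mems : P.u1 u ∈ P.D ∧ P.u2 u ∈ P.D ∧ P.u3 u ∈ P.D :=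
  ⟨P.τ_mem hu.mem, P.τ_mem (P.τ_mem hu.mem), P.τ_mem (P.τ_mem (P.τ_mem hu.mem))⟩

theorem pairs : c u (P.u1 u) ∈ P.Z ∧ c u (P.u2 u) ∈ P.Z ∧
    c (P.u1 u) (P.u2 u) = c u (P.u1 u) ∧ c (P.u2 u) (P.u3 u) = c u (P.u1 u) ∧
    c (P.u1 u) (P.u3 u) = c u (P.u2 u) ∧ c u (P.u3 u) = c u (P.u2 u) := by
  obtain ⟨h1, h2, h3⟩ := P.mems hu
  have ha := P.c_mem hu.mem h1
  have hb := P.c_mem hu.mem h2
  have hd := P.c_mem hu.mem h3
  have e12 : c (P.u1 u) (P.u2 u) = c u (P.u1 u) := by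
    rw [← P.τ_fix ha]; exact (P.τ_c _ _).symm
  have e23 : c (P.u2 u) (P.u3 u) = c u (P.u1 u) := by
    rw [← e12, ← P.τ_fix (P.c_mem h1 h2)]; exact (P.τ_c _ _).symm
  refine ⟨ha, hb, e12, e23, ?_, ?_⟩
  · rw [← P.τ_fix hb]; exact (P.τ_c _ _).symm
  · have h5 : P.τ (P.τ (P.u3 u)) = u := P.τ_five u
    conv_lhs => rw [← P.τ_fix hd, P.τ_c, ← P.τ_fix (P.c_mem (P.τ_mem hu.mem) (P.τ_mem h3)), P.τ_c, h5]
    exact P.c_symm hu.mem h2

theorem sqs : u * u = c u (P.u1 u) * c u (P.u2 u) ∧ P.u1 u * P.u1 u = u * u ∧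
    P.u2 u * P.u2 u = u * u ∧ P.u3 u * P.u3 u = u * u := by
  obtain ⟨h1, h2, h3⟩ := P.mems hu
  obtain ⟨ha, hb, e12, e23, e13, e03⟩ := P.pairs hu
  have hs := P.sq_mem hu.mem
  have s1 : P.u1 u * P.u1 u = u * u := by
    rw [← P.τ_fix hs]; exact (P.τ_mul _ _).symm
  have s2 : P.u2 u * P.u2 u = u * u := by
    conv_rhs => rw [← s1, ← P.τ_fix (P.sq_mem h1), P.τ_mul]
    rfl
  have s3 : P.u3 u * P.u3 u = u * u := by
    conv_rhs => rw [← s2, ← P.τ_fix (P.sq_mem h2), P.τ_mul]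
    rfl
  refine ⟨?_, s1, s2, s3⟩
  have s4 : P.τ (P.u3 u) * P.τ (P.u3 u) = u * u := by
    rw [← P.τ_mul, s3, P.τ_fix hs]
  have hrel : P.τ (P.u3 u) = u * P.u1 u * P.u2 u * P.u3 u := hu.rel
  rw [hrel] at s4
  set α := c u (P.u1 u)
  set γ := c u (P.u2 u)
  set v1 := P.u1 u
  set v2 := P.u2 u
  set v3 := P.u3 u
  have cm : ∀ {z : G}, z ∈ P.Z → ∀ x ∈ P.D, ∀ y, x * (z * y) = z * (x * y) := fun hz x hx y => by
    rw [← mul_assoc, ← P.zcomm _ hz x hx, mul_assoc]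
  have sw : ∀ {a b k : G}, c a b = k → k ∈ P.Z → ∀ y, b * (a * y) = k * (a * (b * y)) := fun {a b k} h hk y => by
    have hkk := P.zsq k hk
    have e : a * b = k * (b * a) := by rw [← h]; unfold c; group
    rw [← mul_assoc a b y, e, ← mul_assoc, ← mul_assoc, ← mul_assoc, hkk, one_mul, mul_assoc]
  have w10 := sw (a := u) (b := v1) (k := α) rfl ha
  have w20 := sw (a := u) (b := v2) (k := γ) rfl hb
  have w30 := sw (a := u) (b := v3) e03 hb
  have w21 := sw (a := v1) (b := v2) e12 ha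
  have w31 := sw (a := v1) (b := v3) e13 hb
  have w32 := sw (a := v2) (b := v3) e23 ha
  have q0 : ∀ y, u * (u * y) = u * u * y := fun y => (mul_assoc _ _ _).symm
  have q1 : ∀ y, v1 * (v1 * y) = u * u * y := fun y => by rw [← mul_assoc, s1]
  have q2 : ∀ y, v2 * (v2 * y) = u * u * y := fun y => by rw [← mul_assoc, s2]
  generalize hS : u * u = s at hs q0 q1 q2 s1 s2 s3 s4
  have ka : ∀ y, α * (α * y) = y := fun y => by rw [← mul_assoc, P.zsq α ha, one_mul]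
  have kb : ∀ y, γ * (γ * y) = y := fun y => by rw [← mul_assoc, P.zsq γ hb, one_mul]
  have ks : ∀ y, s * (s * y) = y := fun y => by rw [← mul_assoc, P.zsq s hs, one_mul]
  have cab : ∀ y, γ * (α * y) = α * (γ * y) := fun y => (cm ha γ (P.hZD hb) y)
  have csa : ∀ y, s * (α * y) = α * (s * y) := fun y => (cm ha s (P.hZD hs) y)
  have csb : ∀ y, s * (γ * y) = γ * (s * y) := fun y => (cm hb s (P.hZD hs) y)
  simp only [mul_assoc, w10, w20, w30, w21, w31, w32, q0, q1, q2, s3, cm ha u hu.mem, cm hb u hu.mem,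
    cm hs u hu.mem, cm ha v1 h1, cm hb v1 h1, cm hs v1 h1, cm ha v2 h2, cm hb v2 h2, cm hs v2 h2,
    cm ha v3 h3, cm hb v3 h3, cm hs v3 h3, ka, kb, ks, cab, csa, csb] at s4
  simp only [P.zsq s hs, P.zsq γ hb, P.zsq α ha, ka, kb, mul_one] at s4
  exact s4.symm

theorem pw_mul_mono (a : A4) :
    u * P.mono u a = P.cen u (ω e0 a) * P.mono u (e0 + a) ∧
    P.u1 u * P.mono u a = P.cen u (ω e1 a) * P.mono u (e1 + a) ∧
    P.u2 u * P.mono u a = P.cen u (ω e2 a) * P.mono u (e2 + a) ∧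
    P.u3 u * P.mono u a = P.cen u (ω e3 a) * P.mono u (e3 + a) := by
  obtain ⟨h1, h2, h3⟩ := P.mems hu
  obtain ⟨ha, hb, e12, e23, e13, e03⟩ := P.pairs hu
  obtain ⟨hs, s1, s2, s3⟩ := P.sqs hu
  rw [hs] at s1 s2 s3
  unfold mono cen
  set α := c u (P.u1 u)
  set γ := c u (P.u2 u)
  set v1 := P.u1 u
  set v2 := P.u2 u
  set v3 := P.u3 u
  have cm : ∀ {z : G}, z ∈ P.Z → ∀ x ∈ P.D, ∀ y, x * (z * y) = z * (x * y) := fun hz x hx y => by
    rw [← mul_assoc, ← P.zcomm _ hz x hx, mul_assoc]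
  have cm' : ∀ {z : G}, z ∈ P.Z → ∀ x ∈ P.D, x * z = z * x := fun hz x hx => (P.zcomm _ hz x hx).symm
  have sw : ∀ {a b k : G}, c a b = k → k ∈ P.Z → b * a = k * (a * b) ∧ ∀ y, b * (a * y) = k * (a * (b * y)) := fun {a b k} h hk => by
    have hkk := P.zsq k hk
    have e : a * b = k * (b * a) := by rw [← h]; unfold c; group
    have e' : b * a = k * (a * b) := by rw [e, ← mul_assoc, hkk, one_mul]
    exact ⟨e', fun y => by rw [← mul_assoc, e', mul_assoc, mul_assoc]⟩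
  obtain ⟨p10, w10⟩ := sw (a := u) (b := v1) (k := α) rfl ha
  obtain ⟨p20, w20⟩ := sw (a := u) (b := v2) (k := γ) rfl hb
  obtain ⟨p30, w30⟩ := sw (a := u) (b := v3) e03 hb
  obtain ⟨p21, w21⟩ := sw (a := v1) (b := v2) e12 ha
  obtain ⟨p31, w31⟩ := sw (a := v1) (b := v3) e13 hb
  obtain ⟨p32, w32⟩ := sw (a := v2) (b := v3) e23 ha
  have q0 : ∀ y, u * (u * y) = α * (γ * y) := fun y => by rw [← mul_assoc, hs, mul_assoc]
  have q1 : ∀ y, v1 * (v1 * y) = α * (γ * y) := fun y => by rw [← mul_assoc, s1, mul_assoc]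
  have q2 : ∀ y, v2 * (v2 * y) = α * (γ * y) := fun y => by rw [← mul_assoc, s2, mul_assoc]
  have ka : ∀ y, α * (α * y) = y := fun y => by rw [← mul_assoc, P.zsq α ha, one_mul]
  have kb : ∀ y, γ * (γ * y) = y := fun y => by rw [← mul_assoc, P.zsq γ hb, one_mul]
  have cab : ∀ y, γ * (α * y) = α * (γ * y) := fun y => (cm ha γ (P.hZD hb) y)
  have ca2 : γ * α = α * γ := cm' ha γ (P.hZD hb)
  have aa := P.zsq α ha
  have bb := P.zsq γ hb
  have o : (1 : ZMod 2) + 1 = 0 := rfl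
  obtain ⟨a0, a1, a2, a3⟩ := a
  rcases bit_cases a0 with rfl | rfl <;> rcases bit_cases a1 with rfl | rfl <;>
    rcases bit_cases a2 with rfl | rfl <;> rcases bit_cases a3 with rfl | rfl <;>
    simp [e0, e1, e2, e3, ω, pw_zero, pw_one, o, mul_assoc, p10, p20, p30, p21, p31, p32, w10, w20,
      w30, w21, w31, w32, q0, q1, q2, hs, s1, s2, s3, cm ha u hu.mem, cm hb u hu.mem, cm ha v1 h1,
      cm hb v1 h1, cm ha v2 h2, cm hb v2 h2, cm ha v3 h3, cm hb v3 h3, cm' ha u hu.mem, cm' hb u hu.mem,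
      cm' ha v1 h1, cm' hb v1 h1, cm' ha v2 h2, cm' hb v2 h2, cm' ha v3 h3, cm' hb v3 h3,
      ka, kb, cab, ca2, aa, bb]

theorem cen_mem (z : Z2) : P.cen u z ∈ P.Z :=
  mul_mem (pow_mem (P.pairs hu).1 _) (pow_mem (P.pairs hu).2.1 _)

theorem cen_add (z w : Z2) : P.cen u (z + w) = P.cen u z * P.cen u w := by
  obtain ⟨ha, hb, -⟩ := P.pairs hu
  unfold cen
  set α := c u (P.u1 u)
  set γ := c u (P.u2 u)
  have ka : ∀ y, α * (α * y) = y := fun y => by rw [← mul_assoc, P.zsq α ha, one_mul]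
  have kb : ∀ y, γ * (γ * y) = y := fun y => by rw [← mul_assoc, P.zsq γ hb, one_mul]
  have cc : γ * α = α * γ := (P.zcomm α ha γ (P.hZD hb)).symm
  have cab : ∀ y, γ * (α * y) = α * (γ * y) := fun y => by rw [← mul_assoc, cc, mul_assoc]
  have o : (1 : ZMod 2) + 1 = 0 := rfl
  obtain ⟨z1, z2⟩ := z
  obtain ⟨w1, w2⟩ := w
  rcases bit_cases z1 with rfl | rfl <;> rcases bit_cases z2 with rfl | rfl <;>
    rcases bit_cases w1 with rfl | rfl <;> rcases bit_cases w2 with rfl | rfl <;>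
    simp [pw_zero, pw_one, o, mul_assoc, ka, kb, cc, cab, P.zsq α ha, P.zsq γ hb]

theorem mono_mem (a : A4) : P.mono u a ∈ P.D := by
  obtain ⟨h1, h2, h3⟩ := P.mems hu
  exact mul_mem (pow_mem hu.mem _) (mul_mem (pow_mem h1 _) (mul_mem (pow_mem h2 _) (pow_mem h3 _)))

theorem φ_mem (p : A4 × Z2) : P.φ u p ∈ P.D := mul_mem (P.hZD (P.cen_mem hu _)) (P.mono_mem hu _)

theorem step (i : ZMod 2) (a : A4) :
    pw u i * P.mono u a = P.cen u (ω (sc i e0) a) * P.mono u (sc i e0 + a) ∧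
    pw (P.u1 u) i * P.mono u a = P.cen u (ω (sc i e1) a) * P.mono u (sc i e1 + a) ∧
    pw (P.u2 u) i * P.mono u a = P.cen u (ω (sc i e2) a) * P.mono u (sc i e2 + a) ∧
    pw (P.u3 u) i * P.mono u a = P.cen u (ω (sc i e3) a) * P.mono u (sc i e3 + a) := by
  rcases bit_cases i with rfl | rfl
  · simp [pw_zero, sc, ω, cen, Prod.mk_zero_zero.symm]
    obtain ⟨a0, a1, a2, a3⟩ := a
    simp
  · simp only [pw_one, sc, one_mul, Prod.mk.eta]
    exact P.pw_mul_mono hu a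

theorem φ_mul (p q : A4 × Z2) : P.φ u p * P.φ u q = P.φ u (star p q) := by
  obtain ⟨⟨a0, a1, a2, a3⟩, z⟩ := p
  obtain ⟨b, w⟩ := q
  have hc : ∀ z x, x ∈ P.D → ∀ y, x * (P.cen u z * y) = P.cen u z * (x * y) := fun z x hx y => by
    rw [← mul_assoc, ← P.zcomm _ (P.cen_mem hu z) x hx, mul_assoc]
  obtain ⟨h1, h2, h3⟩ := P.mems hu
  have m0 : pw u a0 ∈ P.D := pow_mem hu.mem _
  have m1 : pw (P.u1 u) a1 ∈ P.D := pow_mem h1 _
  have m2 : pw (P.u2 u) a2 ∈ P.D := pow_mem h2 _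
  show P.cen u z * P.mono u (a0, a1, a2, a3) * (P.cen u w * P.mono u b) = _
  rw [mul_assoc, hc w _ (P.mono_mem hu _), ← mul_assoc, ← P.cen_add hu]
  conv_lhs => arg 2; rw [mono]; simp only [mul_assoc]
  rw [(P.step hu a3 b).2.2.2, hc _ _ m2, (P.step hu a2 _).2.2.1, ← mul_assoc (P.cen u _) (P.cen u _),
    ← P.cen_add hu, hc _ _ m1, (P.step hu a1 _).2.1, ← mul_assoc (P.cen u _) (P.cen u _),
    ← P.cen_add hu, hc _ _ m0, (P.step hu a0 _).1, ← mul_assoc (P.cen u _) (P.cen u _),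
    ← P.cen_add hu, ← mul_assoc, ← P.cen_add hu]
  have key : ∀ (a0 a1 a2 a3 : ZMod 2) (b : A4),
      sc a0 e0 + (sc a1 e1 + (sc a2 e2 + (sc a3 e3 + b))) = ((a0, a1, a2, a3) : A4) + b ∧
      ω (sc a3 e3) b + ω (sc a2 e2) (sc a3 e3 + b) + ω (sc a1 e1) (sc a2 e2 + (sc a3 e3 + b)) +
        ω (sc a0 e0) (sc a1 e1 + (sc a2 e2 + (sc a3 e3 + b))) = ω (a0, a1, a2, a3) b := by
    decide +kernel
  obtain ⟨k1, k2⟩ := key a0 a1 a2 a3 b
  show _ = P.cen u (z + w + ω (a0, a1, a2, a3) b) * P.mono u ((a0, a1, a2, a3) + b)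
  rw [← k2, k1]
  congr 2
  abel

theorem τ_φ (p : A4 × Z2) : P.τ (P.φ u p) = P.φ u (sh p) := by
  obtain ⟨⟨a0, a1, a2, a3⟩, z⟩ := p
  obtain ⟨h1, h2, h3⟩ := P.mems hu
  have hτp : ∀ g i, P.τ (pw g i) = pw (P.τ g) i := by
    intro g i
    rcases bit_cases i with rfl | rfl
    · simp [pw_zero, τ]
    · simp [pw_one]
  have hu3 : P.τ (P.u3 u) = P.φ u ((1, 1, 1, 1), 0) := by
    show P.τ (P.τ (P.τ (P.τ u))) = _
    rw [hu.rel]
    simp [φ, mono, cen, pw_zero, pw_one, u1, u2, u3, mul_assoc]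
  have f1 : ∀ i, pw (P.u1 u) i = P.φ u (sc i e1, 0) := fun i => by
    rcases bit_cases i with rfl | rfl <;> simp [φ, mono, cen, sc, e1, pw_zero, pw_one]
  have f2 : ∀ i, pw (P.u2 u) i = P.φ u (sc i e2, 0) := fun i => by
    rcases bit_cases i with rfl | rfl <;> simp [φ, mono, cen, sc, e2, pw_zero, pw_one]
  have f3 : ∀ i, pw (P.u3 u) i = P.φ u (sc i e3, 0) := fun i => by
    rcases bit_cases i with rfl | rfl <;> simp [φ, mono, cen, sc, e3, pw_zero, pw_one]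
  have f4 : pw (P.τ (P.u3 u)) a3 * P.cen u z = P.φ u (sc a3 (1, 1, 1, 1), z) := by
    rw [hu3]
    rcases bit_cases a3 with rfl | rfl
    · rw [pw_zero, one_mul]; simp [φ, mono, sc, pw_zero]
    · rw [pw_one, φ, φ, show P.cen u (0 : Z2) = 1 from by simp [cen, pw_zero], one_mul,
        P.zcomm _ (P.cen_mem hu z) _ (P.mono_mem hu _)]
      simp [sc]
  show P.τ (P.cen u z * P.mono u (a0, a1, a2, a3)) = _
  rw [P.τ_mul, P.τ_fix (P.cen_mem hu z), mono]
  simp only [P.τ_mul, hτp]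
  rw [show P.τ u = P.u1 u from rfl, show P.τ (P.u1 u) = P.u2 u from rfl,
    show P.τ (P.u2 u) = P.u3 u from rfl]
  have hm : pw (P.u1 u) a0 * (pw (P.u2 u) a1 * (pw (P.u3 u) a2 * pw (P.τ (P.u3 u)) a3)) ∈ P.D :=
    mul_mem (pow_mem h1 _) (mul_mem (pow_mem h2 _) (mul_mem (pow_mem h3 _) (pow_mem (P.τ_mem h3) _)))
  rw [P.zcomm _ (P.cen_mem hu z) _ hm]
  simp only [mul_assoc]
  rw [f4, f1, f2, f3, P.φ_mul hu, P.φ_mul hu, P.φ_mul hu]
  have key : ∀ (a0 a1 a2 a3 : ZMod 2) (z : Z2),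
      star (sc a0 e1, 0) (star (sc a1 e2, 0) (star (sc a2 e3, 0) (sc a3 (1, 1, 1, 1), z)))
        = sh ((a0, a1, a2, a3), z) := by decide +kernel
  rw [key]

/-- the subgroup of elements with coordinates -/
def image : Subgroup G where
  carrier := Set.range (P.φ u)
  one_mem' := ⟨0, by simp [φ, mono, cen, pw_zero]⟩
  mul_mem' := by rintro _ _ ⟨p, rfl⟩ ⟨q, rfl⟩; exact ⟨_, (P.φ_mul hu p q).symm⟩
  inv_mem' := by
    rintro _ ⟨p, rfl⟩
    have key : ∀ p : A4 × Z2, star (star (star p p) p) (star (star p p) (star p p)) = star (star p p) p ∧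
        star (star (star p p) p) p = 0 := by decide +kernel
    refine ⟨star (star p p) p, eq_inv_of_mul_eq_one_left ?_⟩
    rw [P.φ_mul hu, (key p).2]
    simp [φ, mono, cen, pw_zero]

theorem image_eq (hZ : P.Z ≤ P.image hu) : P.image hu = P.D := by
  refine (P.dichotomy _ hZ ?_ ?_).resolve_left fun h => hu.notMem ?_
  · rintro _ ⟨p, rfl⟩; exact P.φ_mem hu p
  · rintro _ ⟨p, rfl⟩; exact ⟨_, (P.τ_φ hu p).symm⟩
  · rw [← h]; exact ⟨(e0, 0), by simp [φ, mono, cen, e0, pw_zero, pw_one]⟩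

theorem center_le_image
    (hcl : ∀ R : Subgroup G, R ≤ P.D → (∀ r ∈ R, P.τ r ∈ R) → (∀ r ∈ R, ∀ z ∈ P.Z, z * r = r * z) →
      (∀ a ∈ R, ∀ b ∈ R, ∀ z ∈ P.Z, ∀ w ∈ P.Z, c (a * z) (b * w) ∈ R) → R ⊔ P.Z = P.D → P.Z ≤ R) :
    P.Z ≤ P.image hu := by
  have hD : ∀ r ∈ P.image hu, r ∈ P.D := by rintro _ ⟨p, rfl⟩; exact P.φ_mem hu p
  refine hcl _ hD ?_ (fun r hr z hz => P.zcomm z hz r (hD r hr)) ?_ ?_
  · rintro _ ⟨p, rfl⟩; exact ⟨_, (P.τ_φ hu p).symm⟩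
  · intro a ha b hb z hz w hw
    have e : c (a * z) (b * w) = c a b := by
      have zc : ∀ x ∈ P.D, z * x = x * z := fun x hx => P.zcomm z hz x hx
      have e1 : c (a * z) (b * w) = c a (b * w) := by
        unfold c
        rw [mul_inv_rev, ← mul_assoc, mul_assoc a z, zc _ (mul_mem (hD b hb) (P.hZD hw))]
        group
      rw [e1]
      unfold c
      rw [mul_inv_rev, ← mul_assoc a b w, mul_assoc (a * b) w,
        P.zcomm w hw _ (inv_mem (hD a ha))]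
      group
    rw [e]
    exact mul_mem (mul_mem (mul_mem ha hb) (inv_mem ha)) (inv_mem hb)
  · have hle : P.image hu ⊔ P.Z ≤ P.D := sup_le hD P.hZD
    refine (P.dichotomy _ le_sup_right hle ?_).resolve_left fun h => hu.notMem ?_
    · intro r hr
      have : P.image hu ⊔ P.Z ≤ (P.image hu ⊔ P.Z).comap (MulAut.conj P.t).toMonoidHom := by
        refine sup_le ?_ ?_
        · rintro _ ⟨p, rfl⟩
          exact Subgroup.mem_sup_left ⟨_, (P.τ_φ hu p).symm⟩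
        · intro z hz
          show P.t * z * P.t⁻¹ ∈ P.image hu ⊔ P.Z
          rw [P.ztcomm z hz]
          exact Subgroup.mem_sup_right hz
      exact this hr
    · rw [← h]
      exact Subgroup.mem_sup_left ⟨(e0, 0), by simp [φ, mono, cen, e0, pw_zero, pw_one]⟩

/-- coordinates on the whole group -/
def ψ (p : (A4 × Z2) × Fin 5) : G := P.φ u p.1 * P.t ^ (p.2 : ℕ)

theorem ψ_bijective (hZ : P.Z ≤ P.image hu) : Function.Bijective (P.ψ (u := u)) := by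
  have him := P.image_eq hu hZ
  have hφ : Function.Injective (P.φ u) := by
    let f : A4 × Z2 → P.D := fun p => ⟨P.φ u p, P.φ_mem hu p⟩
    have hf : Function.Surjective f := fun ⟨d, hd⟩ => by
      obtain ⟨p, hp⟩ : d ∈ P.image hu := him ▸ hd
      exact ⟨p, Subtype.ext hp⟩
    have hcard : Nat.card (A4 × Z2) = Nat.card P.D := by
      simp [P.cardD, Nat.card_prod]
    have hb := (Nat.bijective_iff_surjective_and_card f).2 ⟨hf, hcard⟩
    exact fun p q h => hb.1 (Subtype.ext h)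
  refine (Nat.bijective_iff_injective_and_card _).2 ⟨?_, ?_⟩
  · rintro ⟨p, i⟩ ⟨q, j⟩ h
    have h' : P.φ u p * P.t ^ (i : ℕ) = P.φ u q * P.t ^ (j : ℕ) := h
    have key : ∀ k : ℕ, P.t ^ k ∈ P.D → 5 ∣ k := by
      intro k hk
      by_contra hne
      have hcop : Nat.Coprime k 5 := ((Nat.Prime.coprime_iff_not_dvd (by norm_num)).2 hne).symm
      obtain ⟨m, hm⟩ := exists_pow_eq_self_of_coprime (n := k) (x := P.t)
        (hcop.coprime_dvd_right (orderOf_dvd_of_pow_eq_one P.ht))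
      exact P.htD (hm ▸ pow_mem hk m)
    have hsum : P.t ^ ((i : ℕ) + (5 - j)) ∈ P.D := by
      have e : P.t ^ ((i : ℕ) + (5 - j)) = (P.φ u p)⁻¹ * P.φ u q := by
        rw [pow_add, eq_inv_mul_iff_mul_eq, ← mul_assoc, h', mul_assoc, ← pow_add,
          Nat.add_sub_cancel' j.2.le, P.ht, mul_one]
      rw [e]
      exact mul_mem (inv_mem (P.φ_mem hu p)) (P.φ_mem hu q)
    have := key _ hsum
    have hij : i = j := by
      apply Fin.ext
      have hi := i.2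
      have hj := j.2
      omega
    subst hij
    exact Prod.ext (hφ (mul_right_cancel h')) rfl
  · simp [P.card, Nat.card_prod]

theorem ψ_mul (p q : A4 × Z2) (i j : Fin 5) :
    P.ψ (u := u) (p, i) * P.ψ (u := u) (q, j) = P.ψ (u := u) (star p (sh^[(i : ℕ)] q), i + j) := by
  have hit : ∀ (k : ℕ) (q : A4 × Z2), P.t ^ k * P.φ u q = P.φ u (sh^[k] q) * P.t ^ k := by
    intro k
    induction k with
    | zero => simp
    | succ k ih =>
      intro q
      have e : P.t * P.φ u q = P.φ u (sh q) * P.t := by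
        rw [← P.τ_φ hu]; unfold τ; group
      rw [pow_succ, mul_assoc, e, ← mul_assoc, ih, mul_assoc, Function.iterate_succ_apply]
  show P.φ u p * P.t ^ (i : ℕ) * (P.φ u q * P.t ^ (j : ℕ)) = P.φ u _ * P.t ^ ((i + j : Fin 5) : ℕ)
  rw [mul_assoc, ← mul_assoc (P.t ^ (i : ℕ)), hit, ← mul_assoc, ← mul_assoc, P.φ_mul hu, mul_assoc,
    ← pow_add, Fin.val_add, ← pow_eq_pow_mod _ P.ht]

end Pre

/-- any two such groups are isomorphic -/
theorem exists_equiv {H : Type*} [Group H] [Finite G] [Finite H] (P : Pre G) (Q : Pre H) {u : G} {v : H}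
    (hu : P.Gen u) (hv : Q.Gen v) (hP : P.Z ≤ P.image hu) (hQ : Q.Z ≤ Q.image hv) :
    Nonempty (G ≃* H) := by
  let e := Equiv.ofBijective _ (P.ψ_bijective hu hP)
  let f := Equiv.ofBijective _ (Q.ψ_bijective hv hQ)
  refine ⟨{ e.symm.trans f with map_mul' := fun a b => ?_ }⟩
  obtain ⟨⟨p, i⟩, rfl⟩ := e.surjective a
  obtain ⟨⟨q, j⟩, rfl⟩ := e.surjective b
  show f (e.symm (e (p, i) * e (q, j))) = f (e.symm (e (p, i))) * f (e.symm (e (q, j)))
  have h1 : e (p, i) * e (q, j) = e (star p (sh^[(i : ℕ)] q), i + j) := P.ψ_mul hu p q i j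
  have h2 : f (p, i) * f (q, j) = f (star p (sh^[(i : ℕ)] q), i + j) := Q.ψ_mul hv p q i j
  rw [h1, e.symm_apply_apply, e.symm_apply_apply, e.symm_apply_apply, h2]

end Cfsg.Agent.H63.ThreeTwenty
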