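import Cfsg.Agent.H63.OrderThreeTwentyIso
import Cfsg.Agent.H33.SylU.Embed

/-!
The group of order 320 with derived subgroup of order 64 and centre of that subgroup a four-group,
and the centralizer of a transvection in `SU₃(4)`, both satisfy the hypotheses of `OrderThreeTwenty`.
-/

set_option autoImplicit false

namespace Cfsg.Agent.H63.ThreeTwenty

open Subgroup
open scoped commutatorElement

namespace Pre

variable {G : Type*} [Group G] [Finite G] (P : Pre G)

/-- `D` and `t` generate -/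
theorem gen_top {M : Subgroup G} (hD : P.D ≤ M) (ht : P.t ∈ M) : M = ⊤ := by
  haveI : Fact (Nat.Prime 5) := ⟨by norm_num⟩
  have ho : orderOf P.t = 5 := orderOf_eq_prime P.ht fun h => P.htD (h ▸ one_mem _)
  have h5 : 5 ∣ Nat.card M := by
    have h := Subgroup.card_dvd_of_le (Subgroup.zpowers_le.2 ht)
    rwa [Nat.card_zpowers, ho] at h
  have h64 : 64 ∣ Nat.card M := P.cardD ▸ Subgroup.card_dvd_of_le hD
  refine Subgroup.eq_top_of_le_card M ?_
  rw [P.card]
  exact Nat.le_of_dvd Nat.card_pos (Nat.Coprime.mul_dvd_of_dvd_of_dvd (by norm_num) h64 h5)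

theorem Z_le_center : P.Z ≤ Subgroup.center G := by
  intro z hz
  have h : Subgroup.centralizer ({z} : Set G) = ⊤ := P.gen_top
    (fun d hd => mem_centralizer_singleton_iff.2 (P.zcomm z hz d hd).symm)
    (mem_centralizer_singleton_iff.2 (mul_inv_eq_iff_eq_mul.1 (P.ztcomm z hz)))
  rw [Subgroup.mem_center_iff]
  intro g
  exact mem_centralizer_singleton_iff.1 (h ▸ Subgroup.mem_top g)

theorem Z_normal : P.Z.Normal :=
  ⟨fun z hz g => by rwa [Subgroup.mem_center_iff.1 (P.Z_le_center hz) g, mul_inv_cancel_right]⟩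

theorem mem_decomp {R : Subgroup G} (h : R ⊔ P.Z = P.D) {d : G} (hd : d ∈ P.D) :
    ∃ r ∈ R, ∃ z ∈ P.Z, d = r * z := by
  haveI := P.Z_normal
  have h' : d ∈ R ⊔ P.Z := h ▸ hd
  obtain ⟨r, hr, z, hz, e⟩ := Subgroup.mem_sup_of_normal_right.1 h'
  exact ⟨r, hr, z, hz, e.symm⟩

/-- a subgroup over which `D` and `t` commute contains the derived subgroup -/
theorem commutator_le (R : Subgroup G) (hD : ∀ a ∈ P.D, ∀ b ∈ P.D, c a b ∈ R)
    (hconj : ∀ d ∈ P.D, ∀ r ∈ R, d * r * d⁻¹ ∈ R) (hτ : ∀ r ∈ R, P.τ r ∈ R)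
    (ht : ∀ d ∈ P.D, c P.t d ∈ R) : commutator G ≤ R := by
  haveI hn : R.Normal := by
    rw [← Subgroup.normalizer_eq_top_iff]
    refine P.gen_top ?_ ?_
    · intro d hd
      rw [Subgroup.mem_normalizer_iff]
      refine fun h => ⟨fun hh => hconj d hd h hh, fun hh => ?_⟩
      have := hconj d⁻¹ (inv_mem hd) _ hh
      simpa [mul_assoc] using this
    · rw [Subgroup.mem_normalizer_iff]
      refine fun h => ⟨fun hh => hτ h hh, fun hh => ?_⟩
      have := hτ _ (hτ _ (hτ _ (hτ _ hh)))
      rwa [show P.t * h * P.t⁻¹ = P.τ h from rfl, P.τ_five] at this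
  let π := QuotientGroup.mk' R
  have hc : ∀ a b, c a b ∈ R → π a * π b = π b * π a := by
    intro a b h
    have h1 : π (c a b) = 1 := (QuotientGroup.eq_one_iff _).2 h
    rw [c, map_mul, map_mul, map_mul, map_inv, map_inv] at h1
    exact mul_inv_eq_iff_eq_mul.1 (mul_inv_eq_one.1 h1)
  have key : ∀ x : G, x ∈ P.D ∨ x = P.t → (Subgroup.centralizer {π x}).comap π = ⊤ := by
    intro x hx
    refine P.gen_top (fun d hd => ?_) ?_
    · refine mem_centralizer_singleton_iff.2 ?_
      rcases hx with hx | rfl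
      · exact hc d x (hD d hd x hx)
      · exact (hc P.t d (ht d hd)).symm
    · refine mem_centralizer_singleton_iff.2 ?_
      rcases hx with hx | rfl
      · exact hc P.t x (ht x hx)
      · rfl
  have hz : (Subgroup.center (G ⧸ R)).comap π = ⊤ := by
    refine P.gen_top (fun d hd => ?_) ?_ <;>
      refine Subgroup.mem_comap.2 (Subgroup.mem_center_iff.2 fun q => ?_) <;>
      obtain ⟨g, rfl⟩ := QuotientGroup.mk'_surjective R q
    · exact mem_centralizer_singleton_iff.1 (Subgroup.mem_comap.1 (key d (Or.inl hd) ▸ Subgroup.mem_top g))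
    · exact mem_centralizer_singleton_iff.1 (Subgroup.mem_comap.1 (key P.t (Or.inr rfl) ▸ Subgroup.mem_top g))
  rw [commutator_def, Subgroup.commutator_le]
  intro a _ b _
  refine (QuotientGroup.eq_one_iff (N := R) _).1 ?_
  show π ⁅a, b⁆ = 1
  rw [map_commutatorElement, commutatorElement_eq_one_iff_mul_comm]
  exact (Subgroup.mem_center_iff.1 (Subgroup.mem_comap.1 (hz ▸ Subgroup.mem_top a)) _).symm

end Pre

/-- the group side -/
theorem exists_pre {G : Type*} [Group G] [Finite G] (hG : Nat.card G = 320)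
    (hD : Nat.card (commutator G) = 64) (hZ : IsKleinFour (Subgroup.center (commutator G))) :
    ∃ P : Pre G, ∃ u : G, ∃ hu : P.Gen u, P.Z ≤ P.image hu := by
  classical
  haveI : Fact (Nat.Prime 5) := ⟨by norm_num⟩
  haveI := hZ
  set D := commutator G with hDdef
  set Z := (Subgroup.center D).map D.subtype with hZdef
  haveI hDn : D.Normal := by rw [hDdef, commutator_def]; infer_instance
  have hZD : Z ≤ D := Subgroup.map_subtype_le _
  have cardZ : Nat.card Z = 4 := by
    rw [hZdef, Nat.card_congr ((Subgroup.center D).equivMapOfInjective _ D.subtype_injective).toEquiv.symm]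
    exact IsKleinFour.card_four
  have zsq : ∀ z ∈ Z, z * z = 1 := by
    rintro _ ⟨z, hz, rfl⟩
    have h := IsKleinFour.mul_self (⟨z, hz⟩ : Subgroup.center D)
    rw [← map_mul, show z * z = 1 from congrArg Subtype.val h, map_one]
  have zcomm : ∀ z ∈ Z, ∀ d ∈ D, z * d = d * z := by
    rintro _ ⟨z, hz, rfl⟩ d hd
    exact congrArg Subtype.val (Subgroup.mem_center_iff.1 hz ⟨d, hd⟩).symm
  have zconj : ∀ z ∈ Z, ∀ g : G, g * z * g⁻¹ ∈ Z := by
    intro z hz g
    refine ⟨⟨g * z * g⁻¹, hDn.conj_mem z (hZD hz) g⟩, Subgroup.mem_center_iff.2 fun d => ?_, rfl⟩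
    apply Subtype.ext
    show (d : G) * (g * z * g⁻¹) = g * z * g⁻¹ * d
    have h := zcomm z hz (g⁻¹ * d * g) (by simpa using hDn.conj_mem (d : G) d.2 g⁻¹)
    calc (d : G) * (g * z * g⁻¹) = g * ((g⁻¹ * d * g) * z) * g⁻¹ := by group
      _ = g * (z * (g⁻¹ * d * g)) * g⁻¹ := by rw [h]
      _ = g * z * g⁻¹ * d := by group
  obtain ⟨t, ht⟩ := exists_prime_orderOf_dvd_card' (G := G) 5 (by rw [hG]; norm_num)
  have ht5 : t ^ 5 = 1 := ht ▸ pow_orderOf_eq_one t
  have htD : t ∉ D := fun h => by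
    have h' := Subgroup.orderOf_dvd_natCard D h
    rw [ht, hD] at h'
    norm_num at h'
  have hfive : ∀ g : G, t * (t * (t * (t * (t * g * t⁻¹) * t⁻¹) * t⁻¹) * t⁻¹) * t⁻¹ = g := by
    intro g
    have h : t * (t * (t * (t * (t * g * t⁻¹) * t⁻¹) * t⁻¹) * t⁻¹) * t⁻¹ = t ^ 5 * g * (t ^ 5)⁻¹ := by
      simp only [pow_succ, pow_zero, one_mul]; group
    rw [h, ht5, one_mul, inv_one, mul_one]
  -- fixed points of `t` on an invariant subgroup
  have hcount : ∀ K : Subgroup G, (∀ k ∈ K, t * k * t⁻¹ ∈ K) →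
      Nat.card ↥(K ⊓ Subgroup.centralizer ({t} : Set G)) ≡ Nat.card K [MOD 5] := by
    intro K hK
    haveI := Fintype.ofFinite K
    let e : Equiv.Perm K :=
      { toFun := fun r => ⟨t * r * t⁻¹, hK _ r.2⟩
        invFun := fun r => ⟨t * (t * (t * (t * r * t⁻¹) * t⁻¹) * t⁻¹) * t⁻¹, hK _ (hK _ (hK _ (hK _ r.2)))⟩
        left_inv := fun r => Subtype.ext (hfive r)
        right_inv := fun r => Subtype.ext (hfive r) }
    have he : e ^ 5 ^ 1 = 1 := by
      ext r
      exact hfive r
    have h := Equiv.Perm.card_compl_support_modEq he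
    have hs : e.supportᶜ.card = Nat.card ↥(K ⊓ Subgroup.centralizer ({t} : Set G)) := by
      rw [← Nat.card_eq_finsetCard]
      refine Nat.card_congr ⟨fun x => ⟨(x.1 : G), x.1.2, ?_⟩, fun z => ⟨⟨z, z.2.1⟩, ?_⟩, fun x => rfl, fun z => rfl⟩
      · have hx := Finset.mem_compl.1 x.2
        rw [Equiv.Perm.mem_support, not_not] at hx
        have hx' : t * (x.1 : G) * t⁻¹ = x.1 := congrArg Subtype.val hx
        exact mem_centralizer_singleton_iff.2 (mul_inv_eq_iff_eq_mul.1 hx').symm
      · rw [Finset.mem_compl, Equiv.Perm.mem_support, not_not]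
        exact Subtype.ext (mul_inv_eq_iff_eq_mul.2 (mem_centralizer_singleton_iff.1 z.2.2).symm)
    rwa [hs, ← Nat.card_eq_fintype_card] at h
  have ztcomm : ∀ z ∈ Z, t * z * t⁻¹ = z := by
    have h := hcount Z fun k hk => zconj k hk t
    have hle : Nat.card ↥(Z ⊓ Subgroup.centralizer ({t} : Set G)) ≤ 4 :=
      cardZ ▸ Subgroup.card_le_of_le inf_le_left
    have he : Z ⊓ Subgroup.centralizer ({t} : Set G) = Z := by
      refine Subgroup.eq_of_le_of_card_ge inf_le_left ?_
      rw [cardZ] at h ⊢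
      unfold Nat.ModEq at h
      omega
    intro z hz
    exact mul_inv_eq_iff_eq_mul.2 (mem_centralizer_singleton_iff.1 (he.ge hz).2).symm
  have fixed : ∀ d ∈ D, t * d * t⁻¹ = d → d ∈ Z := by
    set S := D ⊓ Subgroup.centralizer ({t} : Set G) with hS
    have hZS : Z ≤ S := fun z hz =>
      ⟨hZD hz, mem_centralizer_singleton_iff.2 (mul_inv_eq_iff_eq_mul.1 (ztcomm z hz)).symm⟩
    have h := hcount D fun k hk => hDn.conj_mem k hk t
    have hd : Nat.card S ∣ 64 := hD ▸ Subgroup.card_dvd_of_le inf_le_left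
    have h4 : 4 ≤ Nat.card S := cardZ ▸ Subgroup.card_le_of_le hZS
    have h2 : Nat.card S ∈ Nat.divisors 64 := Nat.mem_divisors.2 ⟨hd, by norm_num⟩
    rw [show Nat.divisors 64 = {1, 2, 4, 8, 16, 32, 64} from by decide] at h2
    simp only [Finset.mem_insert, Finset.mem_singleton] at h2
    rw [hD, ← hS] at h
    unfold Nat.ModEq at h
    have hcase : Nat.card S = 4 ∨ Nat.card S = 64 := by omega
    rcases hcase with h2 | h2
    · intro d hd hd'
      rw [Subgroup.eq_of_le_of_card_ge hZS (by rw [h2, cardZ])]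
      exact ⟨hd, mem_centralizer_singleton_iff.2 (mul_inv_eq_iff_eq_mul.1 hd').symm⟩
    · exfalso
      have hSD : S = D := Subgroup.eq_of_le_of_card_ge inf_le_left (by rw [h2, hD])
      have hfix : ∀ d ∈ D, t * d * t⁻¹ = d := fun d hd =>
        mul_inv_eq_iff_eq_mul.2 (mem_centralizer_singleton_iff.1 (hSD.ge hd).2).symm
      haveI : Fact (Nat.Prime 2) := ⟨Nat.prime_two⟩
      have hp : IsPGroup 2 D := IsPGroup.of_card (n := 6) hD
      have hlt : commutator D < ⊤ := by
        haveI := hp.isNilpotent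
        haveI : Nontrivial D := Finite.one_lt_card_iff_nontrivial.1 (by rw [hD]; norm_num)
        exact IsSolvable.commutator_lt_top_of_nontrivial D
      -- a copy of the standing data in which `t` centralizes `D` is not available, so argue directly
      set N := (commutator D).map D.subtype with hN
      have hgen : ∀ M : Subgroup G, D ≤ M → t ∈ M → M = ⊤ := by
        intro M hM htM
        have h5 : 5 ∣ Nat.card M := by
          have h := Subgroup.card_dvd_of_le (Subgroup.zpowers_le.2 htM)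
          rwa [Nat.card_zpowers, ht] at h
        refine Subgroup.eq_top_of_le_card M ?_
        rw [hG]
        exact Nat.le_of_dvd Nat.card_pos
          (Nat.Coprime.mul_dvd_of_dvd_of_dvd (by norm_num : Nat.Coprime 64 5) (hD ▸ Subgroup.card_dvd_of_le hM : 64 ∣ _) h5)
      have hcomm : ∀ a ∈ D, ∀ b ∈ D, ⁅a, b⁆ ∈ N := fun a ha b hb =>
        ⟨⁅(⟨a, ha⟩ : D), ⟨b, hb⟩⁆, Subgroup.commutator_mem_commutator (Subgroup.mem_top _) (Subgroup.mem_top _), rfl⟩
      haveI : N.Normal := by rw [hN]; infer_instance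
      let π := QuotientGroup.mk' N
      have hDc : ∀ a ∈ D, ∀ g : G, π a * π g = π g * π a := by
        intro a ha
        have : (Subgroup.centralizer {π a}).comap π = ⊤ := by
          refine hgen _ (fun d hd => mem_centralizer_singleton_iff.2 ?_) (mem_centralizer_singleton_iff.2 ?_)
          · rw [← commutatorElement_eq_one_iff_mul_comm, ← map_commutatorElement]
            exact (QuotientGroup.eq_one_iff _).2 (hcomm d hd a ha)
          · rw [← map_mul, ← map_mul, mul_inv_eq_iff_eq_mul.1 (hfix a ha)]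
        exact fun g => (mem_centralizer_singleton_iff.1 (Subgroup.mem_comap.1 (this ▸ Subgroup.mem_top g))).symm
      have hall : (Subgroup.center (G ⧸ N)).comap π = ⊤ := by
        refine hgen _ (fun d hd => Subgroup.mem_center_iff.2 fun q => ?_) (Subgroup.mem_center_iff.2 fun q => ?_)
        · obtain ⟨g, rfl⟩ := QuotientGroup.mk'_surjective N q
          exact (hDc d hd g).symm
        · obtain ⟨g, rfl⟩ := QuotientGroup.mk'_surjective N q
          have : (Subgroup.centralizer {π t}).comap π = ⊤ := hgen _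
            (fun d hd => mem_centralizer_singleton_iff.2 (hDc d hd t)) (mem_centralizer_singleton_iff.2 rfl)
          exact mem_centralizer_singleton_iff.1 (Subgroup.mem_comap.1 (this ▸ Subgroup.mem_top g))
      have hle : D ≤ N := by
        conv_lhs => rw [hDdef, commutator_def]
        rw [Subgroup.commutator_le]
        intro a _ b _
        refine (QuotientGroup.eq_one_iff (N := N) _).1 ?_
        show π ⁅a, b⁆ = 1
        rw [map_commutatorElement, commutatorElement_eq_one_iff_mul_comm]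
        exact (Subgroup.mem_center_iff.1 (Subgroup.mem_comap.1 (hall ▸ Subgroup.mem_top a)) _).symm
      refine hlt.not_ge fun x _ => ?_
      obtain ⟨y, hy, hyx⟩ := hle x.2
      rwa [← D.subtype_injective hyx]
  let P : Pre G := ⟨D, Z, t, hG, hDn, hD, ht5, htD, hZD, cardZ, zsq, zcomm, ztcomm, fixed⟩
  obtain ⟨u, huD, huZ, hrel⟩ := P.exists_gen
  refine ⟨P, u, ⟨huD, huZ, hrel⟩, P.center_le_image _ ?_⟩
  intro R hRD hτ hRZ hcR hsup
  have hle : commutator G ≤ R := by
    refine P.commutator_le R ?_ ?_ hτ ?_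
    · intro a ha b hb
      obtain ⟨r, hr, z, hz, rfl⟩ := P.mem_decomp hsup ha
      obtain ⟨s, hs, w, hw, rfl⟩ := P.mem_decomp hsup hb
      exact hcR r hr s hs z hz w hw
    · intro d hd r hr
      obtain ⟨r', hr', z, hz, rfl⟩ := P.mem_decomp hsup hd
      rw [mul_inv_rev, mul_assoc r' z r, hRZ r hr z hz]
      have : r' * (r * z) * (z⁻¹ * r'⁻¹) = r' * r * r'⁻¹ := by group
      rw [this]
      exact mul_mem (mul_mem hr' hr) (inv_mem hr')
    · intro d hd
      obtain ⟨r, hr, z, hz, rfl⟩ := P.mem_decomp hsup hd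
      have : Pre.c P.t (r * z) = P.τ r * r⁻¹ := by
        have h1 : Pre.c P.t (r * z) = P.τ r * P.τ z * (z⁻¹ * r⁻¹) := by unfold Pre.c Pre.τ; group
        rw [h1, P.τ_fix hz, mul_assoc, mul_inv_cancel_left]
      rw [this]
      exact mul_mem (hτ r hr) (inv_mem hr)
  exact hZD.trans hle

open Cfsg Cfsg.Agent.Unitary Cfsg.Agent.H33.SylU Matrix

/-- the unitary side -/
theorem exists_pre_unitary {F : Type*} [Field F] [Fintype F] (hF : Fintype.card F = 16) :
    ∃ t : Cfsg.PSU 3 F 4, orderOf t = 2 ∧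
      ∃ P : Pre (Subgroup.centralizer ({t} : Set (Cfsg.PSU 3 F 4))),
        ∃ u, ∃ hu : P.Gen u, P.Z ≤ P.image hu := by
  classical
  haveI hQ : QField F 2 := ⟨by rw [hF]; norm_num⟩
  show ∃ t : Cfsg.PSU 3 F (2 ^ 2), orderOf t = 2 ∧
    ∃ P : Pre (Subgroup.centralizer ({t} : Set (Cfsg.PSU 3 F (2 ^ 2)))),
      ∃ u, ∃ hu : P.Gen u, P.Z ≤ P.image hu
  haveI : CharP F 2 := charTwo (n := 2)
  have hq : Fintype.card F = (2 ^ 2) ^ 2 := hQ.card
  -- the centre is trivial
  have hc1 : Subgroup.center (SU 3 F (2 ^ 2)) = ⊥ := by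
    rw [← Subgroup.card_eq_one, card_center_SU hq (by norm_num)]
    rfl
  let π : SU 3 F (2 ^ 2) →* PSU 3 F (2 ^ 2) := QuotientGroup.mk' _
  have hπ : Function.Injective π := by
    rw [← MonoidHom.ker_eq_bot_iff, QuotientGroup.ker_mk', hc1]
  have hπs : Function.Surjective π := QuotientGroup.mk'_surjective _
  let z1 : Fix F 2 := ⟨1, one_pow _⟩
  let t0 : SU 3 F (2 ^ 2) := toSU3 (cen z1)
  have hto : orderOf (π t0) = 2 := by
    rw [orderOf_injective π hπ, orderOf_injective toSU3 toSU3_injective]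
    refine orderOf_eq_prime ?_ fun h => ?_
    · rw [pow_two]; exact mul_self_eq_one_iff.2 rfl
    · exact one_ne_zero (congrArg Heis.b h : (1 : F) = 0)
  -- the torus
  have hpres : ∀ l : F, l ^ 5 = 1 → Preserves (2 ^ 2) (Matrix.diagonal ![l, l, l ^ 3]) ∧
      (Matrix.diagonal ![l, l, l ^ 3]).det = 1 := by
    intro l hl
    refine ⟨fun x y => ?_, ?_⟩
    · simp only [hermForm, Fin.sum_univ_three, Matrix.mulVec_diagonal, Matrix.cons_val_zero,
        Matrix.cons_val_one, Matrix.cons_val_two, Matrix.tail_cons, Matrix.head_cons, mul_pow]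
      linear_combination (x 0 * y 0 ^ 4 + x 1 * y 1 ^ 4 + (l ^ 10 + l ^ 5 + 1) * (x 2 * y 2 ^ 4)) * hl
    · rw [Matrix.det_diagonal, Fin.prod_univ_three]
      simp only [Matrix.cons_val_zero, Matrix.cons_val_one, Matrix.cons_val_two, Matrix.tail_cons, Matrix.head_cons]
      linear_combination hl
  let tor : {l : F // l ^ 5 = 1} → SU 3 F (2 ^ 2) := fun l => toSU (hpres l.1 l.2).1 (hpres l.1 l.2).2
  have ap_tor : ∀ l x, ap (tor l) x = ![l.1 * x 0, l.1 * x 1, l.1 ^ 3 * x 2] := by
    intro l x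
    show Matrix.diagonal ![l.1, l.1, l.1 ^ 3] *ᵥ x = _
    funext i
    fin_cases i <;> simp [Matrix.mulVec_diagonal]
  have ap3 : ∀ (g : Heis F 2) x, ap (toSU3 g) x = ![x 0 + (x 2 * g.a ^ 4 + g.b * (x 0 + x 1)),
      x 1 + (x 2 * g.a ^ 4 + g.b * (x 0 + x 1)), x 2 + (x 0 + x 1) * g.a] := by
    intro g x
    show ap (eSU hq (eSpec_heis g)) x = _
    rw [ap_eSU]
    funext i
    fin_cases i <;> simp [hermForm, uVec, wVec, Fin.sum_univ_three, CharTwo.sub_eq_add, Matrix.vecHead, Matrix.vecTail] <;> ring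
  have hcond : ∀ (l : {l : F // l ^ 5 = 1}) (g : Heis F 2), tr 2 g.b = nm 2 (l.1 ^ 2 * g.a) := by
    intro l g
    rw [g.cond]
    simp only [nm, cj2, mul_pow]
    linear_combination -(g.a * g.a ^ 4 * (l.1 ^ 5 + 1)) * l.2
  let act : {l : F // l ^ 5 = 1} → Heis F 2 → Heis F 2 := fun l g => ⟨l.1 ^ 2 * g.a, g.b, hcond l g⟩
  have hact : ∀ l g, tor l * toSU3 g = toSU3 (act l g) * tor l := by
    intro l g
    refine ap_ext fun x => ?_
    rw [ap_mul, ap_mul, ap3, ap_tor, ap3, ap_tor]
    have hl := l.2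
    funext i
    fin_cases i <;> simp [act, mul_pow]
    · linear_combination -(l.1 * g.a ^ 4 * x 2) * (l.1 ^ 5 + 1) * hl
    · linear_combination -(l.1 * g.a ^ 4 * x 2) * (l.1 ^ 5 + 1) * hl
    · ring
  -- the centralizer of `t0`
  have hmem : ∀ (g : Heis F 2) l, toSU3 g * tor l ∈ Subgroup.centralizer ({t0} : Set (SU 3 F (2 ^ 2))) := by
    intro g l
    refine mul_mem (mem_centralizer_singleton_iff.2 ?_) (mem_centralizer_singleton_iff.2 ?_)
    · rw [← map_mul, ← map_mul]
      exact congrArg toSU3 (Subgroup.mem_center_iff.1 (H33.SylU.mem_center_iff.2 rfl) g)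
    · rw [hact, show act l (cen z1) = cen z1 from Heis.ext (mul_zero _) rfl]
  have hsurj : ∀ A ∈ Subgroup.centralizer ({t0} : Set (SU 3 F (2 ^ 2))), ∃ g l, A = toSU3 g * tor l := by
    intro A hA
    have hA' := mem_centralizer_singleton_iff.1 hA
    have ht0 : ∀ x, ap t0 x = x + (x 0 + x 1) • uVec F := by
      intro x
      rw [ap3]
      funext i
      fin_cases i <;> simp [uVec, z1]
    set k := ap A ![1, 0, 0] 0 + ap A ![1, 0, 0] 1 with hk
    have hu : ap A (uVec F) = k • uVec F := by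
      have h := congrArg (fun B => ap B ![1, 0, 0]) hA'
      simp only [ap_mul, ht0, ap_add, ap_smul] at h
      simpa [hk] using h
    have hherm : ∀ x, hermForm 3 F (2 ^ 2) x (uVec F) = x 0 + x 1 := by
      intro x; simp [hermForm, uVec, Fin.sum_univ_three]
    have h1 := herm_ap A ![1, 0, 0] (uVec F)
    rw [hu, herm_smul_right, hherm, hherm, ← hk] at h1
    have hk5 : k ^ 5 = 1 := by
      norm_num at h1
      linear_combination h1
    -- remove the torus part
    set B := A * (tor ⟨k, hk5⟩)⁻¹ with hB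
    have htu : ap (tor ⟨k, hk5⟩) (uVec F) = k • uVec F := by
      rw [ap_tor]
      funext i
      fin_cases i <;> simp [uVec]
    have hk0 : k ≠ 0 := fun h => by rw [h, zero_pow (by norm_num)] at hk5; exact zero_ne_one hk5
    have hBu : ap B (uVec F) = uVec F := by
      have h : ap B (k • uVec F) = k • uVec F := by
        nth_rw 1 [← htu]
        rw [← ap_mul, hB, inv_mul_cancel_right, hu]
      rw [ap_smul] at h
      exact smul_right_injective _ hk0 h
    set x := ap B ![1, 0, 0] with hx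
    have hxu : x 0 + x 1 = 1 := by
      have h := herm_ap B ![1, 0, 0] (uVec F)
      rw [hBu, hherm, hherm, ← hx] at h
      simpa using h
    have hxx : tr 2 (x 1) = nm 2 (x 2) := by
      have h := herm_ap B ![1, 0, 0] ![1, 0, 0]
      rw [← hx] at h
      have hx0 : x 0 = 1 + x 1 := by
        linear_combination hxu - CharTwo.add_self_eq_zero (x 1)
      simp [hermForm, Fin.sum_univ_three, hx0] at h
      simp only [tr, nm, cj2, show (2:ℕ) ^ 2 = 4 from rfl]
      have h14 : (1 + x 1) ^ 4 = 1 + x 1 ^ 4 := by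
        have := add_pow_q hq (1 : F) (x 1)
        rwa [one_pow] at this
      rw [h14] at h
      linear_combination h - CharTwo.add_self_eq_zero (x 1 * x 1 ^ 4) - CharTwo.add_self_eq_zero (x 2 * x 2 ^ 4)
    let g : Heis F 2 := ⟨x 2, x 1, hxx⟩
    refine ⟨g, ⟨k, hk5⟩, ?_⟩
    have hg : ap (toSU3 g) ![1, 0, 0] = x := by
      rw [ap_toSU3]
      funext i
      fin_cases i <;> simp [g]
      linear_combination -hxu + CharTwo.add_self_eq_zero (x 1)
    have hgu : ap (toSU3 g) (uVec F) = uVec F := by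
      rw [ap3]
      funext i
      fin_cases i <;> simp [uVec, CharTwo.add_self_eq_zero]
    set E := (toSU3 g)⁻¹ * B with hE
    have E0 : ap E ![1, 0, 0] = ![1, 0, 0] := by rw [hE, ap_mul, ← hx, ← hg, ap_inv_ap]
    have Eu : ap E (uVec F) = uVec F := by
      rw [hE, ap_mul, hBu]; nth_rw 1 [← hgu]; rw [ap_inv_ap]
    have E1 : ap E ![0, 1, 0] = ![0, 1, 0] := by
      have e : (![0, 1, 0] : Fin 3 → F) = uVec F - ![1, 0, 0] := by
        funext i; fin_cases i <;> simp [uVec]
      rw [e, ap_sub, E0, Eu]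
    set y := ap E ![0, 0, 1] with hy
    have hy0 : y 0 = 0 := by
      have h := herm_ap E ![0, 0, 1] ![1, 0, 0]
      rw [E0, ← hy] at h
      simpa [hermForm, Fin.sum_univ_three] using h
    have hy1 : y 1 = 0 := by
      have h := herm_ap E ![0, 0, 1] ![0, 1, 0]
      rw [E1, ← hy] at h
      simpa [hermForm, Fin.sum_univ_three] using h
    have hmat : mat E = Matrix.diagonal ![1, 1, y 2] := by
      apply Matrix.ext_iff_mulVec.2
      intro v
      have e : v = v 0 • ![1, 0, 0] + v 1 • ![0, 1, 0] + v 2 • ![0, 0, 1] := by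
        funext i; fin_cases i <;> simp
      show ap E v = _
      conv_lhs => rw [e]
      rw [ap_add, ap_add, ap_smul, ap_smul, ap_smul, E0, E1, ← hy]
      funext i
      fin_cases i <;> simp [Matrix.mulVec_diagonal, hy0, hy1, mul_comm]
    have hy2 : y 2 = 1 := by
      have h : (mat E).det = 1 := (E : Matrix.SpecialLinearGroup (Fin 3) F).2
      rw [hmat, Matrix.det_diagonal, Fin.prod_univ_three] at h
      simpa using h
    have hE1 : E = 1 := by
      refine ap_ext fun v => ?_
      rw [ap_def, hmat, hy2, ap_one]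
      funext i
      fin_cases i <;> simp [Matrix.mulVec_diagonal]
    rw [hE, inv_mul_eq_one] at hE1
    rw [hE1, hB, inv_mul_cancel_right]
  have hroots : Nat.card {l : F // l ^ 5 = 1} = 5 := by
    have h : Nat.card (powMonoidHom 5 : Fˣ →* Fˣ).ker = 5 := by
      rw [IsCyclic.card_powMonoidHom_ker, Nat.card_units, Nat.card_eq_fintype_card, hF]
      rfl
    refine Eq.trans ?_ h
    refine (Nat.card_congr ?_).symm
    exact
      { toFun := fun u => ⟨((u.1 : Fˣ) : F), by simpa using congrArg Units.val u.2⟩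
        invFun := fun l => ⟨Units.mk0 l.1 (fun hl => by have := l.2; rw [hl] at this; norm_num at this),
          Units.ext l.2⟩
        left_inv := fun u => Subtype.ext (Units.ext rfl)
        right_inv := fun l => rfl }
  set C := Subgroup.centralizer ({π t0} : Set (PSU 3 F (2 ^ 2))) with hC
  have hCmem : ∀ A, π A ∈ C ↔ A ∈ Subgroup.centralizer ({t0} : Set (SU 3 F (2 ^ 2))) := by
    intro A
    rw [hC, mem_centralizer_singleton_iff, mem_centralizer_singleton_iff, ← map_mul, ← map_mul, hπ.eq_iff]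
  let one5 : {l : F // l ^ 5 = 1} := ⟨1, one_pow _⟩
  have tor1 : tor one5 = 1 := by
    refine ap_ext fun x => ?_
    rw [ap_tor, ap_one]
    funext i
    fin_cases i <;> simp [one5]
  let f : Heis F 2 →* C := (π.comp toSU3).codRestrict C fun g =>
    (hCmem _).2 (by have := hmem g one5; rwa [tor1, mul_one] at this)
  have hf : Function.Injective f := fun a b h =>
    toSU3_injective (hπ (congrArg Subtype.val h : π (toSU3 a) = π (toSU3 b)))
  have torC : ∀ l, π (tor l) ∈ C := fun l => (hCmem _).2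
    (by have := hmem 1 l; rwa [map_one, one_mul] at this)
  let T : {l : F // l ^ 5 = 1} → C := fun l => ⟨π (tor l), torC l⟩
  have hTf : ∀ l g, T l * f g * (T l)⁻¹ = f (act l g) := by
    intro l g
    refine mul_inv_eq_iff_eq_mul.2 (Subtype.ext ?_)
    show π (tor l) * π (toSU3 g) = π (toSU3 (act l g)) * π (tor l)
    rw [← map_mul, ← map_mul, hact]
  have hTne : ∀ l, l.1 ≠ 1 → ∀ g, T l ≠ f g := by
    intro l hl g h
    have h' : tor l = toSU3 g := hπ (congrArg Subtype.val h)
    have h0 := congrArg (fun B => ap B (uVec F)) h'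
    simp only [ap_tor, ap3] at h0
    have := congrFun h0 0
    simp [uVec, CharTwo.add_self_eq_zero] at this
    exact hl this
  have hall : ∀ x : C, ∃ g l, x = f g * T l := by
    rintro ⟨x, hx⟩
    obtain ⟨A, rfl⟩ := hπs x
    obtain ⟨g, l, rfl⟩ := hsurj A ((hCmem A).1 hx)
    exact ⟨g, l, Subtype.ext (map_mul π _ _)⟩
  have hinj : Function.Injective (fun p : Heis F 2 × {l : F // l ^ 5 = 1} => f p.1 * T p.2) := by
    rintro ⟨g, l⟩ ⟨g', l'⟩ h
    have h' : toSU3 g * tor l = toSU3 g' * tor l' := hπ (by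
      rw [map_mul, map_mul]; exact congrArg Subtype.val h)
    have h0 := congrFun (congrArg (fun B => ap B (uVec F)) h') 0
    simp [ap_mul, ap_tor, ap3, uVec, CharTwo.add_self_eq_zero] at h0
    obtain rfl : l = l' := Subtype.ext h0
    exact Prod.ext (hf (mul_right_cancel h)) rfl
  have hcard : Nat.card C = 320 := by
    have h := Nat.card_congr (Equiv.ofBijective _ ⟨hinj, fun x => by
      obtain ⟨g, l, rfl⟩ := hall x; exact ⟨(g, l), rfl⟩⟩)
    rw [← h, Nat.card_prod, card_heis, hroots]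
    rfl
  obtain ⟨l0, hl0⟩ : ∃ l : {l : F // l ^ 5 = 1}, l.1 ≠ 1 := by
    by_contra hh
    push Not at hh
    haveI : Subsingleton {l : F // l ^ 5 = 1} := ⟨fun a b => Subtype.ext ((hh a).trans (hh b).symm)⟩
    have : Nat.card {l : F // l ^ 5 = 1} ≤ 1 := Finite.card_le_one_iff_subsingleton.2 inferInstance
    omega
  have hT5 : T l0 ^ 5 = 1 := by
    refine Subtype.ext ?_
    show π (tor l0) ^ 5 = 1
    rw [← map_pow, show tor l0 ^ 5 = 1 from ?_, map_one]
    refine ap_ext fun x => ?_
    simp only [pow_succ, pow_zero, one_mul, ap_mul, ap_tor, ap_one]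
    funext i
    have hl := l0.2
    fin_cases i <;> simp
    · linear_combination x 0 * hl
    · linear_combination x 1 * hl
    · linear_combination (x 2 * (l0.1 ^ 10 + l0.1 ^ 5 + 1)) * hl
  let P : Pre C :=
    { D := f.range
      Z := (Subgroup.center (Heis F 2)).map f
      t := T l0
      card := hcard
      normal := ⟨by
        rintro _ ⟨g, rfl⟩ x
        obtain ⟨h, l, rfl⟩ := hall x
        refine ⟨h * act l g * h⁻¹, ?_⟩
        rw [map_mul, map_mul, map_inv, ← hTf]
        group⟩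
      cardD := by
        rw [← Nat.card_congr (MonoidHom.ofInjective hf).toEquiv, card_heis]
        rfl
      ht := hT5
      htD := by rintro ⟨g, hg⟩; exact hTne l0 hl0 g hg.symm
      hZD := Subgroup.map_le_range _ _
      cardZ := by
        rw [Nat.card_congr ((Subgroup.center (Heis F 2)).equivMapOfInjective _ hf).toEquiv.symm, card_center]
        rfl
      zsq := by
        rintro _ ⟨z, hz, rfl⟩
        rw [← map_mul, mul_self_eq_one_iff.2 (H33.SylU.mem_center_iff.1 hz), map_one]
      zcomm := by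
        rintro _ ⟨z, hz, rfl⟩ _ ⟨g, rfl⟩
        rw [← map_mul, ← map_mul, Subgroup.mem_center_iff.1 hz g]
      ztcomm := by
        rintro _ ⟨z, hz, rfl⟩
        rw [hTf]
        exact congrArg f (Heis.ext (show l0.1 ^ 2 * z.a = z.a by rw [H33.SylU.mem_center_iff.1 hz, mul_zero]) rfl)
      fixed := by
        rintro _ ⟨g, rfl⟩ h
        rw [hTf] at h
        have ha : l0.1 ^ 2 * g.a = g.a := congrArg Heis.a (hf h)
        refine ⟨g, H33.SylU.mem_center_iff.2 ?_, rfl⟩
        by_contra hne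
        have h2 : l0.1 ^ 2 = 1 := by
          have : l0.1 ^ 2 * g.a = 1 * g.a := by rw [one_mul]; exact ha
          exact mul_right_cancel₀ hne this
        apply hl0
        linear_combination l0.2 - (l0.1 ^ 3 + l0.1) * h2 }
  obtain ⟨u, huD, huZ, hrel⟩ := P.exists_gen
  refine ⟨π t0, hto, P, u, ⟨huD, huZ, hrel⟩, P.center_le_image _ ?_⟩
  intro R hRD _ _ hcR hsup
  rintro _ ⟨z, hz, rfl⟩
  obtain ⟨b, hb⟩ := exists_tr_eq (fixed_of_a_eq_zero (H33.SylU.mem_center_iff.1 hz))
  obtain ⟨g, hg⟩ := exists_lift (F := F) (n := 2) (1 : F)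
  obtain ⟨h, hh⟩ := exists_lift (F := F) (n := 2) b
  have e : z = g * h * g⁻¹ * h⁻¹ := by
    rw [H33.SylU.commutatorElement_eq]
    refine Heis.ext (H33.SylU.mem_center_iff.1 hz) ?_
    simp [hg, hh, hb, cj2]
    rfl
  obtain ⟨r, hr, w, hw, e1⟩ := P.mem_decomp hsup (⟨g, rfl⟩ : f g ∈ P.D)
  obtain ⟨s, hs, w', hw', e2⟩ := P.mem_decomp hsup (⟨h, rfl⟩ : f h ∈ P.D)
  have : f z = Pre.c (r * w) (s * w') := by rw [e, ← e1, ← e2]; simp [Pre.c]
  rw [this]
  exact hcR r hr s hs w hw w' hw'

end Cfsg.Agent.H63.ThreeTwenty
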