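import Cfsg.Agent.Cores.PCore
import Cfsg.Agent.Coprime.Basic
import Mathlib.NumberTheory.Padics.PadicVal.Basic
import Mathlib.GroupTheory.Sylow

/-!
Groups with a normal Sylow `p`-subgroup and cyclic quotient.
-/

set_option autoImplicit false
set_option linter.style.haveILetI false

namespace Cfsg.Agent.H63

open Subgroup
open scoped commutatorElement

variable {G : Type*} [Group G]

/-- A `p'`-element normalizing a cyclic `p`-group `⟨c⟩` as `c ↦ c ^ k`, `k ≡ 1 (mod p)`, centralizes it. -/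
theorem commute_of_conj_eq_pow {p : ℕ} [Fact p.Prime] {c x : G} {e : ℕ} {k : ℤ}
    (hc : c ^ (p ^ e : ℕ) = 1) (hk : (p : ℤ) ∣ k - 1) (hx : (orderOf x).Coprime p)
    (h : x * c * x⁻¹ = c ^ k) : Commute x c := by
  have hit : ∀ m : ℕ, x ^ m * c * (x ^ m)⁻¹ = c ^ (k ^ m) := by
    intro m
    induction m with
    | zero => simp
    | succ m ih =>
      calc x ^ (m + 1) * c * (x ^ (m + 1))⁻¹ = x * (x ^ m * c * (x ^ m)⁻¹) * x⁻¹ := by
            rw [pow_succ']; group
        _ = (x * c * x⁻¹) ^ (k ^ m) := by rw [ih, conj_zpow]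
        _ = c ^ (k ^ (m + 1)) := by rw [h, ← zpow_mul, pow_succ']
  have hd : (p : ℤ) ^ (e + 1) ∣ k ^ p ^ e - 1 := by
    simpa using dvd_sub_pow_of_dvd_sub (R := ℤ) (p := p) (a := k) (b := 1) hk e
  have hcpow : c ^ (k ^ p ^ e - 1) = 1 := by
    obtain ⟨r, hr⟩ := (pow_dvd_pow (p : ℤ) (Nat.le_succ e)).trans hd
    rw [hr, zpow_mul, ← Nat.cast_pow, zpow_natCast, hc, one_zpow]
  have hcom : Commute (x ^ p ^ e) c := by
    have h1 : c ^ (k ^ p ^ e) = c := by
      calc c ^ (k ^ p ^ e) = c ^ (k ^ p ^ e - 1) * c := by rw [← zpow_add_one]; congr 1; ring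
        _ = c := by rw [hcpow, one_mul]
    exact mul_inv_eq_iff_eq_mul.mp ((hit (p ^ e)).trans h1)
  obtain ⟨m, hm⟩ := exists_pow_eq_self_of_coprime
    ((Nat.Coprime.pow_left e hx.symm) : (p ^ e).Coprime (orderOf x))
  exact hm ▸ hcom.pow_left m

variable [Finite G] {p : ℕ} [Fact p.Prime]

/-- A `p`-subgroup extended by one normalizing element has normal Sylow `p`-subgroup and cyclic quotient. -/
theorem pByCyclic_sup {Q : Subgroup G} (hQ : IsPGroup p Q) {x : G} (hx : x ∈ normalizer (Q : Set G))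
    (S : Sylow p ↥(Q ⊔ zpowers x)) :
    ∃ h : (S : Subgroup ↥(Q ⊔ zpowers x)).Normal,
      IsCyclic (↥(Q ⊔ zpowers x) ⧸ (S : Subgroup ↥(Q ⊔ zpowers x))) := by
  revert S
  set H := Q ⊔ zpowers x with hH
  intro S
  have hxH : x ∈ H := mem_sup_right (mem_zpowers x)
  haveI hn : (Q.subgroupOf H).Normal := (normal_subgroupOf_iff_le_normalizer le_sup_left).mpr
    (sup_le le_normalizer (zpowers_le.mpr hx))
  have hQS : Q.subgroupOf H ≤ S := @IsPGroup.le_sylow_of_normal p H _ (Q.subgroupOf H) hn hQ.comap_subtype S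
  have hgen : ∀ y : H, ∃ i : ℤ, (⟨x, hxH⟩ : H) ^ i * y ∈ Q.subgroupOf H := by
    rintro ⟨y, hy⟩
    have hy' : y ∈ ((Q ⊔ zpowers x : Subgroup G) : Set G) := hy
    rw [coe_mul_of_right_le_normalizer_left Q _ (zpowers_le.mpr hx), Set.mem_mul] at hy'
    obtain ⟨q, hq, b, hb, rfl⟩ := hy'
    obtain ⟨i, rfl⟩ := mem_zpowers_iff.mp hb
    refine ⟨-i, ?_⟩
    rw [mem_subgroupOf, Subgroup.coe_mul, Subgroup.coe_zpow]
    have := (mem_normalizer_iff.mp ((normalizer (Q : Set G)).zpow_mem hx (-i)) q).mp hq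
    simpa [mul_assoc, zpow_neg] using this
  have hcycQ : IsCyclic (H ⧸ Q.subgroupOf H) := by
    refine ⟨((⟨x, hxH⟩ : H) : H ⧸ Q.subgroupOf H), fun y => ?_⟩
    induction y using QuotientGroup.induction_on with | H y =>
    obtain ⟨i, hi⟩ := hgen y
    refine ⟨-i, ?_⟩
    show ((⟨x, hxH⟩ : H) : H ⧸ Q.subgroupOf H) ^ (-i) = _
    rw [← QuotientGroup.mk_zpow, QuotientGroup.eq]
    simpa using hi
  have hnormal : (S : Subgroup H).Normal := by
    letI := IsCyclic.commGroup (α := H ⧸ Q.subgroupOf H)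
    refine ⟨fun s hs g => ?_⟩
    have hmem : ⁅g, s⁆ ∈ Q.subgroupOf H := by
      rw [← QuotientGroup.eq_one_iff]
      change QuotientGroup.mk' _ ⁅g, s⁆ = 1
      rw [map_commutatorElement, commutatorElement_eq_one_iff_mul_comm]
      exact mul_comm _ _
    have := (S : Subgroup H).mul_mem (hQS hmem) hs
    simpa [commutatorElement_def] using this
  haveI := hnormal
  refine ⟨hnormal, isCyclic_of_surjective
    (QuotientGroup.map (Q.subgroupOf H) (S : Subgroup H) (MonoidHom.id H) hQS) fun y => ?_⟩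
  induction y using QuotientGroup.induction_on with | H y =>
  exact ⟨(y : H ⧸ Q.subgroupOf H), rfl⟩

/-- A generator of a complement to a normal Sylow subgroup with cyclic quotient. -/
theorem exists_gen {H : Type*} [Group H] [Finite H] (S : Sylow p H) [(S : Subgroup H).Normal]
    (hcyc : IsCyclic (H ⧸ (S : Subgroup H))) :
    ∃ x : H, (orderOf x).Coprime p ∧ (S : Subgroup H) ⊔ zpowers x = ⊤ ∧
      Nat.card H = Nat.card (S : Subgroup H) * orderOf x := by
  obtain ⟨z, hz⟩ := hcyc.exists_generator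
  obtain ⟨y, rfl⟩ := QuotientGroup.mk_surjective z
  obtain ⟨a, n, hn, he⟩ :=
    Nat.exists_eq_pow_mul_and_not_dvd (orderOf_pos y).ne' p (Fact.out : p.Prime).ne_one
  have hcp : (p ^ a).Coprime (orderOf (y : H ⧸ (S : Subgroup H))) := by
    refine Nat.Coprime.pow_left a (((Fact.out : p.Prime).coprime_iff_not_dvd).mpr fun h => ?_)
    exact S.not_dvd_index (h.trans (index_eq_card (S : Subgroup H) ▸ orderOf_dvd_natCard _))
  have hxcop : (orderOf (y ^ p ^ a)).Coprime p := by
    refine Nat.Coprime.coprime_dvd_left ?_ ((Fact.out : p.Prime).coprime_iff_not_dvd.mpr hn).symm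
    exact orderOf_dvd_of_pow_eq_one (by rw [← pow_mul, ← he, pow_orderOf_eq_one])
  have htop : (S : Subgroup H) ⊔ zpowers (y ^ p ^ a) = ⊤ := by
    obtain ⟨m, hm⟩ := exists_pow_eq_self_of_coprime hcp
    refine eq_top_iff.mpr fun g _ => ?_
    obtain ⟨i, hi⟩ := mem_zpowers_iff.mp (hz (g : H ⧸ (S : Subgroup H)))
    have hg : ((((y ^ p ^ a) ^ m) ^ i : H) : H ⧸ (S : Subgroup H)) = g := by
      rw [QuotientGroup.mk_zpow, QuotientGroup.mk_pow, QuotientGroup.mk_pow, hm, hi]
    rw [← mul_inv_cancel_left (((y ^ p ^ a) ^ m) ^ i) g]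
    exact mul_mem (mem_sup_right (zpow_mem (pow_mem (mem_zpowers _) m) i))
      (mem_sup_left (QuotientGroup.eq.mp hg))
  refine ⟨_, hxcop, htop, ?_⟩
  conv_lhs => rw [← card_top (G := H), ← htop]
  rw [Coprime.card_sup (le_top.trans (normalizer_eq_top (H := (S : Subgroup H))).ge), Nat.card_zpowers]
  refine Coprime.inf_eq_bot ?_
  obtain ⟨b, hb⟩ := IsPGroup.iff_card.mp S.isPGroup'
  rw [hb, Nat.card_zpowers]
  exact (hxcop.pow_right b).symm

/-- Cyclic Sylow subgroup centralized by the complement: the group is cyclic. -/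
theorem isCyclic_of_commute {H : Type*} [Group H] [Finite H] (S : Sylow p H) {c x : H}
    (hc : zpowers c = (S : Subgroup H)) (hx : (orderOf x).Coprime p)
    (hcard : Nat.card H = Nat.card (S : Subgroup H) * orderOf x) (hcom : Commute x c) : IsCyclic H := by
  refine isCyclic_of_orderOf_eq_card (c * x) ?_
  rw [hcard, ← hc, Nat.card_zpowers]
  refine hcom.symm.orderOf_mul_eq_mul_orderOf_of_coprime ?_
  obtain ⟨b, hb⟩ := IsPGroup.iff_card.mp S.isPGroup'
  rw [← Nat.card_zpowers c, hc, hb]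
  exact (hx.pow_right b).symm

end Cfsg.Agent.H63
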