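import Mathlib.LinearAlgebra.Matrix.Basis
import Mathlib.LinearAlgebra.Matrix.Charpoly.Coeff
import Mathlib.LinearAlgebra.Matrix.NonsingularInverse
import Mathlib.FieldTheory.Finite.Basic
import Mathlib.GroupTheory.Index
import Mathlib.Tactic.NoncommRing

/-!
Facts about `2 × 2` matrices over finite fields of characteristic two (for the P(G,V) theorem).
-/

set_option autoImplicit false

namespace Cfsg.Agent.H63

variable {k : Type*} [Field k]

local notation "M₂" => Matrix (Fin 2) (Fin 2) k

theorem scalar_of_central {n : ℕ} (X : Matrix (Fin n) (Fin n) k) (h : ∀ Y, X * Y = Y * X) :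
    ∃ c : k, X = c • 1 := by
  obtain ⟨c, hc⟩ := Matrix.mem_range_scalar_of_commute_single (M := X) fun i j _ => (h (Matrix.single i j 1)).symm
  exact ⟨c, by rw [← hc, Matrix.scalar_apply, Matrix.smul_one_eq_diagonal]⟩

theorem smul_one_inj {n : ℕ} (hn : 0 < n) {a b : k} (h : a • (1 : Matrix (Fin n) (Fin n) k) = b • 1) : a = b := by
  simpa using congrFun (congrFun h ⟨0, hn⟩) ⟨0, hn⟩

/-- A commutant of a nonscalar `2 × 2` matrix is determined by one row. -/
theorem commutant_row {N X Y : M₂} (hb : N 0 1 ≠ 0) (hX : N * X = X * N) (hY : N * Y = Y * N)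
    (h0 : X 0 0 = Y 0 0) (h1 : X 0 1 = Y 0 1) : X = Y := by
  have a1 := congrFun (congrFun hX 0) 0
  have a2 := congrFun (congrFun hX 0) 1
  have b1 := congrFun (congrFun hY 0) 0
  have b2 := congrFun (congrFun hY 0) 1
  simp [Matrix.mul_apply, Fin.sum_univ_two] at a1 a2 b1 b2
  rw [h0, h1] at a1 a2
  have e1 : N 0 1 * X 1 0 = N 0 1 * Y 1 0 := by linear_combination a1 - b1
  have e2 : N 0 1 * X 1 1 = N 0 1 * Y 1 1 := by linear_combination a2 - b2
  ext i j
  fin_cases i <;> fin_cases j
  · exact h0
  · exact h1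
  · exact mul_left_cancel₀ hb e1
  · exact mul_left_cancel₀ hb e2

/-- The same with the other off-diagonal entry. -/
theorem commutant_row' {N X Y : M₂} (hb : N 1 0 ≠ 0) (hX : N * X = X * N) (hY : N * Y = Y * N)
    (h0 : X 0 0 = Y 0 0) (h1 : X 1 0 = Y 1 0) : X = Y := by
  have a1 := congrFun (congrFun hX 0) 0
  have a2 := congrFun (congrFun hX 1) 0
  have b1 := congrFun (congrFun hY 0) 0
  have b2 := congrFun (congrFun hY 1) 0
  simp [Matrix.mul_apply, Fin.sum_univ_two] at a1 a2 b1 b2
  rw [h0, h1] at a1 a2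
  have e1 : N 1 0 * X 0 1 = N 1 0 * Y 0 1 := by linear_combination b1 - a1
  have e2 : N 1 0 * X 1 1 = N 1 0 * Y 1 1 := by linear_combination b2 - a2
  ext i j
  fin_cases i <;> fin_cases j
  · exact h0
  · exact mul_left_cancel₀ hb e1
  · exact h1
  · exact mul_left_cancel₀ hb e2

theorem nil_offdiag {N : M₂} (h : N * N = 0) (hN : N ≠ 0) : N 0 1 ≠ 0 ∨ N 1 0 ≠ 0 := by
  by_contra hh
  push Not at hh
  apply hN
  have a1 := congrFun (congrFun h 0) 0
  have a2 := congrFun (congrFun h 1) 1
  simp [Matrix.mul_apply, Fin.sum_univ_two, hh.1, hh.2] at a1 a2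
  ext i j
  fin_cases i <;> fin_cases j
  · exact a1
  · exact hh.1
  · exact hh.2
  · exact a2

variable [Fintype k]

theorem card_mat : Nat.card M₂ = Nat.card k ^ 4 := by
  classical
  rw [Nat.card_eq_fintype_card, Nat.card_eq_fintype_card]
  show Fintype.card (Fin 2 → Fin 2 → k) = _
  simp only [Fintype.card_fun, Fintype.card_fin]
  ring

theorem card_commutant {N : M₂} (h : N * N = 0) (hN : N ≠ 0) (U : AddSubgroup M₂)
    (hU : ∀ X ∈ U, N * X = X * N) : Nat.card U ≤ Nat.card k ^ 2 := by
  rw [pow_two, ← Nat.card_prod]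
  rcases nil_offdiag h hN with hb | hb
  · refine Nat.card_le_card_of_injective (fun X : U => (X.1 0 0, X.1 0 1)) ?_
    intro X Y e
    simp only [Prod.mk.injEq] at e
    exact Subtype.ext (commutant_row hb (hU _ X.2) (hU _ Y.2) e.1 e.2)
  · refine Nat.card_le_card_of_injective (fun X : U => (X.1 0 0, X.1 1 0)) ?_
    intro X Y e
    simp only [Prod.mk.injEq] at e
    exact Subtype.ext (commutant_row' hb (hU _ X.2) (hU _ Y.2) e.1 e.2)

theorem card_trace_zero (U : AddSubgroup M₂) (hU : ∀ X ∈ U, X.trace = 0) :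
    Nat.card U * Nat.card k ≤ Nat.card M₂ := by
  rw [← Nat.card_prod]
  refine Nat.card_le_card_of_injective (fun p : U × k => p.1.1 + Matrix.single 0 0 p.2) ?_
  intro p q e
  have e' : (p.1 : M₂) + Matrix.single 0 0 p.2 = (q.1 : M₂) + Matrix.single 0 0 q.2 := e
  have ht := congrArg Matrix.trace e'
  rw [Matrix.trace_add, Matrix.trace_add, hU _ p.1.2, hU _ q.1.2, zero_add, zero_add,
    Matrix.trace_single_eq_same, Matrix.trace_single_eq_same] at ht
  rw [ht] at e'
  exact Prod.ext (Subtype.ext (add_right_cancel e')) ht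

/-- In characteristic two, a quadratic relation determines the trace. -/
theorem quad_trace (A : M₂) (t b : k) (h : A * A + t • A = b • 1)
    (hA : ¬ ∃ c : k, A = c • 1) (h2 : (2 : k) = 0) : t = A.trace := by
  by_contra ht
  apply hA
  have hne : t - A.trace ≠ 0 := sub_ne_zero.2 ht
  have ch : A * A + A.trace • A + A.det • (1 : M₂) = 0 := by
    have hneg : ∀ x : k, -x = x := fun x => by linear_combination (-x) * h2
    ext i j
    rw [Matrix.det_fin_two, Matrix.trace_fin_two]
    fin_cases i <;> fin_cases j <;> simp [Matrix.mul_apply, Fin.sum_univ_two]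
    · linear_combination (A 0 0 * A 0 0 + A 0 0 * A 1 1) * h2
    · linear_combination (A 0 1 * A 0 0 + A 0 1 * A 1 1) * h2
    · linear_combination (A 1 0 * A 0 0 + A 1 0 * A 1 1) * h2
    · linear_combination (A 1 1 * A 0 0 + A 1 1 * A 1 1) * h2
  refine ⟨(t - A.trace)⁻¹ * (b + A.det), ?_⟩
  have : (t - A.trace) • A = (b + A.det) • (1 : M₂) := by
    rw [sub_smul, add_smul, ← h]
    have e : A.trace • A = -(A * A) - A.det • (1 : M₂) := by
      rw [eq_sub_iff_add_eq, eq_neg_iff_add_eq_zero, ← ch]; abel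
    rw [e]; abel
  rw [mul_smul, ← this, smul_smul, inv_mul_cancel₀ hne, one_smul]

/-- Trace-preserving involutive ring endomorphisms of `M₂` come from `1 + N`, `N ^ 2 = 0`. -/
theorem exists_nil (h2 : (2 : k) = 0) (θ : M₂ →+* M₂) (hθ : ∀ X, θ (θ X) = X)
    (htr : ∀ X, (θ X).trace = X.trace) :
    ∃ N : M₂, N * N = 0 ∧ ∀ X, θ X * (1 + N) = (1 + N) * X := by
  classical
  haveI : CharP k 2 := CharTwo.of_one_ne_zero_of_two_eq_zero one_ne_zero h2
  have hlin : ∀ (c : k) (X : M₂), θ (c • X) = c • θ X := by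
    intro c X
    obtain ⟨μ, hμ⟩ := scalar_of_central (θ (c • (1 : M₂))) (fun Y => by
      conv_lhs => rw [← hθ Y, ← map_mul]
      conv_rhs => rw [← hθ Y, ← map_mul]
      rw [smul_mul_assoc, one_mul, mul_smul_comm, mul_one])
    have hall : ∀ Z : M₂, θ (c • Z) = μ • θ Z := fun Z => by
      rw [show c • Z = (c • (1 : M₂)) * Z by rw [smul_mul_assoc, one_mul], map_mul, hμ, smul_mul_assoc, one_mul]
    have := htr (c • Matrix.single 0 0 1)
    rw [hall, Matrix.trace_smul, htr, Matrix.trace_smul, Matrix.trace_single_eq_same, smul_eq_mul, smul_eq_mul,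
      mul_one, mul_one] at this
    rw [hall, this]
  let θl : M₂ →ₗ[k] M₂ :=
    { toFun := θ
      map_add' := map_add θ
      map_smul' := hlin }
  obtain ⟨a, b, hab⟩ : ∃ a b : Fin 2, θ (Matrix.single 0 0 1) a b ≠ 0 := by
    by_contra h
    push Not at h
    have h0 : θ (Matrix.single 0 0 1) = 0 := by ext a b; exact h a b
    have := htr (Matrix.single 0 0 1)
    rw [h0, Matrix.trace_zero, Matrix.trace_single_eq_same] at this
    exact zero_ne_one this
  let u : M₂ := ∑ i, θ (Matrix.single i 0 1) * Matrix.single b 0 1 * Matrix.single 0 i 1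
  have hint : ∀ X, θ X * u = u * X := by
    intro X
    have key : (LinearMap.mulRight k u).comp θl = LinearMap.mulLeft k u := by
      apply Matrix.ext_linearMap
      intro i j
      apply LinearMap.ext_ring
      show θ (Matrix.single i j 1) * u = u * Matrix.single i j 1
      simp only [u, Finset.mul_sum, Finset.sum_mul, ← mul_assoc, ← map_mul]
      rw [Finset.sum_eq_single j, Finset.sum_eq_single i]
      · simp [mul_assoc]
      · intro l _ hl
        simp [mul_assoc, Matrix.single_mul_single_of_ne _ _ _ _ hl]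
      · simp
      · intro l _ hl
        simp [Matrix.single_mul_single_of_ne _ _ _ _ hl.symm]
      · simp
    exact LinearMap.congr_fun key X
  have hu0 : u ≠ 0 := by
    intro h
    have := congrFun (congrFun h a) 0
    simp [u, Matrix.mul_apply, Fin.sum_univ_two, Matrix.single_apply] at this
    fin_cases b <;> simp_all
  have hdet : u.det ≠ 0 := by
    intro hd
    have hadj : u * u.adjugate = 0 := by rw [Matrix.mul_adjugate, hd, zero_smul]
    have hall : ∀ X, u * X * u.adjugate = 0 := fun X => by rw [← hint, mul_assoc, hadj, mul_zero]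
    apply hu0
    by_contra hu
    have hadj0 : u.adjugate ≠ 0 := fun h => hu (by
      have := congrArg Matrix.adjugate h
      rw [Matrix.adjugate_adjugate', Matrix.adjugate_zero] at this
      simpa using this)
    obtain ⟨i, j, hij⟩ : ∃ i j, u i j ≠ 0 := by
      by_contra h; push Not at h; exact hu (by ext i j; exact h i j)
    obtain ⟨l, m, hlm⟩ : ∃ l m, u.adjugate l m ≠ 0 := by
      by_contra h; push Not at h; exact hadj0 (by ext i j; exact h i j)
    have h0 := congrFun (congrFun (hall (Matrix.single j l 1)) i) m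
    simp [Matrix.mul_apply, Matrix.single_apply, Finset.sum_ite_eq, Finset.mem_univ] at h0
    fin_cases j <;> fin_cases l <;> simp_all
  have hcent : ∀ X, u * u * X = X * (u * u) := fun X => by
    rw [mul_assoc u u X, ← hint X, ← mul_assoc u, ← hint (θ X), hθ, mul_assoc]
  obtain ⟨ν, hν⟩ := scalar_of_central (u * u) hcent
  obtain ⟨r, hr⟩ : IsSquare ν := FiniteField.isSquare_of_char_two (ringChar.eq k 2) ν
  have hr0 : r ≠ 0 := by
    intro h
    apply hdet
    have := congrArg Matrix.det hν
    rw [hr, h, mul_zero, zero_smul, Matrix.det_mul, Matrix.det_zero] at this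
    exact mul_self_eq_zero.1 this
  refine ⟨r⁻¹ • u + 1, ?_, fun X => ?_⟩
  · have hsq : (r⁻¹ • u) * (r⁻¹ • u) = 1 := by
      rw [smul_mul_smul_comm, hν, hr, smul_smul]
      rw [show r⁻¹ * r⁻¹ * (r * r) = 1 by field_simp, one_smul]
    have h2M : ∀ X : M₂, X + X = 0 := fun X => by rw [← two_smul k X, h2, zero_smul]
    generalize r⁻¹ • u = w at hsq ⊢
    calc (w + 1) * (w + 1) = w * w + 1 + (w + w) := by noncomm_ring
      _ = 0 := by rw [hsq, h2M, h2M, add_zero]
  · have e : 1 + (r⁻¹ • u + 1) = r⁻¹ • u := by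
      have h2M : (1 : M₂) + 1 = 0 := by rw [← two_smul k (1 : M₂), h2, zero_smul]
      rw [add_comm (r⁻¹ • u), ← add_assoc, h2M, zero_add]
    rw [e, mul_smul_comm, smul_mul_assoc, hint]

/-- A commuting family of such endomorphisms has order at most `|k|`, with small fixed space. -/
theorem family_bound (h2 : (2 : k) = 0) {B : Type*} [Group B] [Finite B] (θ : B → M₂ →+* M₂)
    (hmul : ∀ b c X, θ (b * c) X = θ b (θ c X)) (hsq : ∀ b : B, b * b = 1)
    (htr : ∀ b X, (θ b X).trace = X.trace) (hf : ∀ b, (∀ X, θ b X = X) → b = 1) :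
    Nat.card B ≤ Nat.card k ∧ ∀ b, b ≠ 1 → ∀ U : AddSubgroup M₂, (∀ X ∈ U, θ b X = X) →
      Nat.card U ≤ Nat.card k ^ 2 := by
  classical
  have h2M : ∀ X : M₂, X + X = 0 := fun X => by rw [← two_smul k X, h2, zero_smul]
  have hid : ∀ X, θ 1 X = X := by
    intro X
    obtain ⟨Y, rfl⟩ : ∃ Y, θ 1 Y = X := by
      refine ⟨θ 1 X, ?_⟩
      rw [← hmul, one_mul]
      by_contra hne
      have inj : Function.Injective (θ 1) := by
        rcases (inferInstance : IsSimpleRing M₂).simple.eq_bot_or_eq_top (TwoSidedIdeal.ker (θ 1)) with h | h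
        · rwa [TwoSidedIdeal.ker_eq_bot] at h
        · have : (1 : M₂) ∈ TwoSidedIdeal.ker (θ 1) := h ▸ trivial
          rw [TwoSidedIdeal.mem_ker, map_one] at this
          exact absurd this one_ne_zero
      exact hne (inj (by rw [← hmul, one_mul]))
    rw [← hmul, one_mul]
  have hinv : ∀ b X, θ b (θ b X) = X := fun b X => by rw [← hmul, hsq, hid]
  have hcommB : ∀ b c : B, b * c = c * b := by
    intro b c
    have h1 : ∀ x : B, x⁻¹ = x := fun x => inv_eq_of_mul_eq_one_right (hsq x)
    rw [← h1 (b * c), mul_inv_rev, h1, h1]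
  choose N hN hNθ using fun b => exists_nil h2 (θ b) (hinv b) (htr b)
  have hone : ∀ b, (1 + N b) * (1 + N b) = 1 := fun b => by
    calc (1 + N b) * (1 + N b) = 1 + (N b + N b) + N b * N b := by noncomm_ring
      _ = 1 := by rw [h2M, hN, add_zero, add_zero]
  have hθ : ∀ b X, θ b X = (1 + N b) * X * (1 + N b) := fun b X => by
    rw [← hNθ, mul_assoc, hone, mul_one]
  have hN0 : ∀ b, b ≠ 1 → N b ≠ 0 := fun b hb h => hb (hf b fun X => by rw [hθ, h]; simp)
  have hdet : ∀ b, (1 + N b).det ≠ 0 := by
    intro b h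
    have := congrArg Matrix.det (hone b)
    rw [Matrix.det_mul, h, zero_mul, Matrix.det_one] at this
    exact zero_ne_one this
  have hcommN : ∀ b c, N b * N c = N c * N b := by
    intro b c
    obtain ⟨l, hl⟩ := scalar_of_central ((1 + N b) * (1 + N c) * ((1 + N b) * (1 + N c))) (fun X => by
      have h := hmul b c X
      rw [hcommB b c, hmul c b] at h
      simp only [hθ] at h
      calc (1 + N b) * (1 + N c) * ((1 + N b) * (1 + N c)) * X
          = (1 + N b) * (1 + N c) * ((1 + N b) * (1 + N c) * X * ((1 + N c) * (1 + N b))) * ((1 + N b) * (1 + N c)) := by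
            have : ((1 + N c) * (1 + N b)) * ((1 + N b) * (1 + N c)) = 1 := by
              rw [mul_assoc, ← mul_assoc (1 + N b), hone, one_mul, hone]
            simp only [mul_assoc] at this ⊢
            rw [this, mul_one]
        _ = (1 + N b) * (1 + N c) * ((1 + N c) * (1 + N b) * X * ((1 + N b) * (1 + N c))) * ((1 + N b) * (1 + N c)) := by
            congr 2
            simp only [mul_assoc] at h ⊢
            exact h.symm
        _ = X * ((1 + N b) * (1 + N c) * ((1 + N b) * (1 + N c))) := by
            have : (1 + N b) * (1 + N c) * ((1 + N c) * (1 + N b)) = 1 := by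
              rw [mul_assoc, ← mul_assoc (1 + N c), hone, one_mul, hone]
            simp only [← mul_assoc] at this ⊢
            rw [this, one_mul])
    have hdet1 : ∀ d, (1 + N d).det = 1 := by
      intro d
      have := congrArg Matrix.det (hone d)
      rw [Matrix.det_mul, Matrix.det_one] at this
      have h' : ((1 + N d).det + 1) ^ 2 = 0 := by linear_combination this + ((1 + N d).det + 1) * h2
      have := pow_eq_zero_iff (two_ne_zero) |>.1 h'
      linear_combination this - h2
    have := congrArg Matrix.det hl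
    rw [Matrix.det_mul, Matrix.det_mul, hdet1, hdet1, Matrix.det_smul, Fintype.card_fin, Matrix.det_one] at this
    have hl1 : (l + 1) ^ 2 = 0 := by linear_combination (-1 : k) * this + (1 + l) * h2
    have hl2 : l = 1 := by linear_combination (pow_eq_zero_iff (two_ne_zero)).1 hl1 - h2
    rw [hl2, one_smul] at hl
    have : (1 + N b) * (1 + N c) = (1 + N c) * (1 + N b) := by
      calc (1 + N b) * (1 + N c)
          = (1 + N b) * (1 + N c) * ((1 + N b) * ((1 + N c) * (1 + N c)) * (1 + N b)) := by
            rw [hone, mul_one, hone, mul_one]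
        _ = (1 + N b) * (1 + N c) * ((1 + N b) * (1 + N c)) * ((1 + N c) * (1 + N b)) := by simp only [mul_assoc]
        _ = _ := by rw [hl, one_mul]
    simp only [add_mul, mul_add, one_mul, mul_one] at this
    linear_combination (norm := abel) this
  have hfix : ∀ b, b ≠ 1 → ∀ U : AddSubgroup M₂, (∀ X ∈ U, θ b X = X) → Nat.card U ≤ Nat.card k ^ 2 := by
    intro b hb U hU
    refine card_commutant (hN b) (hN0 b hb) U fun X hX => ?_
    have := hNθ b X
    rw [hU X hX, mul_add, add_mul, mul_one, one_mul] at this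
    exact (add_left_cancel this).symm
  refine ⟨?_, hfix⟩
  by_cases htriv : ∀ b : B, b = 1
  · haveI : Subsingleton B := ⟨fun x y => (htriv x).trans (htriv y).symm⟩
    rw [Nat.card_of_subsingleton 1]
    exact Nat.card_pos
  push Not at htriv
  obtain ⟨b₀, hb₀⟩ := htriv
  have hinjN : ∀ c d, N c = N d → c = d := by
    intro c d h
    have : c * d = 1 := hf _ fun X => by rw [hmul, hθ d, ← h, ← hθ c, hinv]
    calc c = c * (d * d) := by rw [hsq, mul_one]
      _ = c * d * d := (mul_assoc _ _ _).symm
      _ = d := by rw [this, one_mul]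
  have hD : ∀ c (l : k), (N c - l • N b₀) * (N c - l • N b₀) = 0 := by
    intro c l
    rw [sub_mul, mul_sub, mul_sub, hN, smul_mul_smul_comm, hN, smul_zero, smul_mul_assoc, mul_smul_comm, hcommN b₀ c]
    rw [zero_sub, sub_zero, sub_eq_zero, neg_eq_iff_add_eq_zero]
    exact h2M _
  have hDc : ∀ c (l : k), N b₀ * (N c - l • N b₀) = (N c - l • N b₀) * N b₀ := by
    intro c l
    rw [mul_sub, sub_mul, hcommN, mul_smul_comm, smul_mul_assoc]
  have hsm : ∀ d : k, N b₀ * (d • (1 : M₂)) = (d • (1 : M₂)) * N b₀ := fun d => by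
    rw [mul_smul_comm, smul_mul_assoc, mul_one, one_mul]
  have scal : ∀ {D : M₂} (d : k), D = d • 1 → D * D = 0 → D = 0 := by
    intro D d hd hz
    rw [hd, smul_mul_smul_comm, mul_one, smul_eq_zero] at hz
    rcases hz with h | h
    · rw [hd, mul_self_eq_zero.1 h, zero_smul]
    · exact absurd h one_ne_zero
  rcases nil_offdiag (hN b₀) (hN0 b₀ hb₀) with hb | hb
  · refine Nat.card_le_card_of_injective (fun c => N c 0 1) ?_
    have det : ∀ c, N c = (N c 0 1 / N b₀ 0 1) • N b₀ := by
      intro c
      rw [← sub_eq_zero]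
      refine scal ((N c - (N c 0 1 / N b₀ 0 1) • N b₀) 0 0) (commutant_row hb (hDc c _) (hsm _) (by simp) ?_) (hD c _)
      simp [Matrix.sub_apply, Matrix.smul_apply, div_mul_cancel₀ _ hb]
    intro c d h
    exact hinjN c d (by rw [det c, det d]; simp only at h; rw [h])
  · refine Nat.card_le_card_of_injective (fun c => N c 1 0) ?_
    have det : ∀ c, N c = (N c 1 0 / N b₀ 1 0) • N b₀ := by
      intro c
      rw [← sub_eq_zero]
      refine scal ((N c - (N c 1 0 / N b₀ 1 0) • N b₀) 0 0) (commutant_row' hb (hDc c _) (hsm _) (by simp) ?_) (hD c _)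
      simp [Matrix.sub_apply, Matrix.smul_apply, div_mul_cancel₀ _ hb]
    intro c d h
    exact hinjN c d (by rw [det c, det d]; simp only at h; rw [h])

end Cfsg.Agent.H63
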