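import Cfsg.Agent.H63.PGVRing
import Cfsg.Agent.H63.PGVMat
import Mathlib.Algebra.Module.End

/-!
Commuting conjugate perfect groups acting on `V`, centralising `[V,a]` diagonally.
-/

set_option autoImplicit false

universe u

namespace Cfsg.Agent.H63

variable {K : Type*} [Group K] {G : Type*} [Group G] {V : Type u} [AddCommGroup V] [DistribMulAction G V]

/-- A perfect group which acts trivially on a set containing all its displacements acts trivially. -/
theorem perfect_stab (hK : commutator K = ⊤) (φ : K →* G)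
    (h : ∀ g k : K, ∀ v : V, φ g • (φ k • v - v) = φ k • v - v) (k : K) (v : V) : φ k • v = v := by
  have hcomm : ∀ g k : K, ∀ v : V, φ g • φ k • v = φ k • φ g • v := by
    intro g k v
    have h1 := h g k v
    have h2 := h k g v
    rw [smul_sub] at h1 h2
    rw [← sub_eq_iff_eq_add.1 h1 |>.symm, ← sub_eq_iff_eq_add.1 h2 |>.symm]
    abel
  have := perfect_hom_comm hK ((DistribMulAction.toAddMonoidEnd G V).toHomUnits.comp φ) (fun g k => by
    apply Units.ext
    apply AddMonoidHom.ext
    intro v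
    exact hcomm g k v) k
  exact congrArg (fun f : (AddMonoid.End V)ˣ => (f : AddMonoid.End V) v) this

/-- If `φ K` and its `a`-conjugate commute and `φ K` fixes `[V,a]`, then `φ K` is trivial. -/
theorem finish (hK : commutator K = ⊤) (φ : K →* G) (a : G)
    (hc : ∀ g h, Commute (φ g) (a * φ h * a⁻¹))
    (hfix : ∀ k : K, ∀ v : V, φ k • (a • v - v) = a • v - v) (k : K) (v : V) : φ k • v = v := by
  let T : G →* (AddMonoid.End V)ˣ := (DistribMulAction.toAddMonoidEnd G V).toHomUnits
  have Tapp : ∀ g w, ((T g : (AddMonoid.End V)ˣ) : AddMonoid.End V) w = g • w := fun _ _ => rfl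
  let φ1 : K →* G := (MulAut.conj a).toMonoidHom.comp φ
  have h1 : ∀ h, φ1 h = a * φ h * a⁻¹ := fun _ => rfl
  have fix1 : ∀ (k : K) (w : V), φ1 k • (a • w - w) = a • w - w := by
    intro k w
    rw [h1, mul_smul, mul_smul]
    have hw : a⁻¹ • (a • w - w) = a • (a⁻¹ • w) - a⁻¹ • w := by rw [smul_sub, inv_smul_smul, smul_inv_smul]
    rw [hw, hfix, ← hw, smul_inv_smul]
  let u : K → G := fun h => φ h * (φ1 h)⁻¹
  have hdisp : ∀ (h : K) (w : V), ∃ w', u h • w - w = a • w' - w' := by
    intro h w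
    have e : u h • w = φ h • a • (φ h)⁻¹ • a⁻¹ • w := by
      rw [← mul_smul, ← mul_smul, ← mul_smul]
      congr 1
      show φ h * (φ1 h)⁻¹ = _
      rw [h1]; group
    refine ⟨(φ h)⁻¹ • a⁻¹ • w - a⁻¹ • w, ?_⟩
    have k1 := hfix h ((φ h)⁻¹ • a⁻¹ • w)
    rw [smul_sub, smul_inv_smul (φ h)] at k1
    rw [e, sub_eq_iff_eq_add.1 k1, smul_sub, smul_inv_smul a]
    abel
  have hufix : ∀ (h : K) (w : V), u h • (a • w - w) = a • w - w := by
    intro h w
    show (φ h * (φ1 h)⁻¹) • _ = _
    rw [mul_smul]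
    conv_lhs => rw [← fix1 h w, inv_smul_smul]
    exact hfix h w
  have hcomm : ∀ (h h' : K) (w : V), u h • u h' • w = u h' • u h • w := by
    intro h h' w
    obtain ⟨x, hx⟩ := hdisp h w
    obtain ⟨x', hx'⟩ := hdisp h' w
    rw [sub_eq_iff_eq_add] at hx hx'
    rw [hx', hx, smul_add, smul_add, hufix, hufix, hx, hx']
    abel
  have huu : ∀ h h', u h * u h' = φ (h * h') * (φ1 (h' * h))⁻¹ := by
    intro h h'
    show φ h * (φ1 h)⁻¹ * (φ h' * (φ1 h')⁻¹) = _
    rw [map_mul, map_mul, mul_inv_rev]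
    have hcc : Commute (φ h') (φ1 h)⁻¹ := ((h1 h) ▸ hc h' h).inv_right
    rw [mul_assoc, ← mul_assoc (φ1 h)⁻¹, ← hcc.eq]
    simp only [mul_assoc]
  have hcent : ∀ g h m : K, Commute (T (φ ((g * h)⁻¹ * (h * g)))) (T (φ m)) := by
    intro g h m
    have e : T (φ ((g * h)⁻¹ * (h * g))) = T (φ1 ((h * g)⁻¹ * (g * h))) := by
      have hT : T (u h * u g) = T (u g * u h) := by
        apply Units.ext
        apply AddMonoidHom.ext
        intro w
        show (u h * u g) • w = (u g * u h) • w
        exact ((mul_smul (u h) (u g) w).trans (hcomm h g w)).trans (mul_smul (u g) (u h) w).symm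
      rw [huu, huu, T.map_mul, T.map_mul, T.map_inv, T.map_inv] at hT
      have gen' : ∀ {P Q R S : (AddMonoid.End V)ˣ}, P * Q⁻¹ = R * S⁻¹ → R⁻¹ * P = S⁻¹ * Q := by
        intro P Q R S hh
        calc R⁻¹ * P = R⁻¹ * (P * Q⁻¹) * Q := by group
          _ = _ := by rw [hh]; group
      rw [map_mul φ, map_inv φ, map_mul φ1 ((h * g)⁻¹), map_inv φ1, T.map_mul, T.map_inv, T.map_mul, T.map_inv]
      exact gen' hT
    rw [e]
    exact (Commute.map (((h1 _) ▸ hc m _ : Commute (φ m) (φ1 ((h * g)⁻¹ * (g * h))))) T).symm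
  let ψ : K →* (AddMonoid.End V)ˣ := T.comp φ
  have hab : ∀ g m, ψ g * ψ m = ψ m * ψ g := by
    let C : Subgroup K := (Subgroup.centralizer (ψ.range : Set (AddMonoid.End V)ˣ)).comap ψ
    have htop : C = ⊤ := by
      refine eq_top_of_commutators hK C fun g h => ?_
      show ψ _ ∈ Subgroup.centralizer _
      rw [Subgroup.mem_centralizer_iff]
      rintro _ ⟨m, rfl⟩
      exact ((hcent h g m)).symm.eq
    intro g m
    have hg : g ∈ C := htop ▸ Subgroup.mem_top g
    exact (Subgroup.mem_centralizer_iff.1 hg (ψ m) ⟨m, rfl⟩).symm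
  have := perfect_hom_comm hK ψ hab k
  exact congrArg (fun f : (AddMonoid.End V)ˣ => (f : AddMonoid.End V) v) this

/-- The ring generated by the image of `φ`. -/
def genRing (φ : K →* G) (V : Type u) [AddCommGroup V] [DistribMulAction G V] : Subring (AddMonoid.End V) :=
  Subring.closure (Set.range fun k => DistribMulAction.toAddMonoidEnd G V (φ k))

/-- The generators as units. -/
def gen (φ : K →* G) (V : Type u) [AddCommGroup V] [DistribMulAction G V] : K →* (genRing φ V)ˣ :=
  MonoidHom.toHomUnits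
    { toFun := fun k => ⟨DistribMulAction.toAddMonoidEnd G V (φ k), Subring.subset_closure ⟨k, rfl⟩⟩
      map_one' := Subtype.ext (show DistribMulAction.toAddMonoidEnd G V (φ 1) = 1 by rw [map_one, map_one])
      map_mul' := fun g h => Subtype.ext (show DistribMulAction.toAddMonoidEnd G V (φ (g * h)) = _ * _ by rw [map_mul, map_mul]) }

theorem gen_apply (φ : K →* G) (k : K) (v : V) :
    (((gen φ V k : (genRing φ V)ˣ) : genRing φ V) : AddMonoid.End V) v = φ k • v := rfl

theorem genRing_induction (φ : K →* G) {P : genRing φ V → Prop} (h0 : P 0) (ha : ∀ f g, P f → P g → P (f + g))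
    (hn : ∀ f, P f → P (-f)) (hg : ∀ k, P (gen φ V k)) (f : genRing φ V) : P f := by
  let S : AddSubgroup (genRing φ V) :=
    AddSubgroup.closure (Set.range fun k => ((gen φ V k : (genRing φ V)ˣ) : genRing φ V))
  have hS : f ∈ S := by
    have hclosed : ∀ x ∈ S, ∀ y ∈ S, x * y ∈ S := by
      intro x hx y hy
      induction hx, hy using AddSubgroup.closure_induction₂ with
      | mem x y hx hy =>
        obtain ⟨g, rfl⟩ := hx
        obtain ⟨h, rfl⟩ := hy
        exact AddSubgroup.subset_closure ⟨g * h, by simp⟩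
      | zero_left x hx => simp
      | zero_right x hx => simp
      | add_left x y z hx hy hz h1 h2 => rw [add_mul]; exact add_mem h1 h2
      | add_right y z x hy hz hx h1 h2 => rw [mul_add]; exact add_mem h1 h2
      | neg_left x y hx hy h => rw [neg_mul]; exact neg_mem h
      | neg_right x y hx hy h => rw [mul_neg]; exact neg_mem h
    obtain ⟨x, hx⟩ := f
    induction hx using Subring.closure_induction with
    | mem x hx => obtain ⟨k, rfl⟩ := hx; exact AddSubgroup.subset_closure ⟨k, rfl⟩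
    | zero => exact zero_mem S
    | one =>
      refine AddSubgroup.subset_closure ⟨1, ?_⟩
      simp; rfl
    | add x y hx hy h1 h2 => exact add_mem h1 h2
    | neg x hx h => exact neg_mem h
    | mul x y hx hy h1 h2 => exact hclosed _ h1 _ h2
  induction hS using AddSubgroup.closure_induction with
  | mem x hx => obtain ⟨k, rfl⟩ := hx; exact hg k
  | zero => exact h0
  | add x y _ _ h1 h2 => exact ha x y h1 h2
  | neg x _ h => exact hn x h

theorem genRing_commute (φ : K →* G) {o : G} (ho : ∀ x, Commute o (φ x)) (f : genRing φ V) (v : V) :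
    o • (f : AddMonoid.End V) v = (f : AddMonoid.End V) (o • v) := by
  induction f using genRing_induction φ generalizing v with
  | h0 => simp
  | ha f g h1 h2 =>
    show o • ((f : AddMonoid.End V) v + (g : AddMonoid.End V) v) = (f : AddMonoid.End V) _ + (g : AddMonoid.End V) _
    rw [smul_add, h1, h2]
  | hn f h =>
    show o • (-(f : AddMonoid.End V) v) = -(f : AddMonoid.End V) _
    rw [smul_neg, h]
  | hg k => rw [gen_apply, gen_apply, ← mul_smul, ← mul_smul, (ho k).eq]

/-- `φ K` fixes `y` unless the algebra it generates on `y` has a nontrivial matrix quotient. -/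
theorem fixed_of_factor [Finite V] (hK : commutator K = ⊤) (φ : K →* G) (y : V)
    (hy : ∀ k, ∃ o : G, (∀ x, Commute o (φ x)) ∧ φ k • y = o • y)
    (h : ∀ (n : ℕ) (k : Type u) [Field k] [Fintype k] (π : genRing φ V →+* Matrix (Fin n) (Fin n) k),
      Function.Surjective π → (∀ f : genRing φ V, (f : AddMonoid.End V) y = 0 → π f = 0) →
      ∀ x, π (gen φ V x) = 1)
    (k : K) : φ k • y = y := by
  haveI : Finite (AddMonoid.End V) := Finite.of_injective (fun f => (f : V → V)) DFunLike.coe_injective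
  let I : Ideal (genRing φ V) :=
    { carrier := {f | (f : AddMonoid.End V) y = 0}
      zero_mem' := rfl
      add_mem' := fun {f g} hf hg => by
        show (f : AddMonoid.End V) y + (g : AddMonoid.End V) y = 0
        rw [hf, hg, add_zero]
      smul_mem' := fun c f hf => by
        show (c : AddMonoid.End V) ((f : AddMonoid.End V) y) = 0
        rw [hf, map_zero] }
  haveI : I.IsTwoSided := by
    refine ⟨fun {f} g hf => ?_⟩
    induction g using genRing_induction φ with
    | h0 => simp
    | ha g g' h1 h2 => rw [mul_add]; exact I.add_mem h1 h2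
    | hn g h => rw [mul_neg]; exact I.neg_mem h
    | hg m =>
      obtain ⟨o, ho, e⟩ := hy m
      show (f : AddMonoid.End V) (φ m • y) = 0
      rw [e, ← genRing_commute φ ho, hf, smul_zero]
  let ψ : K →* (genRing φ V ⧸ I)ˣ := (Units.map (Ideal.Quotient.mk I).toMonoidHom).comp (gen φ V)
  by_cases htriv : ∀ x, ψ x = 1
  · have := congrArg Units.val (htriv k)
    rw [Units.val_one, ← map_one (Ideal.Quotient.mk I)] at this
    have h' : ((gen φ V k : genRing φ V) - 1 : genRing φ V) ∈ I := Ideal.Quotient.eq.1 this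
    exact sub_eq_zero.1 h'
  · push Not at htriv
    haveI : Finite (genRing φ V ⧸ I) := Finite.of_surjective _ Ideal.Quotient.mk_surjective
    obtain ⟨n, F, _, _, π, hπ, x, hx⟩ := exists_matrix_factor hK ψ htriv
    exact absurd (h n F (π.comp (Ideal.Quotient.mk I)) (hπ.comp Ideal.Quotient.mk_surjective)
      (fun f hf => by
        show π (Ideal.Quotient.mk I f) = 0
        rw [Ideal.Quotient.eq_zero_iff_mem.2 hf, map_zero]) x) hx

theorem char_of_exponent {φ : K →* G} {n p : ℕ} {k : Type u} [Field k] (hn : 0 < n)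
    (π : genRing φ V →+* Matrix (Fin n) (Fin n) k) (y : V) (hp : p • y = 0)
    (hker : ∀ f : genRing φ V, (f : AddMonoid.End V) y = 0 → π f = 0) : (p : k) = 0 := by
  have h : π ((p : genRing φ V)) = 0 := hker _ (by
    rw [SubringClass.coe_natCast, AddMonoid.End.natCast_apply, hp])
  rw [map_natCast, ← Matrix.diagonal_natCast, Matrix.diagonal_eq_zero] at h
  exact congrFun h ⟨0, hn⟩

/-- Odd case: three commuting conjugates with equal displacement action on `y`. -/
theorem odd_step [Finite V] (hK : commutator K = ⊤) (φ : K →* G) (a : G) {p : ℕ} (hp : p • (1 : ℕ) ≠ 0)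
    (hodd : Odd p) (y : V) (hpy : p • y = 0)
    (h01 : ∀ g h, Commute (φ g) (a * φ h * a⁻¹)) (h02 : ∀ g h, Commute (φ g) (a * (a * φ h * a⁻¹) * a⁻¹))
    (hy : ∀ k, ∃ o : G, (∀ x, Commute o (φ x)) ∧ φ k • y = o • y)
    (r1 : ∀ g x, φ (g * x * g⁻¹) • y - φ x • y = (a * φ (g * x * g⁻¹) * a⁻¹) • y - (a * φ x * a⁻¹) • y)
    (r2 : ∀ g x, (a * φ (g * x * g⁻¹) * a⁻¹) • y - (a * φ x * a⁻¹) • y =
      (a * (a * φ (g * x * g⁻¹) * a⁻¹) * a⁻¹) • y - (a * (a * φ x * a⁻¹) * a⁻¹) • y)
    (k : K) : φ k • y = y := by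
  refine fixed_of_factor hK φ y hy (fun n F _ _ π hπ hker x => ?_) k
  rcases Nat.eq_zero_or_pos n with rfl | hn
  · exact Subsingleton.elim _ _
  set e := DistribMulAction.toAddMonoidEnd G V with he
  let D : (K → G) → K → K → AddMonoid.End V := fun f g x => e (f (g * x * g⁻¹)) - e (f x)
  let f1 : K → G := fun x => a * φ x * a⁻¹
  let f2 : K → G := fun x => a * (a * φ x * a⁻¹) * a⁻¹
  have comm : ∀ (f f' : K → G), (∀ u v, Commute (f u) (f' v)) → ∀ g x g' x', Commute (D f g x) (D f' g' x') := by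
    intro f f' h g x g' x'
    exact (((h _ _).map e).sub_right ((h _ _).map e)).sub_left (((h _ _).map e).sub_right ((h _ _).map e))
  have h12 : ∀ u v, Commute (f1 u) (f2 v) := fun u v => (h01 u v).map (MulAut.conj a).toMonoidHom
  have app : ∀ f g x, D f g x y = f (g * x * g⁻¹) • y - f x • y := fun _ _ _ => rfl
  have e1 : ∀ g x, D φ g x y = D f1 g x y := fun g x => by rw [app, app]; exact r1 g x
  have e2 : ∀ g x, D f1 g x y = D f2 g x y := fun g x => by rw [app, app]; exact r2 g x
  have sw : ∀ (A B : AddMonoid.End V), Commute A B → A (B y) = B (A y) := fun A B h => congrArg (fun T : AddMonoid.End V => T y) h.eq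
  have main : ∀ g x g' x', D φ g x (D φ g' x' y) = D φ g' x' (D φ g x y) := by
    intro g x g' x'
    calc D φ g x (D φ g' x' y) = D φ g x (D f1 g' x' y) := by rw [e1]
      _ = D f1 g' x' (D φ g x y) := sw _ _ (comm φ f1 h01 _ _ _ _)
      _ = D f1 g' x' (D f2 g x y) := by rw [e1 g x, e2 g x]
      _ = D f2 g x (D f1 g' x' y) := sw _ _ (comm f1 f2 h12 _ _ _ _)
      _ = D f2 g x (D φ g' x' y) := by rw [e1 g' x']
      _ = D φ g' x' (D f2 g x y) := (sw _ _ (comm φ f2 h02 _ _ _ _)).symm
      _ = D φ g' x' (D φ g x y) := by rw [e1 g x, e2 g x]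
  let d : K → K → genRing φ V := fun g x => (gen φ V (g * x * g⁻¹) : genRing φ V) - (gen φ V x : genRing φ V)
  have hd : ∀ g x g' x', π (d g x) * π (d g' x') = π (d g' x') * π (d g x) := by
    intro g x g' x'
    rw [← map_mul, ← map_mul, ← sub_eq_zero, ← map_sub]
    exact hker _ (sub_eq_zero.2 (main g x g' x'))
  let X : K → Matrix (Fin n) (Fin n) F := fun k => π (gen φ V k)
  have hX : ∀ g h, X g * X h = X (g * h) := fun g h => by simp [X]
  have hcomgen : ∀ g h g' h', (X g * X h - X h * X g) * (X g' * X h' - X h' * X g') =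
      (X g' * X h' - X h' * X g') * (X g * X h - X h * X g) := by
    intro g h g' h'
    have : ∀ g h, X g * X h - X h * X g = - π (d h (g * h)) := by
      intro g h
      rw [hX, hX, map_sub, neg_sub]
      show X (g * h) - X (h * g) = X (g * h) - X (h * (g * h) * h⁻¹)
      rw [show h * (g * h) * h⁻¹ = h * g by group]
    rw [this, this, neg_mul_neg, neg_mul_neg, hd]
  have ind : ∀ (P : Matrix (Fin n) (Fin n) F → Prop), P 0 → (∀ A B, P A → P B → P (A + B)) → (∀ A, P A → P (-A)) →
      (∀ k, P (X k)) → ∀ A, P A := by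
    intro P h0 ha hn' hg A
    obtain ⟨f, rfl⟩ := hπ A
    induction f using genRing_induction φ with
    | h0 => simpa using h0
    | ha f g h1 h2 => rw [map_add]; exact ha _ _ h1 h2
    | hn f h => rw [map_neg]; exact hn' _ h
    | hg k => exact hg k
  have hlie : ∀ A B C D : Matrix (Fin n) (Fin n) F,
      (A * B - B * A) * (C * D - D * C) = (C * D - D * C) * (A * B - B * A) := by
    intro A B C D
    let L : Matrix (Fin n) (Fin n) F → Matrix (Fin n) (Fin n) F → Matrix (Fin n) (Fin n) F := fun A B => A * B - B * A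
    show Commute (L A B) (L C D)
    have la : ∀ A A' B, L (A + A') B = L A B + L A' B := fun A A' B => by simp only [L]; noncomm_ring
    have lb : ∀ A B B', L A (B + B') = L A B + L A B' := fun A B B' => by simp only [L]; noncomm_ring
    have na : ∀ A B, L (-A) B = -L A B := fun A B => by simp only [L]; noncomm_ring
    have nb : ∀ A B, L A (-B) = -L A B := fun A B => by simp only [L]; noncomm_ring
    have za : ∀ B, L 0 B = 0 := fun B => by simp [L]
    have zb : ∀ A, L A 0 = 0 := fun A => by simp [L]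
    refine ind (fun A => ∀ B C D, Commute (L A B) (L C D)) (fun B C D => by simp [za])
      (fun A A' h h' B C D => by rw [la]; exact (h B C D).add_left (h' B C D))
      (fun A h B C D => by rw [na]; exact (h B C D).neg_left) (fun g => ?_) A B C D
    refine ind (fun B => ∀ C D, Commute (L (X g) B) (L C D)) (fun C D => by simp [zb])
      (fun B B' h h' C D => by rw [lb]; exact (h C D).add_left (h' C D))
      (fun B h C D => by rw [nb]; exact (h C D).neg_left) (fun h => ?_)
    refine ind (fun C => ∀ D, Commute (L (X g) (X h)) (L C D)) (fun D => by simp [za])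
      (fun C C' q q' D => by rw [la]; exact (q D).add_right (q' D))
      (fun C q D => by rw [na]; exact (q D).neg_right) (fun g' => ?_)
    exact ind (fun D => Commute (L (X g) (X h)) (L (X g') D)) (by simp [zb])
      (fun D D' q q' => by rw [lb]; exact q.add_right q')
      (fun D q => by rw [nb]; exact q.neg_right) (fun h' => hcomgen g h g' h')
  have h2 : (2 : F) ≠ 0 := by
    intro h2
    obtain ⟨m, rfl⟩ := hodd
    have := char_of_exponent hn π y hpy hker
    push_cast at this
    rw [h2, zero_mul, zero_add] at this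
    exact one_ne_zero this
  have hle := le_one_of_lie h2 hlie
  let ψ : K →* (Matrix (Fin n) (Fin n) F)ˣ := (Units.map π.toMonoidHom).comp (gen φ V)
  exact congrArg Units.val (perfect_hom_comm hK ψ (fun g h => Units.ext (mat_comm_of_le_one hle _ _)) x)

/-- Four commuting conjugates under a quadratically acting four-group. -/
theorem four_step [Finite V] (hK : commutator K = ⊤) (φ : K →* G) (a c : G) (hV : ∀ v : V, v + v = 0)
    (ha : a * a = 1) (hcc : c * c = 1) (hac : Commute a c)
    (h1 : ∀ g h, Commute (φ g) (a * φ h * a⁻¹)) (h2 : ∀ g h, Commute (φ g) (c * φ h * c⁻¹))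
    (h3 : ∀ g h, Commute (φ g) (a * c * φ h * (a * c)⁻¹))
    (hD : ∀ g, ∀ v : V, (φ g * (a * φ g * a⁻¹)) • (a • v - v) = a • v - v)
    (hcY : ∀ v : V, c • (a • v - v) = a • v - v) (k : K) (w : V) :
    φ k • (a • w - w) = a • w - w := by
  set y := a • w - w with hy_def
  have hsub : ∀ u v : V, u - v = u + v := fun u v => by
    rw [sub_eq_add_neg, neg_eq_of_add_eq_zero_left (hV v)]
  have aY : ∀ v : V, a • (a • v - v) = a • v - v := fun v => by
    rw [smul_sub, ← mul_smul, ha, one_smul, hsub, hsub, add_comm]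
  obtain ⟨f1, hf1⟩ : ∃ f : K → G, ∀ x, f x = a * φ x * a⁻¹ := ⟨_, fun _ => rfl⟩
  obtain ⟨f2, hf2⟩ : ∃ f : K → G, ∀ x, f x = c * φ x * c⁻¹ := ⟨_, fun _ => rfl⟩
  obtain ⟨f3, hf3⟩ : ∃ f : K → G, ∀ x, f x = a * c * φ x * (a * c)⁻¹ := ⟨_, fun _ => rfl⟩
  simp only [← hf1, ← hf2, ← hf3] at h1 h2 h3 hD
  have ay : a • y = y := aY w
  have cy : c • y = y := hcY w
  have af : ∀ x, a * φ x = f1 x * a := fun x => by simp [hf1]
  have af2 : ∀ x, a * f2 x = f3 x * a := fun x => by
    simp only [hf2, hf3, mul_inv_rev]; group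
  have cf : ∀ x, c * φ x = f2 x * c := fun x => by simp [hf2]
  have cf1 : ∀ x, c * f1 x = f3 x * c := fun x => by
    simp only [hf1, hf3, hac.eq, mul_inv_rev]; group
  have af2' : ∀ x, a * f3 x * a⁻¹ = f2 x := fun x => by
    rw [mul_inv_eq_iff_eq_mul]
    calc a * f3 x = a * (f3 x * a) * a⁻¹ := by group
      _ = a * (a * f2 x) * a⁻¹ := by rw [af2]
      _ = f2 x * a⁻¹ := by rw [← mul_assoc a a, ha, one_mul]
      _ = f2 x * a := by rw [inv_eq_of_mul_eq_one_right ha]
  have cmap : ∀ (o : G) {u v : G}, Commute u v → Commute (o * u * o⁻¹) (o * v * o⁻¹) :=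
    fun o u v h => h.map (MulAut.conj o).toMonoidHom
  have ainv : a⁻¹ = a := inv_eq_of_mul_eq_one_right ha
  have cinv : c⁻¹ = c := inv_eq_of_mul_eq_one_right hcc
  have c12 : ∀ g h, Commute (f1 g) (f2 h) := by
    intro g h
    have := cmap a (h3 g h)
    rw [← hf1, af2' h] at this
    exact this
  have c13 : ∀ g h, Commute (f1 g) (f3 h) := by
    intro g h
    have := cmap a (h2 g h)
    rw [← hf1, af2, mul_inv_cancel_right] at this
    exact this
  have c23 : ∀ g h, Commute (f2 g) (f3 h) := by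
    intro g h
    have := cmap c (h1 g h)
    rw [← hf2, cf1, mul_inv_cancel_right] at this
    exact this
  -- the inverse on `y`
  have hinv : ∀ x, f1 x • y = φ x⁻¹ • y := by
    intro x
    have h := hD x w
    rw [mul_smul, ← hy_def] at h
    rw [map_inv, eq_inv_smul_iff]
    exact h
  have hY : ∀ x, a • φ x • y - φ x • y = f1 x • y + φ x • y := fun x => by
    rw [← mul_smul, af, mul_smul, ay, hsub]
  let s : K → V := fun x => φ x • y + φ x⁻¹ • y
  have hs : ∀ x, s x = a • φ x • y - φ x • y := fun x => by rw [hY, hinv, add_comm]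
  -- conjugation by the diagonal
  have dconj : ∀ g x, φ g * f1 g * φ x = φ (g * x * g⁻¹) * (φ g * f1 g) := by
    intro g x
    calc φ g * f1 g * φ x = φ g * φ x * f1 g := by rw [mul_assoc, ← (h1 x g).eq, ← mul_assoc]
      _ = _ := by
        rw [← mul_assoc (φ (g * x * g⁻¹)), ← map_mul φ (g * x * g⁻¹) g, inv_mul_cancel_right, map_mul]
  have dconj1 : ∀ g x, φ g * f1 g * f1 x = f1 (g * x * g⁻¹) * (φ g * f1 g) := by
    intro g x
    calc φ g * f1 g * f1 x = f1 g * f1 x * φ g := by
          rw [mul_assoc, ((h1 g g).mul_right (h1 g x)).eq]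
      _ = f1 (g * x * g⁻¹) * (f1 g * φ g) := by
          rw [← mul_assoc]
          congr 1
          simp only [hf1, map_mul, map_inv]; group
      _ = _ := by rw [(h1 g g).eq]
  have hy : ∀ k, ∃ o : G, (∀ x, Commute o (φ x)) ∧ φ k • y = o • y :=
    fun k => ⟨f1 k⁻¹, fun x => (h1 x _).symm, by rw [hinv, inv_inv]⟩
  have hsconj : ∀ g x, s (g * x * g⁻¹) = s x := by
    intro g x
    have h := hD g (φ x • y)
    rw [← hs, smul_add, ← mul_smul, ← mul_smul, dconj, dconj, mul_smul, mul_smul (φ (g * x⁻¹ * g⁻¹)), hD g w] at h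
    show φ (g * x * g⁻¹) • y + φ (g * x * g⁻¹)⁻¹ • y = _
    rw [show (g * x * g⁻¹)⁻¹ = g * x⁻¹ * g⁻¹ by group]
    exact h
  have hst : ∀ t, f2 t • y + f3 t • y = s t := by
    intro t
    have h := hcY (φ t • y)
    rw [← mul_smul a, af, mul_smul, ay, hsub, smul_add, ← mul_smul, ← mul_smul, cf, cf1, mul_smul, mul_smul, cy] at h
    rw [add_comm, h, hinv, add_comm]
  refine fixed_of_factor hK φ y hy (fun n F _ _ π hπ hker x => ?_) k
  let X : K → Matrix (Fin n) (Fin n) F := fun k => π (gen φ V k)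
  have hX : ∀ g h, X g * X h = X (g * h) := fun g h => by simp [X]
  have key : ∀ g x t, (X (g * x * g⁻¹) - X x) * (X t + X t⁻¹) = 0 := by
    intro g x t
    have hz := hD g (φ x • f2 t • y)
    have e : a • φ x • f2 t • y - φ x • f2 t • y = f1 x • f3 t • y + φ x • f2 t • y := by
      rw [← mul_smul a, af, mul_smul, ← mul_smul a, af2, mul_smul, ay, hsub]
    have d2 : ∀ t, Commute (φ g * f1 g) (f2 t) := fun t => (h2 g t).mul_left (c12 g t)
    have d3 : ∀ t, Commute (φ g * f1 g) (f3 t) := fun t => (h3 g t).mul_left (c13 g t)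
    have m1 : ∀ v : V, (φ g * f1 g) • f1 x • v = f1 (g * x * g⁻¹) • (φ g * f1 g) • v := fun v => by
      rw [← mul_smul, dconj1, mul_smul]
    have m0 : ∀ v : V, (φ g * f1 g) • φ x • v = φ (g * x * g⁻¹) • (φ g * f1 g) • v := fun v => by
      rw [← mul_smul, dconj, mul_smul]
    have m3 : ∀ v : V, (φ g * f1 g) • f3 t • v = f3 t • (φ g * f1 g) • v := fun v => by
      rw [← mul_smul, (d3 t).eq, mul_smul]
    have m2 : ∀ v : V, (φ g * f1 g) • f2 t • v = f2 t • (φ g * f1 g) • v := fun v => by
      rw [← mul_smul, (d2 t).eq, mul_smul]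
    rw [e, smul_add, m1, m0, m3, m2, hy_def, hD g w, ← hy_def] at hz
    -- hz : f1 (x^g) • f3 t • y + φ (x^g) • f2 t • y = f1 x • f3 t • y + φ x • f2 t • y
    have sw : ∀ z, f1 z • f3 t • y = f3 t • f1 z • y := fun z => by rw [← mul_smul, (c13 z t).eq, mul_smul]
    have hd1 : f1 (g * x * g⁻¹) • y - f1 x • y = φ (g * x * g⁻¹) • y - φ x • y := by
      have h : φ (g * x * g⁻¹) • y + φ (g * x * g⁻¹)⁻¹ • y = φ x • y + φ x⁻¹ • y := hsconj g x
      rw [← hinv, ← hinv] at h
      rw [hsub, hsub]
      calc f1 (g * x * g⁻¹) • y + f1 x • y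
          = (φ (g * x * g⁻¹) • y + f1 (g * x * g⁻¹) • y) + (φ (g * x * g⁻¹) • y + f1 x • y) := by
            rw [show (φ (g * x * g⁻¹) • y + f1 (g * x * g⁻¹) • y) + (φ (g * x * g⁻¹) • y + f1 x • y)
              = (φ (g * x * g⁻¹) • y + φ (g * x * g⁻¹) • y) + (f1 (g * x * g⁻¹) • y + f1 x • y) by abel, hV, zero_add]
        _ = (φ x • y + f1 x • y) + (φ (g * x * g⁻¹) • y + f1 x • y) := by rw [h]
        _ = (f1 x • y + f1 x • y) + (φ (g * x * g⁻¹) • y + φ x • y) := by abel
        _ = _ := by rw [hV, zero_add]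
    have hfin : φ (g * x * g⁻¹) • (φ t • y + φ t⁻¹ • y) - φ x • (φ t • y + φ t⁻¹ • y) = 0 := by
      rw [show φ t • y + φ t⁻¹ • y = f2 t • y + f3 t • y from (hst t).symm, smul_add, smul_add]
      have sw2 : ∀ z, φ z • f3 t • y = f3 t • φ z • y := fun z => by rw [← mul_smul, (h3 z t).eq, mul_smul]
      have hq : f3 t • (f1 (g * x * g⁻¹) • y - f1 x • y) + (φ (g * x * g⁻¹) • f2 t • y - φ x • f2 t • y) = 0 := by
        rw [smul_sub, ← sw, ← sw]
        rw [← sub_eq_zero] at hz
        rw [← hz]; abel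
      rw [hd1, smul_sub, ← sw2, ← sw2] at hq
      rw [← hq]; abel
    have hk := hker (((gen φ V (g * x * g⁻¹) : genRing φ V) - (gen φ V x : genRing φ V)) *
      ((gen φ V t : genRing φ V) + (gen φ V t⁻¹ : genRing φ V))) hfin
    rw [map_mul, map_sub, map_add] at hk
    exact hk
  have hall : ∀ t m, (X t + X t⁻¹) * X m = X t + X t⁻¹ := by
    intro t
    have hcent : ∀ g, X g * (X t + X t⁻¹) = (X t + X t⁻¹) * X g := by
      intro g
      have h := hker (((gen φ V (g * t * g⁻¹) : genRing φ V) + (gen φ V (g * t * g⁻¹)⁻¹ : genRing φ V)) -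
        ((gen φ V t : genRing φ V) + (gen φ V t⁻¹ : genRing φ V))) (sub_eq_zero.2 (hsconj g t))
      rw [map_sub, map_add, map_add, sub_eq_zero] at h
      have h' : X (g * t * g⁻¹) + X (g * t * g⁻¹)⁻¹ = X t + X t⁻¹ := h
      conv_rhs => rw [← h']
      rw [mul_add, add_mul, hX, hX, hX, hX]
      congr 2 <;> group
    intro m
    let N : Subgroup K :=
      { carrier := {m | (X t + X t⁻¹) * X m = X t + X t⁻¹}
        one_mem' := by simp [X]
        mul_mem' := fun {u v} hu hv => by
          show (X t + X t⁻¹) * X (u * v) = X t + X t⁻¹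
          rw [← hX, ← mul_assoc, hu, hv]
        inv_mem' := fun {u} hu => by
          show (X t + X t⁻¹) * X u⁻¹ = X t + X t⁻¹
          conv_lhs => rw [← hu, mul_assoc, hX, mul_inv_cancel]
          simp [X] }
    have hN : N = ⊤ := by
      refine eq_top_of_commutators hK N fun g h => ?_
      show (X t + X t⁻¹) * X ((h * g)⁻¹ * (g * h)) = _
      have h0 := key g (h * g) t
      rw [show g * (h * g) * g⁻¹ = g * h by group, sub_mul, sub_eq_zero, hcent, hcent] at h0
      have e1 : (X t + X t⁻¹) * X ((h * g)⁻¹ * (g * h)) = X (h * g)⁻¹ * ((X t + X t⁻¹) * X (g * h)) := by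
        conv_rhs => rw [← mul_assoc, hcent, mul_assoc, hX]
      rw [e1, h0, ← mul_assoc, hcent, mul_assoc, hX, inv_mul_cancel]
      simp [X]
    exact (show m ∈ N from hN ▸ Subgroup.mem_top m)
  rcases Nat.eq_zero_or_pos n with rfl | hn
  · exact Subsingleton.elim _ _
  haveI : Fact (Nat.Prime 2) := ⟨Nat.prime_two⟩
  have hF2 : (2 : F) = 0 := by
    have := char_of_exponent (p := 2) hn π y (by rw [two_nsmul]; exact hV y) hker
    exact_mod_cast this
  have hMM : ∀ A : Matrix (Fin n) (Fin n) F, A + A = 0 := fun A => by rw [← two_smul F A, hF2, zero_smul]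
  let ψ : K →* (Matrix (Fin n) (Fin n) F)ˣ := (Units.map π.toMonoidHom).comp (gen φ V)
  refine congrArg Units.val (perfect_hom_pgroup (p := 2) hK ψ (fun t => ⟨2, Units.ext ?_⟩) x)
  show X t ^ (2 ^ 2) = 1
  have htt := hall t t
  have hone : X t⁻¹ * X t = 1 := by rw [hX, inv_mul_cancel]; simp [X]
  have hone' : X t * X t⁻¹ = 1 := by rw [hX, mul_inv_cancel]; simp [X]
  rw [add_mul, hone] at htt
  -- `htt : X t * X t + 1 = X t + X t⁻¹`
  have hts := hall t t
  set S := X t + X t⁻¹ with hS
  have hT2 : X t * X t = S + 1 := by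
    rw [← htt, add_assoc, hMM, add_zero]
  have hSS : S * S = 0 := by
    calc S * S = S * (X t * X t + 1) := by rw [htt]
      _ = S * X t * X t + S := by rw [mul_add, mul_one, mul_assoc]
      _ = 0 := by rw [hts, hts, hMM]
  calc X t ^ (2 ^ 2) = (X t * X t) * (X t * X t) := by rw [show (2 : ℕ) ^ 2 = 4 from rfl]; noncomm_ring
    _ = S * S + (S + S) + 1 := by rw [hT2]; noncomm_ring
    _ = 1 := by rw [hSS, hMM, add_zero, zero_add]

end Cfsg.Agent.H63
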