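import Cfsg.Agent.H63.PGVOrbit

/-!
Two commuting conjugates in characteristic two: a lower bound for the codimension of fixed spaces.
-/

set_option autoImplicit false

universe u

namespace Cfsg.Agent.H63

variable {K : Type*} [Group K] {G : Type*} [Group G] {V : Type u} [AddCommGroup V] [DistribMulAction G V]

/-- The fixed points of an element. -/
def fixA (V : Type u) [AddCommGroup V] [DistribMulAction G V] (g : G) : AddSubgroup V where
  carrier := {v | g • v = v}
  zero_mem' := smul_zero g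
  add_mem' := fun {v w} hv hw => by
    show g • (v + w) = v + w
    rw [smul_add, hv, hw]
  neg_mem' := fun {v} hv => by
    show g • (-v) = -v
    rw [smul_neg, hv]

theorem card_transfer [Finite V] {R M : Type*} [AddCommGroup R] [AddCommGroup M] [Finite M] (ev : R →+ V) (π : R →+ M)
    (hπ : Function.Surjective π) (H : AddSubgroup V) (U : AddSubgroup M) (h : ∀ f, ev f ∈ H → π f ∈ U) :
    Nat.card M * Nat.card H ≤ Nat.card V * Nat.card U := by
  choose σ hσ using hπ
  have hle : Nat.card (M ⧸ U) ≤ Nat.card (V ⧸ H) := by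
    refine Nat.card_le_card_of_injective (fun X => (QuotientAddGroup.mk (ev (σ X.out)) : V ⧸ H)) ?_
    intro X Y e
    have e' := QuotientAddGroup.eq.1 e
    rw [← map_neg, ← map_add] at e'
    have := h _ e'
    rw [map_add, map_neg, hσ, hσ] at this
    rw [← Quotient.out_eq' X, ← Quotient.out_eq' Y]
    exact QuotientAddGroup.eq.2 this
  rw [AddSubgroup.card_eq_card_quotient_mul_card_addSubgroup U, AddSubgroup.card_eq_card_quotient_mul_card_addSubgroup H]
  calc Nat.card (M ⧸ U) * Nat.card U * Nat.card H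
      ≤ Nat.card (V ⧸ H) * Nat.card U * Nat.card H := Nat.mul_le_mul_right _ (Nat.mul_le_mul_right _ hle)
    _ = _ := by ring

variable [Finite V]

theorem pair_factor (hK : commutator K = ⊤) (φ : K →* G) (a : G) (hV : ∀ v : V, v + v = 0)
    (ha : a * a = 1) (h1 : ∀ g h, Commute (φ g) (a * φ h * a⁻¹))
    (hD : ∀ g, ∀ v : V, (φ g * (a * φ g * a⁻¹)) • (a • v - v) = a • v - v)
    (hqs : ∀ N : Subgroup K, N.Normal → N ≠ ⊤ → N ≤ Subgroup.center K)
    (B : Subgroup G) [Finite B] (hBsq : ∀ b ∈ B, b * b = 1) (hBa : ∀ b ∈ B, Commute b a)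
    (hBY : ∀ b ∈ B, ∀ v : V, b • (a • v - v) = a • v - v)
    (hBn : ∀ b ∈ B, ∀ k, ∃ k', b * φ k * b⁻¹ = φ k')
    (hBf : ∀ b ∈ B, b ≠ 1 → ∃ k, b * φ k ≠ φ k * b)
    (w : V) (hw : ∃ k, φ k • (a • w - w) ≠ a • w - w) :
    4 * Nat.card (fixA V a) ≤ Nat.card V ∧
      ∀ b ∈ B, b ≠ 1 → 4 * Nat.card B * Nat.card (fixA V b) ≤ Nat.card V := by
  classical
  by_contra hcon
  obtain ⟨k₀, hk₀⟩ := hw
  apply hk₀
  set y := a • w - w with hy_def
  have hsub : ∀ u v : V, u - v = u + v := fun u v => by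
    rw [sub_eq_add_neg, neg_eq_of_add_eq_zero_left (hV v)]
  have ay : a • y = y := by
    rw [hy_def, smul_sub, ← mul_smul, ha, one_smul, hsub, hsub, add_comm]
  obtain ⟨f1, hf1⟩ : ∃ f : K → G, ∀ x, f x = a * φ x * a⁻¹ := ⟨_, fun _ => rfl⟩
  simp only [← hf1] at h1 hD
  have af : ∀ x, a * φ x = f1 x * a := fun x => by simp [hf1]
  have hinv : ∀ x, f1 x • y = φ x⁻¹ • y := by
    intro x
    have h := hD x w
    rw [mul_smul, ← hy_def] at h
    rw [map_inv, eq_inv_smul_iff]
    exact h
  have hswap : ∀ x, a • φ x • y = φ x⁻¹ • y := fun x => by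
    rw [← mul_smul, af, mul_smul, ay, hinv]
  have hy : ∀ k, ∃ o : G, (∀ x, Commute o (φ x)) ∧ φ k • y = o • y :=
    fun k => ⟨f1 k⁻¹, fun x => (h1 x _).symm, by rw [hinv, inv_inv]⟩
  have dconj : ∀ g x, φ g * f1 g * φ x = φ (g * x * g⁻¹) * (φ g * f1 g) := by
    intro g x
    calc φ g * f1 g * φ x = φ g * φ x * f1 g := by rw [mul_assoc, ← (h1 x g).eq, ← mul_assoc]
      _ = _ := by
        rw [← mul_assoc (φ (g * x * g⁻¹)), ← map_mul φ (g * x * g⁻¹) g, inv_mul_cancel_right, map_mul]
  have hsconj : ∀ g x, φ (g * x * g⁻¹) • y + φ (g * x * g⁻¹)⁻¹ • y = φ x • y + φ x⁻¹ • y := by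
    intro g x
    have hs : φ x • y + φ x⁻¹ • y = a • φ x • y - φ x • y := by rw [hswap, hsub, add_comm]
    have h := hD g (φ x • y)
    rw [← hs, smul_add] at h
    have m : ∀ z, (φ g * f1 g) • φ z • y = φ (g * z * g⁻¹) • y := fun z => by
      rw [← mul_smul, dconj, mul_smul, hy_def, hD g w]
    rw [m, m] at h
    rw [show (g * x * g⁻¹)⁻¹ = g * x⁻¹ * g⁻¹ by group]
    exact h
  refine fixed_of_factor hK φ y hy (fun n F _ _ π hπ hker x => ?_) k₀
  by_contra hx
  apply hcon
  let X : K → Matrix (Fin n) (Fin n) F := fun k => π (gen φ V k)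
  have hX : ∀ g h, X g * X h = X (g * h) := fun g h => by simp [X]
  let ψ : K →* (Matrix (Fin n) (Fin n) F)ˣ := (Units.map π.toMonoidHom).comp (gen φ V)
  have hψ : ψ x ≠ 1 := fun h => hx (congrArg Units.val h)
  have hn2 : ¬ n ≤ 1 := fun h =>
    hψ (perfect_hom_comm hK ψ (fun g h' => Units.ext (mat_comm_of_le_one h _ _)) x)
  have hn : 0 < n := by omega
  have hF2 : (2 : F) = 0 := by
    have := char_of_exponent (p := 2) hn π y (by rw [two_nsmul]; exact hV y) hker
    exact_mod_cast this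
  have hMM : ∀ A : Matrix (Fin n) (Fin n) F, A + A = 0 := fun A => by rw [← two_smul F A, hF2, zero_smul]
  have hneg : ∀ A : Matrix (Fin n) (Fin n) F, -A = A := fun A => neg_eq_of_add_eq_zero_left (hMM A)
  have ind : ∀ (P : Matrix (Fin n) (Fin n) F → Prop), P 0 → (∀ A B, P A → P B → P (A + B)) →
      (∀ k, P (X k)) → ∀ A, P A := by
    intro P h0 ha' hg A
    obtain ⟨f, rfl⟩ := hπ A
    induction f using genRing_induction φ with
    | h0 => simpa using h0
    | ha f g h1 h2 => rw [map_add]; exact ha' _ _ h1 h2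
    | hn f h => rw [map_neg, hneg]; exact h
    | hg k => exact hg k
  have hscal : ∀ t, ∃ c : F, X t + X t⁻¹ = c • 1 := by
    intro t
    refine scalar_of_central _ (fun Y => ?_)
    refine ind (fun Y => (X t + X t⁻¹) * Y = Y * (X t + X t⁻¹)) (by simp)
      (fun A B hA hB => by rw [mul_add, add_mul (a := A), hA, hB]) (fun g => ?_) Y
    have h := hker (((gen φ V (g * t * g⁻¹) : genRing φ V) + (gen φ V (g * t * g⁻¹)⁻¹ : genRing φ V)) -
      ((gen φ V t : genRing φ V) + (gen φ V t⁻¹ : genRing φ V))) (sub_eq_zero.2 (hsconj g t))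
    rw [map_sub, map_add, map_add, sub_eq_zero] at h
    have h' : X (g * t * g⁻¹) + X (g * t * g⁻¹)⁻¹ = X t + X t⁻¹ := h
    conv_lhs => rw [← h']
    rw [mul_add, add_mul, hX, hX, hX, hX]
    congr 2 <;> group
  choose c hc using hscal
  have hXinv : ∀ t, X t⁻¹ = X t + c t • 1 := fun t => by
    rw [← hc, ← add_assoc, hMM, zero_add]
  let W : AddSubgroup (Matrix (Fin n) (Fin n) F × F) := AddSubgroup.closure (Set.range fun k => (X k, c k))
  have hΦ : ∀ p ∈ W, ∀ q ∈ W, ∃ r : F, p.1 * q.1 + q.1 * p.1 + q.2 • p.1 + p.2 • q.1 = r • 1 := by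
    intro p hp q hq
    induction hp, hq using AddSubgroup.closure_induction₂ with
    | mem p q hp hq =>
      obtain ⟨g, rfl⟩ := hp
      obtain ⟨h, rfl⟩ := hq
      refine ⟨c (g * h) + c g * c h, ?_⟩
      show X g * X h + X h * X g + c h • X g + c g • X h = _
      rw [add_smul, ← hc (g * h), mul_inv_rev, ← hX, ← hX, hXinv, hXinv, add_mul, mul_add, mul_add]
      simp only [smul_mul_assoc, mul_smul_comm, one_mul, mul_one, smul_smul, smul_add]
      rw [show X g * X h + (X h * X g + c g • X h + (c h • X g + (c g * c h) • (1 : Matrix (Fin n) (Fin n) F))) + (c g * c h) • 1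
        = X g * X h + X h * X g + c h • X g + c g • X h + ((c g * c h) • 1 + (c g * c h) • 1) by abel,
        hMM, add_zero]
    | zero_left q hq => exact ⟨0, by simp⟩
    | zero_right q hq => exact ⟨0, by simp⟩
    | add_left p p' q _ _ _ h h' =>
      obtain ⟨r, hr⟩ := h
      obtain ⟨r', hr'⟩ := h'
      refine ⟨r + r', ?_⟩
      rw [add_smul, ← hr, ← hr']
      simp only [Prod.fst_add, Prod.snd_add, add_mul, mul_add, add_smul, smul_add]
      abel
    | add_right q q' p _ _ _ h h' =>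
      obtain ⟨r, hr⟩ := h
      obtain ⟨r', hr'⟩ := h'
      refine ⟨r + r', ?_⟩
      rw [add_smul, ← hr, ← hr']
      simp only [Prod.fst_add, Prod.snd_add, add_mul, mul_add, add_smul, smul_add]
      abel
    | neg_left p q _ _ h =>
      obtain ⟨r, hr⟩ := h
      exact ⟨-r, by rw [neg_smul, ← hr]; simp only [Prod.fst_neg, Prod.snd_neg, neg_mul, mul_neg, neg_smul, smul_neg]; abel⟩
    | neg_right p q _ _ h =>
      obtain ⟨r, hr⟩ := h
      exact ⟨-r, by rw [neg_smul, ← hr]; simp only [Prod.fst_neg, Prod.snd_neg, neg_mul, mul_neg, neg_smul, smul_neg]; abel⟩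
  have hΨ : ∀ p ∈ W, ∃ r : F, p.1 * p.1 + p.2 • p.1 = r • 1 := by
    intro p hp
    induction hp using AddSubgroup.closure_induction with
    | mem p hp =>
      obtain ⟨g, rfl⟩ := hp
      refine ⟨1, ?_⟩
      show X g * X g + c g • X g = _
      rw [one_smul, show X g * X g + c g • X g = X g * (X g + c g • 1) by rw [mul_add, mul_smul_comm, mul_one],
        ← hXinv, hX, mul_inv_cancel]
      simp [X]
    | zero => exact ⟨0, by simp⟩
    | add p q hp hq h h' =>
      obtain ⟨r, hr⟩ := h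
      obtain ⟨r', hr'⟩ := h'
      obtain ⟨r'', hr''⟩ := hΦ p hp q hq
      refine ⟨r + r' + r'', ?_⟩
      rw [add_smul, add_smul, ← hr, ← hr', ← hr'']
      simp only [Prod.fst_add, Prod.snd_add, add_mul, mul_add, add_smul, smul_add]
      abel
    | neg p hp h =>
      obtain ⟨r, hr⟩ := h
      refine ⟨r, ?_⟩
      rw [← hr]
      simp
  have hsurjW : ∀ A, ∃ t, (A, t) ∈ W := by
    refine ind _ ⟨0, zero_mem W⟩ (fun A B hA hB => ?_) (fun k => ⟨c k, AddSubgroup.subset_closure ⟨k, rfl⟩⟩)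
    obtain ⟨t, ht⟩ := hA
    obtain ⟨t', ht'⟩ := hB
    exact ⟨t + t', add_mem ht ht'⟩
  have hnle : n ≤ 2 := le_two_of_quadratic (k := F) fun A => by
    obtain ⟨t, ht⟩ := hsurjW A
    obtain ⟨r, hr⟩ := hΨ _ ht
    exact ⟨t, r, hr⟩
  obtain rfl : n = 2 := by omega
  haveI : Finite (Matrix (Fin 2) (Fin 2) F) := inferInstance
  have htrW : ∀ A t, (A, t) ∈ W → t = A.trace := by
    intro A t h
    by_cases hA : ∃ r : F, A = r • 1
    · obtain ⟨r, hr⟩ := hA
      have hE : ¬ ∃ s : F, Matrix.single (0 : Fin 2) (1 : Fin 2) (1 : F) = s • 1 := by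
        rintro ⟨s, hs⟩
        have := congrFun (congrFun hs 0) 1
        simp at this
      obtain ⟨u, hu⟩ := hsurjW (Matrix.single (0 : Fin 2) (1 : Fin 2) (1 : F))
      obtain ⟨r1, hr1⟩ := hΨ _ hu
      have e1 := quad_trace _ _ _ hr1 hE hF2
      have hAE : ¬ ∃ s : F, A + Matrix.single (0 : Fin 2) (1 : Fin 2) (1 : F) = s • 1 := by
        rintro ⟨s, hs⟩
        exact hE ⟨s - r, by rw [sub_smul, ← hs, ← hr]; abel⟩
      obtain ⟨r2, hr2⟩ := hΨ _ (add_mem h hu)
      have e2 : t + u = (A + Matrix.single (0 : Fin 2) (1 : Fin 2) (1 : F)).trace := quad_trace _ _ _ hr2 hAE hF2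
      rw [Matrix.trace_add, ← e1] at e2
      exact add_right_cancel e2
    · obtain ⟨r, hr⟩ := hΨ _ h
      exact quad_trace _ _ _ hr hA hF2
  have hctr : ∀ k, c k = (X k).trace := fun k => htrW _ _ (AddSubgroup.subset_closure ⟨k, rfl⟩)
  -- the effect of `a`
  have hsw : ∀ f : genRing φ V, ∃ f' : genRing φ V, a • (f : AddMonoid.End V) y = (f' : AddMonoid.End V) y ∧
      π f' = π f + (π f).trace • 1 := by
    intro f
    induction f using genRing_induction φ with
    | h0 => exact ⟨0, by simp, by simp⟩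
    | ha f g h1 h2 =>
      obtain ⟨f', e, q⟩ := h1
      obtain ⟨g', e', q'⟩ := h2
      refine ⟨f' + g', ?_, ?_⟩
      · show a • ((f : AddMonoid.End V) y + (g : AddMonoid.End V) y) = (f' : AddMonoid.End V) y + (g' : AddMonoid.End V) y
        rw [smul_add, e, e']
      · rw [map_add, map_add, q, q', Matrix.trace_add, add_smul]; abel
    | hn f h =>
      obtain ⟨f', e, q⟩ := h
      refine ⟨-f', ?_, ?_⟩
      · show a • (-(f : AddMonoid.End V) y) = -(f' : AddMonoid.End V) y
        rw [smul_neg, e]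
      · rw [map_neg, map_neg, q, Matrix.trace_neg, neg_smul, neg_add]
    | hg k => exact ⟨(gen φ V k⁻¹ : genRing φ V), hswap k, (hXinv k).trans (by rw [hctr])⟩
  let ev : genRing φ V →+ V :=
    { toFun := fun f => (f : AddMonoid.End V) y
      map_zero' := rfl
      map_add' := fun _ _ => rfl }
  have hwd : ∀ f g : genRing φ V, ev f = ev g → π f = π g := fun f g h => by
    rw [← sub_eq_zero, ← map_sub]
    exact hker _ (sub_eq_zero.2 h)
  have hone0 : ∀ {r s : F}, r • (1 : Matrix (Fin 2) (Fin 2) F) = s • 1 → r = s := fun h => smul_one_inj two_pos h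
  let U0 : AddSubgroup (Matrix (Fin 2) (Fin 2) F) := (Matrix.traceAddMonoidHom (Fin 2) F).ker
  have hU0 : ∀ f : genRing φ V, ev f ∈ fixA V a → π f ∈ U0 := by
    intro f hf
    obtain ⟨f', e, q⟩ := hsw f
    have := hwd f' f (e.symm.trans hf)
    rw [q, add_eq_left] at this
    show (π f).trace = 0
    exact hone0 (this.trans (zero_smul F _).symm)
  have hq4 : 4 ≤ Nat.card F := by
    by_contra h
    rw [Nat.card_eq_fintype_card] at h
    exact hψ (perfect_hom_GL22 (by omega) hF2 hK ψ x)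
  have hMpos : 0 < Nat.card (Matrix (Fin 2) (Fin 2) F) := Nat.card_pos
  refine ⟨?_, ?_⟩
  · have k1 := card_transfer ev π.toAddMonoidHom hπ _ _ hU0
    have k2 := card_trace_zero U0 (fun Z hZ => hZ)
    refine Nat.le_of_mul_le_mul_left ?_ hMpos
    calc Nat.card (Matrix (Fin 2) (Fin 2) F) * (4 * Nat.card (fixA V a))
        = 4 * (Nat.card (Matrix (Fin 2) (Fin 2) F) * Nat.card (fixA V a)) := by ring
      _ ≤ Nat.card F * (Nat.card V * Nat.card U0) := Nat.mul_le_mul hq4 k1
      _ = Nat.card V * (Nat.card U0 * Nat.card F) := by ring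
      _ ≤ Nat.card V * Nat.card (Matrix (Fin 2) (Fin 2) F) := Nat.mul_le_mul_left _ k2
      _ = _ := mul_comm _ _
  -- the action of `B`
  set e := DistribMulAction.toAddMonoidEnd G V with he
  have hBinv : ∀ b ∈ B, b⁻¹ = b := fun b hb => inv_eq_of_mul_eq_one_right (hBsq b hb)
  have hcbmem : ∀ b ∈ B, ∀ f : genRing φ V, e b * (f : AddMonoid.End V) * e b ∈ genRing φ V := by
    intro b hb f
    induction f using genRing_induction φ with
    | h0 => simp [zero_mem]
    | ha f g h1 h2 =>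
      rw [Subring.coe_add, mul_add, add_mul]; exact add_mem h1 h2
    | hn f h => rw [Subring.coe_neg, mul_neg, neg_mul]; exact neg_mem h
    | hg k =>
      obtain ⟨k', hk'⟩ := hBn b hb k
      refine Subring.subset_closure ⟨k', ?_⟩
      show e (φ k') = e b * e (φ k) * e b
      rw [← hk', hBinv b hb, map_mul, map_mul]
  have he1 : ∀ b : B, e (b : G) * e (b : G) = 1 := fun b => by rw [← map_mul, hBsq _ b.2, map_one]
  let cb : B → genRing φ V →+* genRing φ V := fun b =>
    { toFun := fun f => ⟨e (b : G) * (f : AddMonoid.End V) * e (b : G), hcbmem _ b.2 f⟩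
      map_one' := Subtype.ext (by simp [he1])
      map_mul' := fun f g => Subtype.ext (by
        show e (b : G) * ((f : AddMonoid.End V) * g) * e (b : G) = (e (b : G) * f * e (b : G)) * (e (b : G) * g * e (b : G))
        calc e (b : G) * ((f : AddMonoid.End V) * g) * e (b : G)
            = e (b : G) * f * (e (b : G) * e (b : G)) * g * e (b : G) := by rw [he1, mul_one]; simp only [mul_assoc]
          _ = _ := by simp only [mul_assoc])
      map_zero' := Subtype.ext (by simp)
      map_add' := fun f g => Subtype.ext (by simp [mul_add, add_mul]) }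
  have hby : ∀ b : B, (b : G) • y = y := fun b => hBY _ b.2 w
  have hev : ∀ (b : B) f, ev (cb b f) = (b : G) • ev f := fun b f => by
    show (b : G) • (f : AddMonoid.End V) ((b : G) • y) = _
    rw [hby]
    rfl
  have hcbtr : ∀ b f, (π (cb b f)).trace = (π f).trace := by
    intro b f
    obtain ⟨f', ef, qf⟩ := hsw f
    obtain ⟨g', eg, qg⟩ := hsw (cb b f)
    have h1' : π (cb b f') = π g' := by
      refine hwd _ _ ?_
      show ev (cb b f') = ev g'
      rw [hev]
      show (b : G) • (f' : AddMonoid.End V) y = _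
      rw [← ef, ← mul_smul, (hBa _ b.2).eq, mul_smul]
      show a • ((b : G) • ev f) = _
      rw [← hev]
      exact eg
    have h2' : π (cb b f + cb b f') = π (f + f') := by
      refine hwd _ _ ?_
      rw [map_add, map_add, hev, hev, ← smul_add]
      show (b : G) • ((f : AddMonoid.End V) y + (f' : AddMonoid.End V) y) = (f : AddMonoid.End V) y + (f' : AddMonoid.End V) y
      rw [← ef, add_comm, ← hsub]
      exact hBY _ b.2 _
    rw [map_add, map_add, h1', qg, qf, ← add_assoc, ← add_assoc, hMM, hMM, zero_add, zero_add] at h2'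
    exact hone0 h2'
  have hcb2 : ∀ b f, cb b (cb b f) = f := fun b f => Subtype.ext (by
    show e (b : G) * (e (b : G) * (f : AddMonoid.End V) * e (b : G)) * e (b : G) = f
    rw [← mul_assoc, ← mul_assoc, he1, one_mul, mul_assoc, he1, mul_one])
  have hcbker : ∀ b f, π f = 0 → π (cb b f) = 0 := by
    intro b f hf
    ext i j
    obtain ⟨g, hg⟩ := hπ (Matrix.single j i 1)
    have h0 : (π (cb b f * g)).trace = 0 := by
      rw [← hcb2 b g, ← map_mul, hcbtr, map_mul, hf, zero_mul, Matrix.trace_zero]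
    rw [map_mul, hg] at h0
    simpa [Matrix.trace, Matrix.mul_apply, Matrix.single_apply, Fin.sum_univ_two] using
      (by fin_cases i <;> fin_cases j <;> simpa [Matrix.trace, Matrix.mul_apply, Matrix.single_apply, Fin.sum_univ_two] using h0)
  let θ : B → Matrix (Fin 2) (Fin 2) F →+* Matrix (Fin 2) (Fin 2) F := fun b =>
    π.liftOfSurjective hπ ⟨π.comp (cb b), fun f hf => hcbker b f hf⟩
  have hθ : ∀ b f, θ b (π f) = π (cb b f) := fun b f => RingHom.liftOfRightInverse_comp_apply _ _ _ _ f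
  have hfb := family_bound (k := F) hF2 θ ?_ (fun b => Subtype.ext (hBsq _ b.2)) ?_ ?_
  rotate_left
  · intro b b' Z
    obtain ⟨f, rfl⟩ := hπ Z
    rw [hθ, hθ, hθ]
    refine congrArg π (Subtype.ext ?_)
    show e ((b : G) * b') * (f : AddMonoid.End V) * e ((b : G) * b') = e (b : G) * (e (b' : G) * f * e (b' : G)) * e (b : G)
    have hcomm : (b : G) * b' = b' * b := by
      have := hBinv _ (mul_mem b.2 b'.2)
      rw [mul_inv_rev, hBinv _ b.2, hBinv _ b'.2] at this
      exact this.symm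
    conv_lhs => arg 2; rw [hcomm]
    simp only [map_mul, mul_assoc]
  · intro b Z
    obtain ⟨f, rfl⟩ := hπ Z
    rw [hθ, hcbtr]
  · intro b hb
    by_contra hne
    have hb' : (b : G) ≠ 1 := fun h => hne (Subtype.ext h)
    obtain ⟨k, hk⟩ := hBf _ b.2 hb'
    have hker' : ψ.ker ≤ Subgroup.center K := by
      refine hqs _ inferInstance fun h => hψ ?_
      have : x ∈ ψ.ker := h ▸ Subgroup.mem_top x
      exact this
    have hcent : ∀ m z, Commute ((φ m)⁻¹ * ((b : G) * φ m * (b : G)⁻¹)) (φ z) := by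
      intro m z
      obtain ⟨m', hm'⟩ := hBn _ b.2 m
      rw [hm', ← map_inv, ← map_mul]
      refine Commute.map ?_ φ
      have hmem : m⁻¹ * m' ∈ ψ.ker := by
        rw [MonoidHom.mem_ker, map_mul, map_inv, inv_mul_eq_one]
        apply Units.ext
        show π (gen φ V m) = π (gen φ V m')
        rw [← hb (π (gen φ V m)), hθ]
        refine congrArg π (Subtype.ext ?_)
        show e (b : G) * e (φ m) * e (b : G) = e (φ m')
        rw [← hm', hBinv _ b.2, map_mul, map_mul]
      exact ((Subgroup.mem_center_iff.1 (hker' hmem)) z).symm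
    let fh : K →* G :=
      MonoidHom.mk' (fun m => (φ m)⁻¹ * ((b : G) * φ m * (b : G)⁻¹)) (fun g h => by
        calc (φ (g * h))⁻¹ * ((b : G) * φ (g * h) * (b : G)⁻¹)
            = (φ h)⁻¹ * ((φ g)⁻¹ * ((b : G) * φ g * (b : G)⁻¹)) * ((b : G) * φ h * (b : G)⁻¹) := by
              rw [map_mul, mul_inv_rev]; group
          _ = (φ g)⁻¹ * ((b : G) * φ g * (b : G)⁻¹) * (φ h)⁻¹ * ((b : G) * φ h * (b : G)⁻¹) := by
              rw [((hcent g h).inv_right).eq]
          _ = _ := by group)
    have htriv := perfect_hom_comm hK fh (fun g h => by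
      obtain ⟨h', hh'⟩ := hBn _ b.2 h
      show _ * ((φ h)⁻¹ * ((b : G) * φ h * (b : G)⁻¹)) = _
      rw [hh']
      exact ((hcent g h).inv_right.mul_right (hcent g h')).eq.trans (by show _ = ((φ h)⁻¹ * ((b : G) * φ h * (b : G)⁻¹)) * _; rw [hh']; rfl)) k
    exact hk (mul_inv_eq_iff_eq_mul.1 (inv_mul_eq_one.1 htriv).symm)
  intro b hb hb1
  let U : AddSubgroup (Matrix (Fin 2) (Fin 2) F) := (RingHom.toAddMonoidHom (θ ⟨b, hb⟩) - AddMonoidHom.id _).ker
  have hU : ∀ f : genRing φ V, ev f ∈ fixA V b → π f ∈ U := by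
    intro f hf
    show θ ⟨b, hb⟩ (π f) - π f = 0
    rw [hθ, sub_eq_zero]
    exact hwd _ _ ((hev _ f).trans hf)
  have k1 := card_transfer ev π.toAddMonoidHom hπ _ _ hU
  have k2 := hfb.2 ⟨b, hb⟩ (fun h => hb1 (congrArg Subtype.val h)) U (fun Z hZ => sub_eq_zero.1 hZ)
  rw [card_mat] at k1
  have hqpos : 0 < Nat.card F ^ 2 := by positivity
  refine Nat.le_of_mul_le_mul_left ?_ hqpos
  calc Nat.card F ^ 2 * (4 * Nat.card B * Nat.card (fixA V b))
      ≤ Nat.card F ^ 2 * (Nat.card F * Nat.card F * Nat.card (fixA V b)) :=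
        Nat.mul_le_mul_left _ (Nat.mul_le_mul_right _ (Nat.mul_le_mul hq4 hfb.1))
    _ = Nat.card F ^ 4 * Nat.card (fixA V b) := by ring
    _ ≤ Nat.card V * Nat.card U := k1
    _ ≤ Nat.card V * Nat.card F ^ 2 := Nat.mul_le_mul_left _ k2
    _ = _ := mul_comm _ _

end Cfsg.Agent.H63
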