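import Mathlib.RingTheory.SimpleModule.WedderburnArtin
import Mathlib.RingTheory.Artinian.Module
import Mathlib.RingTheory.Artinian.Ring
import Mathlib.RingTheory.Jacobson.Semiprimary
import Mathlib.RingTheory.LittleWedderburn
import Mathlib.LinearAlgebra.Matrix.GeneralLinearGroup.Card
import Mathlib.LinearAlgebra.Matrix.Charpoly.Coeff
import Mathlib.GroupTheory.Sylow
import Mathlib.GroupTheory.IndexNormal
import Mathlib.GroupTheory.Nilpotent
import Mathlib.GroupTheory.Abelianization.Defs

/-!
Perfect groups mapping to finite rings; facts about small matrix rings (for the P(G,V) theorem).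
-/

set_option autoImplicit false

universe u

namespace Cfsg.Agent.H63

variable {K : Type*} [Group K]

/-- A subgroup containing all commutators of a perfect group is everything. -/
theorem eq_top_of_commutators (hK : commutator K = ⊤) (N : Subgroup K)
    (h : ∀ g k : K, (k * g)⁻¹ * (g * k) ∈ N) : N = ⊤ := by
  rw [eq_top_iff, ← hK, commutator_def, Subgroup.commutator_le]
  intro g _ k _
  have := h g⁻¹ k⁻¹
  rw [commutatorElement_def]
  rw [show g * k * g⁻¹ * k⁻¹ = (k⁻¹ * g⁻¹)⁻¹ * (g⁻¹ * k⁻¹) by group]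
  exact this

/-- A perfect group has no nontrivial map with commuting images. -/
theorem perfect_hom_comm {H : Type*} [Group H] (hK : commutator K = ⊤) (f : K →* H)
    (h : ∀ g k, f g * f k = f k * f g) (k : K) : f k = 1 := by
  have hk : k ∈ f.ker := by
    rw [eq_top_of_commutators hK f.ker fun g k => by
      rw [MonoidHom.mem_ker, map_mul, map_inv, map_mul, map_mul, h g k, inv_mul_cancel]]
    exact Subgroup.mem_top _
  exact hk

/-- A finite perfect group whose image is a `p`-group maps trivially. -/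
theorem perfect_hom_pgroup {H : Type*} [Group H] [Finite H] {p : ℕ} [Fact p.Prime] (hK : commutator K = ⊤)
    (f : K →* H) (h : ∀ k, ∃ j : ℕ, f k ^ p ^ j = 1) (k : K) : f k = 1 := by
  have hp : IsPGroup p f.range := by
    rintro ⟨_, g, rfl⟩
    obtain ⟨j, hj⟩ := h g
    exact ⟨j, Subtype.ext hj⟩
  haveI : Group.IsNilpotent f.range := hp.isNilpotent
  have hper : commutator f.range = ⊤ := by
    rw [commutator_def, ← Subgroup.map_top_of_surjective f.rangeRestrict f.rangeRestrict_surjective,
      ← Subgroup.map_commutator, ← commutator_def, hK]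
  have hser : ∀ n, (⊤ : Subgroup f.range).lowerCentralSeries n = ⊤ := by
    intro n
    induction n with
    | zero => rfl
    | succ n ih => rw [Subgroup.lowerCentralSeries_succ, ih]; exact hper
  obtain ⟨n, hn⟩ := nilpotent_iff_lowerCentralSeries.mp ‹Group.IsNilpotent f.range›
  rw [hser] at hn
  have hk : (⟨f k, k, rfl⟩ : f.range) ∈ (⊥ : Subgroup f.range) := by
    rw [← hn]; exact Subgroup.mem_top _
  exact congrArg Subtype.val (Subgroup.mem_bot.1 hk)

/-- The elements congruent to `1` modulo a left ideal form a subgroup. -/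
def congrSubgroup {Q : Type*} [Ring Q] (φ : K →* Qˣ) (J : Ideal Q) : Subgroup K where
  carrier := {k | (φ k : Q) - 1 ∈ J}
  one_mem' := by simp
  mul_mem' := by
    intro a b ha hb
    show ((φ (a * b) : Qˣ) : Q) - 1 ∈ J
    rw [map_mul, Units.val_mul, show (φ a : Q) * φ b - 1 = φ a * ((φ b : Q) - 1) + ((φ a : Q) - 1) by noncomm_ring]
    exact J.add_mem (J.mul_mem_left _ hb) ha
  inv_mem' := by
    intro a ha
    show ((φ a⁻¹ : Qˣ) : Q) - 1 ∈ J
    rw [map_inv, show ((φ a)⁻¹ : Qˣ).val - 1 = -(((φ a)⁻¹ : Qˣ).val * ((φ a : Q) - 1)) by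
      rw [mul_sub, Units.inv_mul]; noncomm_ring]
    exact J.neg_mem (J.mul_mem_left _ ha)

theorem congr_step {Q : Type*} [Ring Q] (hK : commutator K = ⊤) (φ : K →* Qˣ) (J L : Ideal Q)
    (h : ∀ k, (φ k : Q) - 1 ∈ J) (hL : ∀ u ∈ J, ∀ v ∈ J, u * v ∈ L) (k : K) : (φ k : Q) - 1 ∈ L := by
  have : k ∈ congrSubgroup φ L := by
    have htop : congrSubgroup φ L = ⊤ := by
      refine eq_top_of_commutators hK _ fun g k => ?_
      show ((φ ((k * g)⁻¹ * (g * k)) : Qˣ) : Q) - 1 ∈ L
      have hd : (φ g : Q) * φ k - φ k * φ g ∈ L := by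
        rw [show (φ g : Q) * φ k - φ k * φ g =
          ((φ g : Q) - 1) * ((φ k : Q) - 1) - ((φ k : Q) - 1) * ((φ g : Q) - 1) by noncomm_ring]
        exact L.sub_mem (hL _ (h g) _ (h k)) (hL _ (h k) _ (h g))
      have e : ((φ ((k * g)⁻¹ * (g * k)) : Qˣ) : Q) - 1 =
          (((φ (k * g))⁻¹ : Qˣ) : Q) * ((φ g : Q) * φ k - φ k * φ g) := by
        rw [mul_sub, ← Units.val_mul (φ k) (φ g), ← map_mul φ k g, Units.inv_mul, ← Units.val_mul (φ g) (φ k),
          ← map_mul φ g k, ← Units.val_mul, ← map_inv, ← map_mul]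
      rw [e]
      exact L.mul_mem_left _ hd
    rw [htop]; exact Subgroup.mem_top _
  exact this

/-- A nontrivial perfect group of units is visible in some matrix quotient over a finite field. -/
theorem exists_matrix_factor {Q : Type u} [Ring Q] [Finite Q] (hK : commutator K = ⊤) (φ : K →* Qˣ)
    (h : ∃ k, φ k ≠ 1) :
    ∃ (n : ℕ) (k : Type u) (_ : Field k) (_ : Fintype k) (π : Q →+* Matrix (Fin n) (Fin n) k),
      Function.Surjective π ∧ ∃ x, π (φ x) ≠ 1 := by
  haveI : IsArtinianRing Q := inferInstance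
  haveI : IsSemiprimaryRing Q := inferInstance
  set J : Ideal Q := Ring.jacobson Q with hJ
  obtain ⟨m, hm⟩ : IsNilpotent J := IsSemiprimaryRing.isNilpotent
  have hx : ∃ x, (φ x : Q) - 1 ∉ J := by
    by_contra hall
    push Not at hall
    have step : ∀ i : ℕ, ∀ x, (φ x : Q) - 1 ∈ J ^ (i + 1) := by
      intro i
      induction i with
      | zero => intro x; rw [Submodule.pow_one]; exact hall x
      | succ i ih =>
        refine congr_step hK φ _ _ ih ?_
        intro a ha b hb
        have hb' : b ∈ J := by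
          rw [Submodule.pow_succ] at hb
          exact (Submodule.mul_le.2 fun r _ s hs => J.mul_mem_left r hs) hb
        rw [Submodule.pow_succ J]
        exact Submodule.mul_mem_mul ha hb'
    obtain ⟨x, hx⟩ := h
    have := step m x
    rw [Submodule.pow_succ, hm] at this
    have hz : (0 : Ideal Q) * J ≤ ⊥ := Submodule.mul_le.2 fun r hr s _ => by
      rw [(Submodule.mem_bot _).1 hr, zero_mul]; exact zero_mem _
    have := (Submodule.mem_bot _).1 (hz this)
    rw [sub_eq_zero] at this
    exact hx (Units.ext this)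
  obtain ⟨x, hx⟩ := hx
  haveI : IsSemisimpleRing (Q ⧸ J) := IsSemiprimaryRing.isSemisimpleRing
  obtain ⟨l, D, d, hD, -, ⟨e⟩⟩ := IsSemisimpleRing.exists_ringEquiv_pi_matrix_divisionRing (Q ⧸ J)
  have hne : e (Ideal.Quotient.mk J (φ x)) ≠ 1 := by
    intro hh
    rw [map_eq_one_iff e e.injective, ← map_one (Ideal.Quotient.mk J), Ideal.Quotient.eq] at hh
    exact hx hh
  obtain ⟨i, hi⟩ := Function.ne_iff.1 hne
  let π : Q →+* Matrix (Fin (d i)) (Fin (d i)) (D i) :=
    ((Pi.evalRingHom _ i).comp e.toRingHom).comp (Ideal.Quotient.mk J)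
  have hsurj : Function.Surjective π :=
    ((Function.surjective_eval i).comp e.surjective).comp Ideal.Quotient.mk_surjective
  have hd : 0 < d i := by
    rcases Nat.eq_zero_or_pos (d i) with h0 | h0
    · exfalso; apply hi; ext a; exact absurd a.isLt (by omega)
    · exact h0
  haveI : Finite (D i) := by
    haveI : Finite (Matrix (Fin (d i)) (Fin (d i)) (D i)) := Finite.of_surjective π hsurj
    exact Finite.of_injective (fun c => Matrix.diagonal fun _ : Fin (d i) => c) fun c c' hcc =>
      congrFun (Matrix.diagonal_injective hcc) ⟨0, hd⟩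
  letI : Field (D i) := littleWedderburn (D i)
  exact ⟨d i, D i, inferInstance, Fintype.ofFinite _, π, hsurj, x, hi⟩

section Mat

variable {k : Type u} [Field k]

theorem mat_comm_of_le_one {n : ℕ} (hn : n ≤ 1) (A B : Matrix (Fin n) (Fin n) k) : A * B = B * A := by
  interval_cases n
  · exact Subsingleton.elim _ _
  · ext i j
    rw [Subsingleton.elim i 0, Subsingleton.elim j 0, Matrix.mul_apply, Matrix.mul_apply]
    simp [mul_comm]

theorem single_mul_single {n : ℕ} (a b c d : Fin n) :
    Matrix.single a b (1 : k) * Matrix.single c d 1 = if b = c then Matrix.single a d 1 else 0 := by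
  split_ifs with h
  · subst h; simp
  · exact Matrix.single_mul_single_of_ne _ _ _ _ h _

theorem le_one_of_lie {n : ℕ} (h2 : (2 : k) ≠ 0)
    (h : ∀ A B C D : Matrix (Fin n) (Fin n) k, (A * B - B * A) * (C * D - D * C) = (C * D - D * C) * (A * B - B * A)) :
    n ≤ 1 := by
  by_contra hn
  let i : Fin n := ⟨0, by omega⟩
  let j : Fin n := ⟨1, by omega⟩
  have hij : i ≠ j := by simp [i, j]
  have := congrFun (congrFun (h (Matrix.single i j 1) (Matrix.single j i 1) (Matrix.single i i 1) (Matrix.single i j 1)) i) j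
  simp only [single_mul_single, if_pos rfl, if_neg hij, if_neg hij.symm, sub_zero] at this
  simp [sub_mul, mul_sub, single_mul_single, hij, hij.symm] at this
  exact h2 (by linear_combination this)

theorem le_two_of_quadratic {n : ℕ}
    (h : ∀ A : Matrix (Fin n) (Fin n) k, ∃ a b : k, A * A + a • A = b • 1) : n ≤ 2 := by
  by_contra hn
  let i : Fin n := ⟨0, by omega⟩
  let j : Fin n := ⟨1, by omega⟩
  let l : Fin n := ⟨2, by omega⟩
  have h1 : i ≠ j := by simp [i, j]
  have h2 : i ≠ l := by simp [i, l]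
  have h3 : j ≠ l := by simp [j, l]
  obtain ⟨a, b, hab⟩ := h (Matrix.single i j 1 + Matrix.single j l 1)
  have := congrFun (congrFun hab i) l
  simp [mul_add, add_mul, single_mul_single, h1, h1.symm, h2, h2.symm, h3, h3.symm, Matrix.single_apply] at this

/-- A perfect group has no nontrivial map to `GL(2,2)`. -/
theorem perfect_hom_GL22 [Fintype k] (hk : Fintype.card k ≤ 3) (h2 : (2 : k) = 0) (hK : commutator K = ⊤)
    (f : K →* GL (Fin 2) k) (x : K) : f x = 1 := by
  classical
  have hq : Fintype.card k = 2 := by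
    haveI : CharP k 2 := CharTwo.of_one_ne_zero_of_two_eq_zero one_ne_zero h2
    obtain ⟨m, -, hm⟩ := FiniteField.card k 2
    have h1 : (m : ℕ) = 1 := by
      rcases Nat.lt_or_ge (m : ℕ) 2 with h | h
      · have := m.pos; omega
      · have := Nat.pow_le_pow_right (by norm_num : 1 ≤ 2) h
        omega
    rw [hm, h1, pow_one]
  have hG : Nat.card (GL (Fin 2) k) = 6 := by
    rw [Matrix.card_GL_field, hq, Fin.prod_univ_two]; rfl
  haveI : Fact (Nat.Prime 3) := ⟨Nat.prime_three⟩
  let P : Sylow 3 (GL (Fin 2) k) := default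
  have hP3 : Nat.card (P : Subgroup (GL (Fin 2) k)) = 3 := by
    rw [P.card_eq_multiplicity, hG]
    rw [show Nat.factorization 6 3 = 1 from ?_, pow_one]
    rw [show (6 : ℕ) = 2 * 3 by rfl, Nat.factorization_mul (by norm_num) (by norm_num)]
    simp [Nat.Prime.factorization, Nat.prime_two, Nat.prime_three]
  have hindex : (P : Subgroup (GL (Fin 2) k)).index = 2 := by
    have := (P : Subgroup (GL (Fin 2) k)).card_mul_index
    rw [hP3, hG] at this; omega
  haveI : (P : Subgroup (GL (Fin 2) k)).Normal := Subgroup.normal_of_index_eq_two (by exact hindex)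
  have hin : ∀ g, f g ∈ (P : Subgroup (GL (Fin 2) k)) := by
    intro g
    haveI : Fact (Nat.Prime 2) := ⟨Nat.prime_two⟩
    haveI : IsCyclic (GL (Fin 2) k ⧸ (P : Subgroup (GL (Fin 2) k))) :=
      isCyclic_of_prime_card (p := 2) hindex
    exact (QuotientGroup.eq_one_iff _).1
      (perfect_hom_comm hK ((QuotientGroup.mk' _).comp f)
        (fun a b => IsCyclic.commGroup.mul_comm _ _) g)
  haveI : IsCyclic (P : Subgroup (GL (Fin 2) k)) := isCyclic_of_prime_card (p := 3) hP3
  exact congrArg Subtype.val (perfect_hom_comm hK (f.codRestrict (P : Subgroup (GL (Fin 2) k)) hin)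
    (fun a b => IsCyclic.commGroup.mul_comm _ _) x)

end Mat

end Cfsg.Agent.H63
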