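import Mathlib
import Cfsg.Agent.H92.ExtGroup

/-!
The twisted group algebra over `F₃` of a nondegenerate `F₂`-bilinear cocycle, and the group of units
inducing a given group of isometries on the underlying space.
-/

set_option autoImplicit false

namespace Cfsg.Agent.H63.Twist

open Cfsg.Agent.H92.ExtGroup

/-- The sign `(-1)^a` in `F₃`. -/
def ε (a : ZMod 2) : ZMod 3 := if a = 0 then 1 else -1

theorem ε_add (a b : ZMod 2) : ε (a + b) = ε a * ε b := by revert a b; decide

theorem ε_zero : ε 0 = 1 := rfl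

theorem ε_self (a : ZMod 2) : ε a * ε a = 1 := by revert a; decide

theorem ε_ne (a : ZMod 2) : ε a ≠ 0 := by revert a; decide

theorem ε_cases {c : ZMod 3} (h : c ≠ 0) : ∃ a, c = ε a := by revert c; decide

theorem ε_inj {a b : ZMod 2} (h : ε a = ε b) : a = b := by revert a b; decide

variable {V : Type} [AddCommGroup V] [Fintype V] [DecidableEq V]

/-- Twisted left translation. -/
def L (β : V →+ V →+ ZMod 2) (u : V) : Module.End (ZMod 3) (V → ZMod 3) where
  toFun f y := ε (β u (y + u)) * f (y + u)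
  map_add' f g := funext fun y => mul_add _ _ _
  map_smul' c f := funext fun y => mul_left_comm _ _ _

/-- The standing hypotheses. -/
structure Good (β : V →+ V →+ ZMod 2) : Prop where
  two : ∀ v : V, v + v = 0
  nondeg : ∀ w, (∀ v, β v w + β w v = 0) → w = 0
  card : (Fintype.card V : ZMod 3) = 1

variable {β : V →+ V →+ ZMod 2}

theorem L_mul (H : Good β) (u v : V) : L β u * L β v = ε (β u v) • L β (u + v) := by
  apply LinearMap.ext
  intro f
  funext y
  show ε (β u (y + u)) * (ε (β v (y + u + v)) * f (y + u + v)) =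
    ε (β u v) * (ε (β (u + v) (y + (u + v))) * f (y + (u + v)))
  rw [← add_assoc y u v, ← mul_assoc, ← mul_assoc, ← ε_add, ← ε_add]
  congr 2
  simp only [map_add, AddMonoidHom.add_apply]
  linear_combination - (CharTwo.two_eq_zero (R := ZMod 2)) * (β u v)

theorem L_zero : L β 0 = 1 := by
  apply LinearMap.ext
  intro f
  funext y
  show ε (β 0 (y + 0)) * f (y + 0) = f y
  simp [ε_zero]

theorem L_single (H : Good β) (u : V) : L β u (Pi.single 0 1) = Pi.single u 1 := by
  funext y
  show ε (β u (y + u)) * (Pi.single 0 1 : V → ZMod 3) (y + u) = _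
  by_cases hy : y = u
  · subst hy; simp [H.two, ε_zero]
  · have : y + u ≠ 0 := fun h => hy (by
      rw [eq_neg_of_add_eq_zero_left h, neg_eq_of_add_eq_zero_left (H.two u)])
    simp [hy, this]

/-- The twisted group algebra. -/
def A (β : V →+ V →+ ZMod 2) (H : Good β) : Subalgebra (ZMod 3) (Module.End (ZMod 3) (V → ZMod 3)) :=
  (Submodule.span (ZMod 3) (Set.range (L β))).toSubalgebra
    (Submodule.subset_span ⟨0, L_zero⟩)
    (fun x y hx hy => by
      induction hx, hy using Submodule.span_induction₂ with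
      | mem_mem x y hx hy =>
        obtain ⟨u, rfl⟩ := hx
        obtain ⟨v, rfl⟩ := hy
        rw [L_mul H]
        exact Submodule.smul_mem _ _ (Submodule.subset_span ⟨_, rfl⟩)
      | zero_left y _ => rw [zero_mul]; exact Submodule.zero_mem _
      | zero_right x _ => rw [mul_zero]; exact Submodule.zero_mem _
      | add_left x y z _ _ _ hx hy => rw [add_mul]; exact Submodule.add_mem _ hx hy
      | add_right x y z _ _ _ hx hy => rw [mul_add]; exact Submodule.add_mem _ hx hy
      | smul_left r x y _ _ h => rw [smul_mul_assoc]; exact Submodule.smul_mem _ _ h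
      | smul_right r x y _ _ h => rw [mul_smul_comm]; exact Submodule.smul_mem _ _ h)

variable (H : Good β)
include H

/-- Basis elements. -/
def e (u : V) : A β H := ⟨L β u, Submodule.subset_span ⟨u, rfl⟩⟩

/-- Inverse of a basis element. -/
def ei (u : V) : A β H := ε (β u u) • e H u

theorem e_mul (u v : V) : e H u * e H v = ε (β u v) • e H (u + v) := Subtype.ext (L_mul H u v)

theorem e_zero : e H 0 = 1 := Subtype.ext L_zero

theorem e_swap (u v : V) : e H v * e H u = ε (β u v + β v u) • (e H u * e H v) := by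
  rw [e_mul, e_mul, add_comm v u, smul_smul, ε_add, mul_right_comm, ε_self, one_mul]

theorem e_ei (u : V) : e H u * ei H u = 1 := by
  rw [ei, mul_smul_comm, e_mul, smul_smul, ε_self, one_smul, H.two, e_zero]

theorem ei_e (u : V) : ei H u * e H u = 1 := by
  rw [ei, smul_mul_assoc, e_mul, smul_smul, ε_self, one_smul, H.two, e_zero]

theorem conj_e (u v : V) : e H v * e H u * ei H v = ε (β u v + β v u) • e H u := by
  rw [e_swap, smul_mul_assoc, mul_assoc, e_ei, mul_one]

/-- The coefficients. -/
def coef (a : A β H) : V → ZMod 3 := (a : Module.End (ZMod 3) (V → ZMod 3)) (Pi.single 0 1)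

theorem coef_e (u : V) : coef H (e H u) = Pi.single u 1 := L_single H u

theorem expand (a : A β H) : ∑ u, coef H a u • e H u = a := by
  apply Subtype.ext
  rw [AddSubmonoidClass.coe_finsetSum]
  have key : ∀ x ∈ Submodule.span (ZMod 3) (Set.range (L β)),
      ∑ u, (x (Pi.single 0 1) : V → ZMod 3) u • L β u = x := by
    intro x hx
    induction hx using Submodule.span_induction with
    | mem x hx =>
      obtain ⟨u, rfl⟩ := hx
      rw [L_single H, Finset.sum_eq_single u]
      · simp
      · intro b _ hb; simp [hb]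
      · simp
    | zero => simp
    | add x y _ _ hx hy =>
      conv_rhs => rw [← hx, ← hy]
      simp [add_smul, Finset.sum_add_distrib]
    | smul c x _ hx =>
      conv_rhs => rw [← hx]
      simp [Finset.smul_sum, mul_smul]
  exact key _ a.2

theorem coef_smul_e (c : ZMod 3) (u : V) : coef H (c • e H u) = Pi.single u c := by
  show c • coef H (e H u) = _
  rw [coef_e]
  funext y
  by_cases hy : y = u
  · subst hy; simp
  · simp [hy]

theorem smul_e_inj {c d : ZMod 3} (hc : c ≠ 0) {u v : V} (h : c • e H u = d • e H v) :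
    u = v ∧ c = d := by
  have := congrArg (coef H) h
  rw [coef_smul_e, coef_smul_e] at this
  have h1 := congrFun this u
  by_cases huv : u = v
  · subst huv; simpa using h1
  · simp [huv, hc] at h1

theorem sum_char (w : V) : ∑ v, ε (β w v + β v w) = if w = 0 then 1 else 0 := by
  split_ifs with hw
  · subst hw; simp [ε_zero, H.card]
  · obtain ⟨v₀, hv₀⟩ : ∃ v₀, β v₀ w + β w v₀ ≠ 0 := by
      by_contra! h
      exact hw (H.nondeg w h)
    have hneg : ε (β w v₀ + β v₀ w) = -1 := by rw [ε, if_neg (by rwa [add_comm])]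
    have h1 : ∑ v, ε (β w v + β v w) = ∑ v, ε (β w v + β v w) * (-1) := by
      refine (Fintype.sum_equiv (Equiv.addRight v₀) _ _ fun v => ?_).symm
      show _ = ε (β w (v + v₀) + β (v + v₀) w)
      rw [← hneg, ← ε_add]
      congr 1
      simp only [map_add, AddMonoidHom.add_apply]
      abel
    rw [← Finset.sum_mul] at h1
    revert h1
    generalize ∑ v, ε (β w v + β v w) = S
    revert S
    decide

theorem proj (a : A β H) (w : V) :
    ∑ v, ε (β w v + β v w) • (e H v * a * ei H v) = coef H a w • e H w := by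
  conv_lhs => rw [← expand H a]
  simp only [Finset.mul_sum, Finset.sum_mul, Finset.smul_sum, mul_smul_comm, smul_mul_assoc, conj_e,
    smul_smul]
  rw [Finset.sum_comm, Finset.sum_eq_single w]
  · rw [← Finset.sum_smul]
    congr 1
    calc ∑ v, ε (β w v + β v w) * (coef H a w * ε (β w v + β v w))
        = ∑ _v : V, coef H a w := Finset.sum_congr rfl fun v _ => by
          rw [mul_left_comm, ε_self, mul_one]
      _ = coef H a w := by simp [H.card]
  · intro b _ hb
    rw [← Finset.sum_smul]
    convert zero_smul (ZMod 3) (e H b)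
    have hne : w + b ≠ 0 := fun h => hb (by
      rw [eq_neg_of_add_eq_zero_left h, neg_eq_of_add_eq_zero_left (H.two b)])
    calc ∑ v, ε (β w v + β v w) * (coef H a b * ε (β b v + β v b))
        = coef H a b * ∑ v, ε (β (w + b) v + β v (w + b)) := by
          rw [Finset.mul_sum]
          refine Finset.sum_congr rfl fun v _ => ?_
          rw [mul_left_comm, ← ε_add]
          congr 2
          simp only [map_add, AddMonoidHom.add_apply]
          abel
      _ = 0 := by rw [sum_char H, if_neg hne, mul_zero]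
  · simp

theorem intertwine (σ : V →+ V) (hσ : Function.Surjective σ) (s : V → ZMod 2)
    (hs : ∀ u v, s (u + v) = s u + s v + β (σ u) (σ v) + β u v) :
    ∃ g : (A β H)ˣ, ∀ u, (g : A β H) * e H u = ε (s u) • (e H (σ u) * g) := by
  set f : V → A β H := fun u => ε (s u) • e H (σ u) with hf
  have fmul : ∀ u v, f u * f v = ε (β u v) • f (u + v) := by
    intro u v
    simp only [hf, smul_mul_assoc, mul_smul_comm, e_mul, smul_smul, map_add]
    congr 1
    rw [← ε_add, ← ε_add, ← ε_add, hs]
    congr 1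
    linear_combination - (CharTwo.two_eq_zero (R := ZMod 2)) * (β u v)
  have hei : ∀ u v, ei H (v + u) * e H v = ε (β v u) • ei H u := by
    intro u v
    calc ei H (v + u) * e H v = ei H (v + u) * (e H v * e H u) * ei H u := by
          rw [mul_assoc, mul_assoc, e_ei, mul_one]
      _ = ε (β v u) • ei H u := by
          rw [e_mul, mul_smul_comm, ei_e, smul_mul_assoc, one_mul]
  set T : A β H → A β H := fun x => ∑ u, f u * x * ei H u with hT
  have hTmul : ∀ v x, T x * e H v = f v * T x := by
    intro v x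
    simp only [hT, Finset.sum_mul, Finset.mul_sum]
    refine (Fintype.sum_equiv (Equiv.addLeft v) _ _ fun u => ?_).symm
    show f v * (f u * x * ei H u) = f (v + u) * x * ei H (v + u) * e H v
    rw [mul_assoc _ (ei H (v + u)), hei, ← mul_assoc, ← mul_assoc, fmul]
    simp only [smul_mul_assoc, mul_smul_comm]
  obtain ⟨x, hx⟩ : ∃ x, T x ≠ 0 := by
    by_contra! hall
    have hz : ∑ v, T (e H v) * ei H v = 0 := by simp [hall]
    simp only [hT, Finset.sum_mul] at hz
    rw [Finset.sum_comm] at hz
    have : ∀ u v, f u * e H v * ei H u * ei H v = ε (β u v + β v u) • (f u * ei H u) := by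
      intro u v
      have h1 : e H v * ei H u = ε (β u v + β v u) • (ei H u * e H v) := by
        rw [ei, mul_smul_comm, e_swap, smul_mul_assoc, smul_smul, smul_smul, mul_comm]
      rw [mul_assoc (f u), h1, mul_smul_comm, smul_mul_assoc, ← mul_assoc, mul_assoc _ _ (ei H v),
        e_ei, mul_one]
    simp only [this, ← Finset.sum_smul, sum_char H, ite_smul, one_smul, zero_smul,
      Finset.sum_ite_eq', Finset.mem_univ, if_true] at hz
    have hs0 : s 0 = 0 := by simpa using hs 0 0
    have h0 : f 0 * ei H 0 = 1 := by simp [hf, hs0, ε_zero, ei, e_zero]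
    rw [h0] at hz
    have h1 := congrFun (congrArg (coef H) hz) 0
    rw [← e_zero H, coef_e] at h1
    simp [coef] at h1
  set g := T x with hg
  let I : Submodule (ZMod 3) (A β H) := LinearMap.range (LinearMap.mulLeft (ZMod 3) g)
  have hle : ∀ v, ∀ a ∈ I, e H v * a * ei H v ∈ I := by
    rintro v _ ⟨a, rfl⟩
    obtain ⟨u, rfl⟩ := hσ v
    refine ⟨ε (s u) • (e H u * a * ei H (σ u)), ?_⟩
    show g * _ = e H (σ u) * (g * a) * ei H (σ u)
    rw [mul_smul_comm, ← mul_assoc, ← mul_assoc, hTmul, hf]
    simp only [smul_mul_assoc, smul_smul, ε_self, one_smul, mul_assoc]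
    rfl
  obtain ⟨w, hw⟩ : ∃ w, coef H g w ≠ 0 := by
    by_contra! h
    exact hx (by rw [← expand H g]; simp [h])
  have hP : coef H g w • e H w ∈ I := by
    rw [← proj H g w]
    exact Submodule.sum_mem _ fun v _ =>
      Submodule.smul_mem _ _ (hle v g ⟨1, mul_one g⟩)
  obtain ⟨a, ha⟩ := (Submodule.smul_mem_iff I hw).mp hP
  have h1 : g * (a * ei H w) = 1 := by
    rw [← mul_assoc, show g * a = e H w from ha, e_ei]
  haveI : Finite (A β H) :=
    Finite.of_injective (fun a => coef H a) fun a b hab => by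
      rw [← expand H a, ← expand H b]
      simp only [show coef H a = coef H b from hab]
  refine ⟨(IsUnit.of_mul_eq_one _ h1).unit, fun u => ?_⟩
  rw [IsUnit.unit_spec, hTmul, hf, smul_mul_assoc]

theorem exists_realization {K : Type*} [Group K] (ρ : K →* AddMonoid.End V)
    (hρ : Function.Injective ρ)
    (hs : ∀ k, ∃ s : V → ZMod 2, ∀ u v,
      s (u + v) = s u + s v + β (ρ k u) (ρ k v) + β u v) :
    ∃ (R : Type) (_ : Group R) (_ : Finite R) (π : R →* K) (Φ : Ext β ≃* π.ker),
      Function.Surjective π ∧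
        ∀ (r : R) (x : Ext β), ∃ c, r * (Φ x : R) * r⁻¹ = (Φ ⟨ρ (π r) x.v, c⟩ : R) := by
  classical
  haveI : Finite (A β H) :=
    Finite.of_injective (fun a => coef H a) fun a b hab => by
      rw [← expand H a, ← expand H b]
      simp only [show coef H a = coef H b from hab]
  haveI : Finite (A β H)ˣ := Finite.of_injective (fun u => (u : A β H)) (fun _ _ => Units.ext)
  have hρinv : ∀ (k : K) (u : V), ρ k (ρ k⁻¹ u) = u := fun k u => by
    show (ρ k * ρ k⁻¹) u = u
    rw [← map_mul, mul_inv_cancel, map_one]; rfl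
  let R : Subgroup (A β H)ˣ :=
    { carrier := {g | ∃ k, ∀ u, ∃ c, (g : A β H) * e H u = ε c • (e H (ρ k u) * g)}
      one_mem' := ⟨1, fun u => ⟨0, by simp [ε_zero]⟩⟩
      mul_mem' := by
        rintro g h ⟨k, hk⟩ ⟨l, hl⟩
        refine ⟨k * l, fun u => ?_⟩
        obtain ⟨c, hc⟩ := hl u
        obtain ⟨d, hd⟩ := hk (ρ l u)
        refine ⟨d + c, ?_⟩
        rw [Units.val_mul, mul_assoc, hc, mul_smul_comm, ← mul_assoc, hd, smul_mul_assoc, smul_smul,
          ε_add, mul_comm (ε c), mul_assoc, map_mul]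
        rfl
      inv_mem' := by
        rintro g ⟨k, hk⟩
        refine ⟨k⁻¹, fun u => ?_⟩
        obtain ⟨c, hc⟩ := hk (ρ k⁻¹ u)
        rw [hρinv] at hc
        refine ⟨c, ?_⟩
        calc (↑g⁻¹ : A β H) * e H u = ε c • ((↑g⁻¹ : A β H) * (ε c • (e H u * g)) * ↑g⁻¹) := by
              simp [mul_smul_comm, smul_mul_assoc, smul_smul, ε_self, mul_assoc]
          _ = ε c • (e H (ρ k⁻¹ u) * ↑g⁻¹) := by rw [← hc]; simp [← mul_assoc] }
  have huniq : ∀ (g : (A β H)ˣ) k l, (∀ u, ∃ c, (g : A β H) * e H u = ε c • (e H (ρ k u) * g)) →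
      (∀ u, ∃ c, (g : A β H) * e H u = ε c • (e H (ρ l u) * g)) → k = l := by
    intro g k l hk hl
    refine hρ (AddMonoidHom.ext fun u => ?_)
    obtain ⟨c, hc⟩ := hk u
    obtain ⟨d, hd⟩ := hl u
    have h := congrArg (fun a => a * (↑g⁻¹ : A β H)) (hc.symm.trans hd)
    simp only [smul_mul_assoc, mul_assoc, Units.mul_inv, mul_one] at h
    exact (smul_e_inj H (ε_ne c) h).1
  let π : R →* K :=
    { toFun := fun g => g.2.choose
      map_one' := huniq 1 _ _ (R.one_mem).choose_spec fun u => ⟨0, by simp [ε_zero]⟩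
      map_mul' := fun g h => huniq _ _ _ (R.mul_mem g.2 h.2).choose_spec fun u => by
        obtain ⟨c, hc⟩ := h.2.choose_spec u
        obtain ⟨d, hd⟩ := g.2.choose_spec (ρ h.2.choose u)
        refine ⟨d + c, ?_⟩
        rw [Units.val_mul, mul_assoc, hc, mul_smul_comm, ← mul_assoc, hd, smul_mul_assoc, smul_smul,
          ε_add, mul_comm (ε c), mul_assoc, map_mul]
        rfl }
  have hπ : ∀ (g : R) k, (∀ u, ∃ c, ((g : (A β H)ˣ) : A β H) * e H u =
      ε c • (e H (ρ k u) * (g : (A β H)ˣ))) → π g = k := fun g k hk =>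
    huniq _ _ _ g.2.choose_spec hk
  have hπspec : ∀ (g : R) u, ∃ c, ((g : (A β H)ˣ) : A β H) * e H u =
      ε c • (e H (ρ (π g) u) * (g : (A β H)ˣ)) := fun g u => g.2.choose_spec u
  have hsurj : Function.Surjective π := by
    intro k
    obtain ⟨s, hs⟩ := hs k
    obtain ⟨g, hg⟩ := intertwine H (ρ k) (fun u => ⟨_, hρinv k u⟩) s hs
    exact ⟨⟨g, k, fun u => ⟨_, hg u⟩⟩, hπ _ _ fun u => ⟨_, hg u⟩⟩
  let U : Ext β → (A β H)ˣ := fun x =>
    ⟨ε x.c • e H x.v, ε x.c • ei H x.v,
      by rw [smul_mul_assoc, mul_smul_comm, smul_smul, e_ei, ε_self, one_smul],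
      by rw [smul_mul_assoc, mul_smul_comm, smul_smul, ei_e, ε_self, one_smul]⟩
  have hU : ∀ x u, (U x : A β H) * e H u = ε (β u x.v + β x.v u) • (e H (ρ 1 u) * (U x : A β H)) := by
    intro x u
    show ε x.c • e H x.v * e H u = _ • (e H (ρ 1 u) * (ε x.c • e H x.v))
    rw [map_one, smul_mul_assoc, e_swap, mul_smul_comm, smul_smul, smul_smul, mul_comm]
    rfl
  have hUR : ∀ x, U x ∈ R := fun x => ⟨1, fun u => ⟨_, hU x u⟩⟩
  let Φ₀ : Ext β →* π.ker :=
    { toFun := fun x => ⟨⟨U x, hUR x⟩, hπ _ _ fun u => ⟨_, hU x u⟩⟩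
      map_one' := Subtype.ext (Subtype.ext (Units.ext (by
        show ε 0 • e H 0 = 1
        rw [e_zero, ε_zero, one_smul])))
      map_mul' := fun x y => Subtype.ext (Subtype.ext (Units.ext (by
        show ε (x.c + y.c + β x.v y.v) • e H (x.v + y.v) =
          ε x.c • e H x.v * ε y.c • e H y.v
        rw [smul_mul_assoc, mul_smul_comm, e_mul, smul_smul, smul_smul, ε_add, ε_add, mul_assoc]))) }
  have hbij : Function.Bijective Φ₀ := by
    constructor
    · intro x y h
      have h' : ε x.c • e H x.v = ε y.c • e H y.v :=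
        congrArg (fun z : π.ker => (((z : R) : (A β H)ˣ) : A β H)) h
      obtain ⟨hv, hc⟩ := smul_e_inj H (ε_ne _) h'
      exact Ext.ext hv (ε_inj hc)
    · rintro ⟨g, hg⟩
      set a : A β H := ((g : (A β H)ˣ) : A β H) with ha
      have hcomm : ∀ v, ∃ c, e H v * a * ei H v = ε c • a := by
        intro v
        obtain ⟨c, hc⟩ := hπspec g v
        rw [MonoidHom.mem_ker.mp hg, map_one] at hc
        refine ⟨c, ?_⟩
        have hc' : e H v * a = ε c • (a * e H v) := by
          rw [hc, smul_smul, ε_self, one_smul]; rfl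
        rw [hc', smul_mul_assoc, mul_assoc, e_ei, mul_one]
      choose c hc using hcomm
      haveI : Nontrivial (A β H) := ⟨⟨e H 0, 0, fun h => by
        have h1 := congrFun (congrArg (coef H) h) 0
        rw [coef_e] at h1
        simp [coef] at h1⟩⟩
      obtain ⟨w, hw⟩ : ∃ w, coef H a w ≠ 0 := by
        by_contra! h
        refine (g : (A β H)ˣ).ne_zero ?_
        rw [← ha, ← expand H a]
        simp [h]
      have hp := proj H a w
      simp only [hc, smul_smul, ← Finset.sum_smul] at hp
      set S := ∑ v, ε (β w v + β v w) * ε (c v) with hS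
      have hS0 : S ≠ 0 := fun h => by
        rw [h, zero_smul, ← zero_smul (ZMod 3) (e H w)] at hp
        exact hw (smul_e_inj H hw hp.symm).2
      obtain ⟨d, hd⟩ := ε_cases (mul_ne_zero (inv_ne_zero hS0) hw)
      refine ⟨⟨w, d⟩, Subtype.ext (Subtype.ext (Units.ext ?_))⟩
      show ε d • e H w = a
      rw [← hd, mul_smul, ← hp, smul_smul, inv_mul_cancel₀ hS0, one_smul]
  refine ⟨R, inferInstance, inferInstance, π, MulEquiv.ofBijective Φ₀ hbij, hsurj, fun r x => ?_⟩
  obtain ⟨c, hc⟩ := hπspec r x.v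
  refine ⟨x.c + c, Subtype.ext (Units.ext ?_)⟩
  show ((r : (A β H)ˣ) : A β H) * (ε x.c • e H x.v) * ((r⁻¹ : R) : (A β H)ˣ) =
    ε (x.c + c) • e H (ρ (π r) x.v)
  rw [mul_smul_comm, smul_mul_assoc, hc, smul_mul_assoc, smul_smul, ← ε_add, mul_assoc]
  simp

omit H in
/-- An alternating form over `F₂` is the polar form of a quadratic function. -/
theorem exists_refine {m : ℕ} (δ : LinearMap.BilinForm (ZMod 2) (Fin m → ZMod 2))
    (hδ : ∀ u, δ u u = 0) : ∃ s : (Fin m → ZMod 2) → ZMod 2, ∀ u v, s (u + v) = s u + s v + δ u v := by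
  let b := Pi.basisFun (ZMod 2) (Fin m)
  let γ : LinearMap.BilinForm (ZMod 2) (Fin m → ZMod 2) :=
    b.constr (S := ZMod 2) fun i => b.constr (S := ZMod 2) fun j => if i < j then δ (b i) (b j) else 0
  have hγb : ∀ i j, γ (b i) (b j) = if i < j then δ (b i) (b j) else 0 := fun i j => by simp only [γ, Module.Basis.constr_basis]
  have hsymm : ∀ u v, δ u v = δ v u := fun u v => by
    have h := hδ (u + v)
    simp only [map_add, LinearMap.add_apply, hδ, zero_add, add_zero] at h
    have : ∀ a b : ZMod 2, a + b = 0 → b = a := by decide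
    exact this _ _ h
  have hsum : γ + γ.flip = δ := by
    refine b.ext fun i => b.ext fun j => ?_
    simp only [LinearMap.add_apply, LinearMap.BilinForm.flip_apply, hγb]
    rcases lt_trichotomy i j with h | h | h
    · simp [h, h.not_gt]
    · subst h; simp [hδ]
    · simp [h, h.not_gt, hsymm]
  refine ⟨fun u => γ u u, fun u v => ?_⟩
  rw [← hsum]
  simp only [map_add, LinearMap.add_apply, LinearMap.BilinForm.flip_apply]
  abel

end Cfsg.Agent.H63.Twist
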